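import Mathlib

/-!
A 2-subgroup that is maximal in a given subgroup up to conjugation, and extremal conjugates.
-/

set_option autoImplicit false
set_option linter.style.haveILetI false
set_option linter.unusedSectionVars false

namespace CfsgLib.M12Syl

variable {G : Type*} [Group G]

/-- every 2-subgroup of `D` is conjugate in `D` into `S` -/
structure SylIn (D S : Subgroup G) : Prop where
  le : S ≤ D
  two : IsPGroup 2 S
  absorb : ∀ Y : Subgroup G, Y ≤ D → IsPGroup 2 Y → ∃ d ∈ D, ∀ y ∈ Y, d * y * d⁻¹ ∈ S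

variable [Finite G]

theorem sylIn_exists (D : Subgroup G) : ∀ R : Subgroup G, R ≤ D → IsPGroup 2 R →
    ∃ S : Subgroup G, SylIn D S ∧ R ≤ S := by
  haveI := Fact.mk Nat.prime_two
  intro R hR hR2
  obtain ⟨Q, hQ⟩ := (hR2.comap_subtype :
    IsPGroup 2 (R.subgroupOf D : Subgroup D)).exists_le_sylow
  refine ⟨(Q : Subgroup D).map D.subtype,
    ⟨Subgroup.map_subtype_le _, Q.isPGroup'.map _, fun Y hY hY2 => ?_⟩,
    fun x hx => ⟨⟨x, hR hx⟩, hQ hx, rfl⟩⟩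
  obtain ⟨T, hT⟩ := (hY2.comap_subtype :
    IsPGroup 2 (Y.subgroupOf D : Subgroup D)).exists_le_sylow
  obtain ⟨d, hd⟩ := MulAction.exists_smul_eq D T Q
  refine ⟨d, d.2, fun y hy => ?_⟩
  have : d * ⟨y, hY hy⟩ * d⁻¹ ∈ (Q : Subgroup D) := by
    rw [← hd]; exact ⟨⟨y, hY hy⟩, hT hy, rfl⟩
  exact ⟨_, this, rfl⟩

theorem sylIn_top (S : Sylow 2 G) : SylIn ⊤ (S : Subgroup G) := by
  haveI := Fact.mk Nat.prime_two
  refine ⟨le_top, S.isPGroup', fun Y _ hY => ?_⟩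
  obtain ⟨T, hT⟩ := hY.exists_le_sylow
  obtain ⟨d, hd⟩ := MulAction.exists_smul_eq G T S
  exact ⟨d, Subgroup.mem_top d, fun y hy => hd ▸ ⟨y, hT hy, rfl⟩⟩

theorem SylIn.card_dvd {D S : Subgroup G} (h : SylIn D S) {Y : Subgroup G} (hY : Y ≤ D)
    (hY2 : IsPGroup 2 Y) : Nat.card Y ∣ Nat.card S := by
  obtain ⟨d, -, hd⟩ := h.absorb Y hY hY2
  have hle : Y.map (MulAut.conj d).toMonoidHom ≤ S := by
    rintro _ ⟨y, hy, rfl⟩; exact hd y hy
  have := Subgroup.card_dvd_of_le hle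
  rwa [Subgroup.card_map_of_injective (MulEquiv.injective _)] at this

theorem SylIn.card_le {D S : Subgroup G} (h : SylIn D S) {Y : Subgroup G} (hY : Y ≤ D)
    (hY2 : IsPGroup 2 Y) : Nat.card Y ≤ Nat.card S :=
  Nat.le_of_dvd Nat.card_pos (h.card_dvd hY hY2)

/-- An element of `D` has a conjugate `w` in `S` whose centraliser in `S` absorbs all
2-subgroups centralising a conjugate of `w`. -/
theorem SylIn.extremal {D S : Subgroup G} (h : SylIn D S) {x : G} (hxD : x ∈ D)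
    (hx : IsPGroup 2 (Subgroup.zpowers x)) :
    ∃ w ∈ S, ∃ d ∈ D, d * x * d⁻¹ = w ∧ ∀ u ∈ D, (∃ c ∈ D, c * u * c⁻¹ = w) →
      ∀ Y : Subgroup G, Y ≤ D → IsPGroup 2 Y → (∀ y ∈ Y, y * u = u * y) →
      ∃ g ∈ D, g * u * g⁻¹ = w ∧ ∀ y ∈ Y, g * y * g⁻¹ ∈ S := by
  have hzD : Subgroup.zpowers x ≤ D ⊓ Subgroup.centralizer ({x} : Set G) := by
    rw [Subgroup.zpowers_le]
    exact Subgroup.mem_inf.2 ⟨hxD, Subgroup.mem_centralizer_singleton_iff.2 rfl⟩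
  obtain ⟨R, hR, hxR⟩ := sylIn_exists (D ⊓ Subgroup.centralizer ({x} : Set G)) _ hzD hx
  obtain ⟨d, hd, hdR⟩ := h.absorb R (hR.le.trans inf_le_left) hR.two
  refine ⟨d * x * d⁻¹, hdR x (hxR (Subgroup.mem_zpowers x)), d, hd, rfl, fun u _ hu Y hY hY2 hYu => ?_⟩
  obtain ⟨c, hc, hcu⟩ := hu
  obtain ⟨e, he, heY⟩ := hR.absorb (Y.map (MulAut.conj (d⁻¹ * c)).toMonoidHom) (by
    rintro _ ⟨y, hy, rfl⟩
    refine Subgroup.mem_inf.2 ⟨mul_mem (mul_mem (mul_mem (inv_mem hd) hc) (hY hy))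
      (inv_mem (mul_mem (inv_mem hd) hc)), Subgroup.mem_centralizer_singleton_iff.2 ?_⟩
    show d⁻¹ * c * y * (d⁻¹ * c)⁻¹ * x = x * (d⁻¹ * c * y * (d⁻¹ * c)⁻¹)
    have hx' : x = d⁻¹ * c * u * (d⁻¹ * c)⁻¹ := by
      rw [show d⁻¹ * c * u * (d⁻¹ * c)⁻¹ = d⁻¹ * (c * u * c⁻¹) * d by group, hcu]; group
    rw [hx', show d⁻¹ * c * y * (d⁻¹ * c)⁻¹ * (d⁻¹ * c * u * (d⁻¹ * c)⁻¹) =
      d⁻¹ * c * (y * u) * (d⁻¹ * c)⁻¹ by group, hYu y hy]
    group) (hY2.map _)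
  obtain ⟨heD, hec⟩ := Subgroup.mem_inf.1 he
  refine ⟨d * e * (d⁻¹ * c), mul_mem (mul_mem hd heD) (mul_mem (inv_mem hd) hc), ?_, fun y hy => ?_⟩
  · rw [show d * e * (d⁻¹ * c) * u * (d * e * (d⁻¹ * c))⁻¹ =
      d * e * (d⁻¹ * (c * u * c⁻¹) * d) * e⁻¹ * d⁻¹ by group, hcu,
      show d⁻¹ * (d * x * d⁻¹) * d = x by group]
    rw [show d * e * x * e⁻¹ = d * (e * x) * e⁻¹ by group,
      Subgroup.mem_centralizer_singleton_iff.1 hec]
    group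
  · have := hdR _ (heY _ ⟨y, hy, rfl⟩)
    have e' : d * e * (d⁻¹ * c) * y * (d * e * (d⁻¹ * c))⁻¹ =
        d * (e * (d⁻¹ * c * y * (d⁻¹ * c)⁻¹) * e⁻¹) * d⁻¹ := by group
    rw [e']
    exact this

/-- If `S` centralises `z`, it has the same property in the centraliser of `z`. -/
theorem SylIn.center {D S : Subgroup G} (h : SylIn D S) {z : G}
    (hz : ∀ s ∈ S, s * z = z * s) : SylIn (D ⊓ Subgroup.centralizer ({z} : Set G)) S := by
  have hle : S ≤ D ⊓ Subgroup.centralizer ({z} : Set G) :=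
    le_inf h.le fun s hs => Subgroup.mem_centralizer_singleton_iff.2 (hz s hs)
  obtain ⟨S', hS', hSS'⟩ := sylIn_exists _ S hle h.two
  have : S = S' := Subgroup.eq_of_le_of_card_ge hSS' (h.card_le (hS'.le.trans inf_le_left) hS'.two)
  exact this ▸ hS'

/-- 2-subgroups centralising a conjugate of a central element of `S` move into `S` with it. -/
theorem SylIn.to_center {D S : Subgroup G} (h : SylIn D S) {z : G} (hz : ∀ s ∈ S, s * z = z * s)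
    {u : G} (hu : ∃ c ∈ D, c * u * c⁻¹ = z) {Y : Subgroup G} (hY : Y ≤ D) (hY2 : IsPGroup 2 Y)
    (hYu : ∀ y ∈ Y, y * u = u * y) :
    ∃ g ∈ D, g * u * g⁻¹ = z ∧ ∀ y ∈ Y, g * y * g⁻¹ ∈ S := by
  obtain ⟨c, hc, hcu⟩ := hu
  obtain ⟨e, he, heY⟩ := (h.center hz).absorb (Y.map (MulAut.conj c).toMonoidHom) (by
    rintro _ ⟨y, hy, rfl⟩
    refine Subgroup.mem_inf.2 ⟨mul_mem (mul_mem hc (hY hy)) (inv_mem hc),
      Subgroup.mem_centralizer_singleton_iff.2 ?_⟩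
    show c * y * c⁻¹ * z = z * (c * y * c⁻¹)
    rw [← hcu, show c * y * c⁻¹ * (c * u * c⁻¹) = c * (y * u) * c⁻¹ by group, hYu y hy]
    group) (hY2.map _)
  obtain ⟨heD, hec⟩ := Subgroup.mem_inf.1 he
  refine ⟨e * c, mul_mem heD hc, ?_, fun y hy => ?_⟩
  · rw [show e * c * u * (e * c)⁻¹ = e * (c * u * c⁻¹) * e⁻¹ by group, hcu,
      Subgroup.mem_centralizer_singleton_iff.1 hec]
    group
  · rw [show e * c * y * (e * c)⁻¹ = e * (c * y * c⁻¹) * e⁻¹ by group]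
    exact heY _ ⟨y, hy, rfl⟩

end CfsgLib.M12Syl
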