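import Cfsg.Agent.Lib.M12Syl.Table
import Cfsg.Agent.Lib.M12Recog.Main

/-!
Recognition of M12 by a Sylow 2-subgroup.
-/

set_option autoImplicit false
set_option linter.style.haveILetI false
set_option linter.unusedSectionVars false
set_option maxHeartbeats 1000000

namespace CfsgLib.M12Syl

open CfsgLib.M12Recog CfsgLib.Golay CfsgLib.Golay.Mult CfsgLib.Golay.SylowTwo

/-- Two subgroups described by the same table are isomorphic. -/
theorem rep_equiv {N : ℕ} {m : ℕ → ℕ → ℕ} {G X : Type*} [Group G] [Group X] {H : Subgroup G}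
    {H' : Subgroup X} {f : ℕ → G} {f' : ℕ → X} (R : Rep N m H f) (R' : Rep N m H' f') :
    Nonempty (H ≃* H') := by
  have hsurj : ∀ x : H, ∃ i : Fin N, f i = (x : G) := fun x => by
    obtain ⟨i, hi, e⟩ := R.surj x x.2
    exact ⟨⟨i, hi⟩, e⟩
  choose F hF using hsurj
  let θ : H →* H' :=
    MonoidHom.mk' (fun x => ⟨f' (F x), R'.mem _ (F x).2⟩) fun x y => Subtype.ext (by
      show f' (F (x * y)) = f' (F x) * f' (F y)
      rw [← R'.mul _ (F x).2 _ (F y).2]
      congr 1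
      refine R.inj _ (F (x * y)).2 _ (R.lt _ (F x).2 _ (F y).2) ?_
      rw [R.mul _ (F x).2 _ (F y).2, hF, hF, hF, Subgroup.coe_mul])
  refine ⟨MulEquiv.ofBijective θ ⟨fun x y h => Subtype.ext ?_, fun y => ?_⟩⟩
  · rw [← hF x, ← hF y, R'.inj _ (F x).2 _ (F y).2 (congrArg Subtype.val h)]
  · obtain ⟨i, hi, e⟩ := R'.surj y y.2
    refine ⟨⟨f i, R.mem i hi⟩, Subtype.ext ?_⟩
    show f' (F ⟨f i, R.mem i hi⟩) = (y : X)
    rw [R.inj _ (F ⟨f i, R.mem i hi⟩).2 i hi (hF ⟨f i, R.mem i hi⟩), e]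

/-- The table of the Sylow subgroup of M12 gives a Sylow subgroup. -/
theorem exists_sylow_m12 : ∃ Q : Sylow 2 ↥Cfsg.Spor.M12, (Q : Subgroup ↥Cfsg.Spor.M12) = rep0.sub sylH := by
  haveI := Fact.mk Nat.prime_two
  obtain ⟨hs, hnd, hlen, -⟩ := sylH_ok
  refine ⟨Sylow.ofCard (rep0.sub sylH) ?_, Sylow.coe_ofCard _ _⟩
  rw [rep0.card_sub hs hnd, hlen, Twelve.card_twelve,
    show (95040 : ℕ) = 2 ^ 6 * 1485 by norm_num, Nat.factorization_mul (by norm_num) (by norm_num),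
    Finsupp.add_apply, Nat.factorization_pow, Finsupp.smul_apply,
    Nat.Prime.factorization_self Nat.prime_two,
    Nat.factorization_eq_zero_of_not_dvd (show ¬ 2 ∣ 1485 by norm_num)]
  rfl

theorem iC_twoCentral : Cfsg.IsTwoCentralInvolution (f0 iC) := by
  obtain ⟨hs, -, -, hcomm, -, hC⟩ := sylH_ok
  obtain ⟨Q, hQ⟩ := exists_sylow_m12
  refine ⟨orderOf_eq_prime ?_ ?_, Q, ?_, fun x hx => ?_⟩
  · rw [pow_two, ← f0_mul iC iC_lt iC iC_lt, show mH iC iC = 0 by decide +kernel]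
    exact rep0.one
  · exact fun e => absurd ((f0_eq_one_iff iC_lt).1 e) (by decide)
  · show f0 iC ∈ (Q : Subgroup ↥Cfsg.Spor.M12)
    rw [hQ]
    exact (rep0.mem_sub hs).2 ⟨iC, List.contains_iff_mem.1 hC, rfl⟩
  · have hx' : x ∈ rep0.sub sylH := hQ ▸ hx
    obtain ⟨i, hi, rfl⟩ := (rep0.mem_sub hs).1 hx'
    have h := hs
    simp only [subOK, Bool.and_eq_true, List.all_eq_true, Nat.blt_eq] at h
    exact f0_comm (h.2 i hi).1.1

/-- A Sylow subgroup isomorphic to that of M12 is described by the table. -/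
theorem exists_phyp {G : Type*} [Group G] (S : Subgroup G) (P : Sylow 2 ↥Cfsg.Spor.M12)
    (hS : Nonempty (S ≃* ↥(P : Subgroup ↥Cfsg.Spor.M12))) : ∃ φ : ℕ → G, PHyp φ S := by
  classical
  haveI := Fact.mk Nat.prime_two
  obtain ⟨hs, hnd, hlen, -⟩ := sylH_ok
  obtain ⟨Q, hQ⟩ := exists_sylow_m12
  obtain ⟨e⟩ := hS
  let E : ↥(rep0.sub sylH) ≃* S :=
    ((MulEquiv.subgroupCongr hQ.symm).trans (Sylow.equiv Q P)).trans e.symm
  have hmem : ∀ i ∈ sylH, f0 i ∈ rep0.sub sylH := fun i hi => (rep0.mem_sub hs).2 ⟨i, hi, rfl⟩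
  let φ : ℕ → G := fun i => if h : f0 i ∈ rep0.sub sylH then (E ⟨f0 i, h⟩ : G) else 1
  have hval : ∀ i (hi : i ∈ sylH), φ i = (E ⟨f0 i, hmem i hi⟩ : G) := fun i hi => dif_pos (hmem i hi)
  have hlt := syl_lt
  refine ⟨φ, fun i hi => by rw [hval i hi]; exact SetLike.coe_mem _, fun x hx => ?_,
    fun i hi j hj h => ?_, fun i hi j hj => ?_⟩
  · obtain ⟨i, hi, ei⟩ := (rep0.mem_sub hs).1 (E.symm ⟨x, hx⟩).2
    refine ⟨i, hi, ?_⟩
    rw [hval i hi, show (⟨f0 i, hmem i hi⟩ : ↥(rep0.sub sylH)) = E.symm ⟨x, hx⟩ from Subtype.ext ei,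
      MulEquiv.apply_symm_apply]
  · rw [hval i hi, hval j hj] at h
    exact f0_inj i (hlt i hi) j (hlt j hj) (congrArg Subtype.val (E.injective (Subtype.ext h)) :)
  · rw [hval i hi, hval j hj, hval _ (syl_closed i hi j hj), ← Subgroup.coe_mul, ← map_mul]
    congr 2
    exact Subtype.ext (f0_mul i (hlt i hi) j (hlt j hj))

/-- **M12 from its Sylow 2-subgroup**, given in table form. -/
theorem isoM12_of_phyp {G : Type*} [Group G] [Finite G] [IsSimpleGroup G] (hna : ¬ IsMulCommutative G)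
    (P : Sylow 2 G) {φ : ℕ → G} (K : PHyp φ (P : Subgroup G))
    (htwo : ∃ a b : G, orderOf a = 2 ∧ orderOf b = 2 ∧ ¬ IsConj a b) : Cfsg.Spor.IsoM12 G := by
  obtain ⟨ψ, K', F⟩ := K.exists_fus hna P rfl htwo
  obtain ⟨χ, R, -⟩ := K'.exists_rep192 (sylIn_top P) F
  obtain ⟨e⟩ := rep_equiv R rep0
  exact isoM12 hna iC_twoCentral K'.t_order e

/-- A simple group with two classes of involutions is not commutative. -/
theorem not_comm_of_two_classes {G : Type*} [Group G] [IsSimpleGroup G]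
    (h : ∃ x y : G, orderOf x = 2 ∧ orderOf y = 2 ∧ ¬ IsConj x y) : ¬ IsMulCommutative G := by
  intro hc
  obtain ⟨x, y, hx, hy, hxy⟩ := h
  haveI : (Subgroup.zpowers x).Normal := ⟨fun n hn g => by rwa [hc.is_comm.comm g n, mul_inv_cancel_right]⟩
  have hy' : y ∈ Subgroup.zpowers x := by
    rcases Subgroup.Normal.eq_bot_or_eq_top (H := Subgroup.zpowers x) inferInstance with e | e
    · have : x = 1 := Subgroup.zpowers_eq_bot.1 e
      rw [this, orderOf_one] at hx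
      omega
    · rw [e]; exact Subgroup.mem_top y
  obtain ⟨k, rfl⟩ := Subgroup.mem_zpowers_iff.1 hy'
  rw [← zpow_mod_orderOf, hx] at hy hxy
  rcases Int.emod_two_eq_zero_or_one k with e | e <;>
    simp only [Nat.cast_ofNat, e, zpow_zero, zpow_one] at hy hxy
  · rw [orderOf_one] at hy; omega
  · exact hxy (IsConj.refl x)

end CfsgLib.M12Syl
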