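import Cfsg.Agent.Lib.SmallCent.Klein
import Cfsg.Agent.Lib.Invol.StronglyEmbedded
import Cfsg.Agent.Lib.Coprime.Generation

/-!
A bound on the odd kernel of a strongly embedded subgroup when the Sylow 2-subgroups are four-groups.
-/

set_option autoImplicit false
set_option linter.style.haveILetI false
set_option linter.unusedSectionVars false

namespace CfsgLib.M12Syl

open CfsgLib

variable {X : Type*} [Group X] [Finite X]

theorem sq_inj_odd {W : Subgroup X} (hodd : ¬ 2 ∣ Nat.card W) {u v : X} (hu : u ∈ W) (hv : v ∈ W)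
    (h : u * u = v * v) : u = v := by
  obtain ⟨k, hk⟩ : ∃ k, Nat.card W = 2 * k + 1 := ⟨Nat.card W / 2, by omega⟩
  have key : ∀ {z : X}, z ∈ W → (z * z) ^ (k + 1) = z := fun {z} hz => by
    rw [← pow_two, ← pow_mul, show 2 * (k + 1) = Nat.card W + 1 by omega, pow_succ,
      show z ^ Nat.card W = 1 from congrArg Subtype.val (pow_card_eq_one' (x := (⟨z, hz⟩ : W))), one_mul]
  rw [← key hu, h, key hv]

/-- Commuting involutions acting on a subgroup of odd order: the product of the orders of the three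
centralisers is at most the order times the square of the order of the joint centraliser. -/
theorem four_fixed_le {W : Subgroup X} (hodd : ¬ 2 ∣ Nat.card W) {a b : X} (ha : a * a = 1)
    (hb : b * b = 1) (hab : a * b = b * a) (haW : a ∈ Subgroup.normalizer (W : Set X)) :
    Nat.card ↥(W ⊓ Subgroup.centralizer ({a} : Set X)) * Nat.card ↥(W ⊓ Subgroup.centralizer ({b} : Set X)) *
      Nat.card ↥(W ⊓ Subgroup.centralizer ({a * b} : Set X)) ≤
    Nat.card W * Nat.card ↥(W ⊓ Subgroup.centralizer ({a} : Set X) ⊓ Subgroup.centralizer ({b} : Set X)) ^ 2 := by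
  classical
  haveI := Fintype.ofFinite X
  set A := W ⊓ Subgroup.centralizer ({a} : Set X) with hA
  set B := W ⊓ Subgroup.centralizer ({b} : Set X) with hB
  set C := W ⊓ Subgroup.centralizer ({a * b} : Set X) with hC
  set Y := A ⊓ Subgroup.centralizer ({b} : Set X) with hY
  have hai : a⁻¹ = a := inv_eq_of_mul_eq_one_right ha
  have hbi : b⁻¹ = b := inv_eq_of_mul_eq_one_right hb
  let f : A × B × C → W := fun p => ⟨p.1 * p.2.1 * p.2.2,
    mul_mem (mul_mem (Subgroup.mem_inf.1 p.1.2).1 (Subgroup.mem_inf.1 p.2.1.2).1)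
      (Subgroup.mem_inf.1 p.2.2.2).1⟩
  have hfib : ∀ p q : A × B × C, f p = f q →
      ((q.1 : X)⁻¹ * p.1) ∈ Y ∧ ((q.2.1 : X)⁻¹ * ((q.1 : X)⁻¹ * p.1) * p.2.1) ∈ Y := by
    rintro ⟨α, β, γ⟩ ⟨α', β', γ'⟩ he
    obtain ⟨hαW, hαa⟩ := Subgroup.mem_inf.1 α.2
    obtain ⟨hαW', hαa'⟩ := Subgroup.mem_inf.1 α'.2
    obtain ⟨hβW, hβb⟩ := Subgroup.mem_inf.1 β.2
    obtain ⟨hβW', hβb'⟩ := Subgroup.mem_inf.1 β'.2
    set δ : X := (α' : X)⁻¹ * α with hδ
    set ε : X := (β' : X)⁻¹ * δ * β with hε
    have hδA : δ ∈ A := mul_mem (inv_mem α'.2) α.2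
    have hεW : ε ∈ W := mul_mem (mul_mem (inv_mem hβW') (Subgroup.mem_inf.1 hδA).1) hβW
    have hεC : ε ∈ C := by
      have h : (α : X) * β * γ = α' * β' * γ' := congrArg Subtype.val he
      have : ε = (γ' : X) * (γ : X)⁻¹ := by
        rw [hε, hδ, eq_mul_inv_iff_mul_eq]
        calc (β' : X)⁻¹ * ((α' : X)⁻¹ * α) * β * γ = (β' : X)⁻¹ * (α' : X)⁻¹ * (α * β * γ) := by group
          _ = γ' := by rw [h]; group
      rw [this]; exact mul_mem γ'.2 (inv_mem γ.2)
    have hαa1 := Subgroup.mem_centralizer_singleton_iff.1 (Subgroup.mem_inf.1 hδA).2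
    have hβ1 := Subgroup.mem_centralizer_singleton_iff.1 hβb
    have hβ1' := Subgroup.mem_centralizer_singleton_iff.1 hβb'
    have hε1 := Subgroup.mem_centralizer_singleton_iff.1 (Subgroup.mem_inf.1 hεC).2
    set u : X := a * β' * a * (β' : X)⁻¹ with hu
    set v : X := a * β * a * (β : X)⁻¹ with hv
    have haW' : ∀ w ∈ W, a * w * a ∈ W := fun w hw => by
      have := (Subgroup.mem_normalizer_iff.1 haW w).1 hw
      rwa [hai] at this
    have huW : u ∈ W := mul_mem (haW' _ hβW') (inv_mem hβW')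
    have hvW : v ∈ W := mul_mem (haW' _ hβW) (inv_mem hβW)
    have conj_a : ∀ (w : X), a * (a * w * a * w⁻¹) * a = w * a * w⁻¹ * a := fun w => by
      calc a * (a * w * a * w⁻¹) * a = (a * a) * w * a * w⁻¹ * a := by group
        _ = w * a * w⁻¹ * a := by rw [ha, one_mul]
    have inv_a : ∀ (w : X), (a * w * a * w⁻¹)⁻¹ = w * a * w⁻¹ * a := fun w => by
      simp only [mul_inv_rev, inv_inv, hai]; group
    -- `δ^b = u δ v⁻¹`
    have hdb : b * δ * b = u * δ * v⁻¹ := by
      have e1 : a * b * ε * (a * b) = ε := by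
        rw [← hε1, mul_assoc ε, show a * b * (a * b) = (a * a) * (b * b) by
          rw [show a * b * (a * b) = a * (b * a) * b by group, ← hab]; group, ha, hb]
        simp
      have e2 : a * b * ε * (a * b) =
          (a * β' * a)⁻¹ * (b * δ * b) * (a * β * a) := by
        have eβ : b * (β : X) * b = β := by rw [← hβ1, mul_assoc, hb, mul_one]
        have eβ' : b * (β' : X)⁻¹ * b = (β' : X)⁻¹ := by
          have h' : b * (β' : X) * b = β' := by rw [← hβ1', mul_assoc, hb, mul_one]
          conv_rhs => rw [← h']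
          simp only [mul_inv_rev, hbi]; group
        have eδ : a * δ * a = δ := by rw [← hαa1, mul_assoc, ha, mul_one]
        calc a * b * ε * (a * b) = a * b * ((β' : X)⁻¹ * δ * β) * (b * a) := by rw [hε, hab]
          _ = a * (b * (β' : X)⁻¹ * b) * (b⁻¹ * δ * b⁻¹) * (b * β * b) * a := by group
          _ = a * (β' : X)⁻¹ * (b * δ * b) * β * a := by rw [eβ, eβ', hbi]
          _ = (a * (β' : X)⁻¹ * a) * (a⁻¹ * (b * δ * b) * a⁻¹) * (a * β * a) := by group
          _ = (a * β' * a)⁻¹ * (b * δ * b) * (a * β * a) := by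
              rw [hai, show a * (b * δ * b) * a = b * δ * b by
                calc a * (b * δ * b) * a = (a * b) * δ * (b * a) := by group
                  _ = (b * a) * δ * (a * b) := by rw [hab]
                  _ = b * (a * δ * a) * b := by group
                  _ = b * δ * b := by rw [eδ]]
              simp only [mul_inv_rev, hai]; group
      have h := e1.symm.trans e2
      calc b * δ * b = (a * β' * a) * ε * (a * β * a)⁻¹ := by rw [h]; group
        _ = u * δ * v⁻¹ := by rw [hu, hv, hε]; group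
    have haδb : a * (b * δ * b) * a = b * δ * b := by
      have eδ : a * δ * a = δ := by rw [← hαa1, mul_assoc, ha, mul_one]
      calc a * (b * δ * b) * a = (a * b) * δ * (b * a) := by group
        _ = (b * a) * δ * (a * b) := by rw [hab]
        _ = b * (a * δ * a) * b := by group
        _ = b * δ * b := by rw [eδ]
    have hsq : u * u = (δ * v * δ⁻¹) * (δ * v * δ⁻¹) := by
      have eδ : a * δ * a = δ := by rw [← hαa1, mul_assoc, ha, mul_one]
      have e3 : b * δ * b = u⁻¹ * δ * v := by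
        rw [← haδb, hdb, hu, hv, inv_a, inv_a]
        calc a * (a * (β' : X) * a * (β' : X)⁻¹ * δ * ((β : X) * a * (β : X)⁻¹ * a)) * a
            = a * (a * (β' : X) * a * (β' : X)⁻¹) * a * (a⁻¹ * δ * a⁻¹) * (a * ((β : X) * a * (β : X)⁻¹ * a) * a) := by
              group
          _ = (β' : X) * a * (β' : X)⁻¹ * a * δ * (a * (β : X) * a * (β : X)⁻¹) := by
              rw [conj_a, hai, eδ]
              congr 1
              calc a * ((β : X) * a * (β : X)⁻¹ * a) * a = a * (β : X) * a * (β : X)⁻¹ * (a * a) := by group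
                _ = _ := by rw [ha, mul_one]
      have h := hdb.symm.trans e3
      calc u * u = u * (u * δ * v⁻¹) * v * δ⁻¹ := by group
        _ = u * (u⁻¹ * δ * v) * v * δ⁻¹ := by rw [h]
        _ = δ * v * δ⁻¹ * (δ * v * δ⁻¹) := by group
    have hδW := (Subgroup.mem_inf.1 hδA).1
    have hueq : u = δ * v * δ⁻¹ :=
      sq_inj_odd hodd huW (mul_mem (mul_mem hδW hvW) (inv_mem hδW)) hsq
    have hδb : δ * b = b * δ := by
      have : b * δ * b = δ := by rw [hdb, hueq]; group
      calc δ * b = b * δ * b * b := by rw [this]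
        _ = b * δ := by rw [mul_assoc, hb, mul_one]
    refine ⟨Subgroup.mem_inf.2 ⟨hδA, Subgroup.mem_centralizer_singleton_iff.2 hδb⟩, ?_⟩
    have hεb : ε * b = b * ε := by
      calc ε * b = (β' : X)⁻¹ * δ * (β * b) := by rw [hε]; group
        _ = (β' : X)⁻¹ * (δ * b) * β := by rw [hβ1]; group
        _ = (β' : X)⁻¹ * b * δ * β := by rw [hδb]; group
        _ = b * ε := by
            rw [hε, show (β' : X)⁻¹ * b = b * (β' : X)⁻¹ from (Commute.inv_left hβ1').eq]; group
    have hεa : ε * a = a * ε := by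
      calc ε * a = ε * (a * b) * b := by rw [← mul_assoc ε, mul_assoc (ε * a), hb, mul_one]
        _ = a * (b * ε) * b := by rw [hε1]; group
        _ = a * (ε * b) * b := by rw [hεb]
        _ = a * ε := by rw [← mul_assoc, mul_assoc (a * ε), hb, mul_one]
    exact Subgroup.mem_inf.2 ⟨Subgroup.mem_inf.2 ⟨hεW, Subgroup.mem_centralizer_singleton_iff.2 hεa⟩,
      Subgroup.mem_centralizer_singleton_iff.2 hεb⟩
  have hle : Nat.card (A × B × C) ≤ Nat.card (W × Y × Y) := by
    have hchoose : ∀ w : W, ∃ q : A × B × C, (∃ p, f p = w) → f q = w := fun w =>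
      if h : ∃ p, f p = w then ⟨h.choose, fun _ => h.choose_spec⟩ else ⟨(1, 1, 1), fun h' => absurd h' h⟩
    choose r hr using hchoose
    let g : A × B × C → W × Y × Y := fun p =>
      (f p, ⟨_, (hfib p (r (f p)) (hr _ ⟨p, rfl⟩).symm).1⟩, ⟨_, (hfib p (r (f p)) (hr _ ⟨p, rfl⟩).symm).2⟩)
    refine Nat.card_le_card_of_injective g ?_
    rintro ⟨α, β, γ⟩ ⟨α', β', γ'⟩ e
    simp only [g, Prod.mk.injEq, Subtype.mk.injEq] at e
    obtain ⟨e1, e2, e3⟩ := e
    rw [e1] at e2 e3
    have hα : (α : X) = α' := mul_left_cancel e2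
    rw [hα] at e3
    have hβ : (β : X) = β' := mul_left_cancel e3
    have h : (α : X) * β * γ = α' * β' * γ' := congrArg Subtype.val e1
    rw [hα, hβ] at h
    exact Prod.ext (Subtype.ext hα) (Prod.ext (Subtype.ext hβ) (Subtype.ext (mul_left_cancel h)))
  rw [Nat.card_prod, Nat.card_prod, Nat.card_prod, Nat.card_prod, ← pow_two] at hle
  rw [mul_assoc]
  exact hle

/-- The bound on the sum over the principal block. -/
theorem sum_lower {ι : Type*} [DecidableEq ι] (Z : Finset ι) (a : ι → ℤ) (d : ι → ℕ) (hcard : Z.card = 3)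
    (hd : ∀ i ∈ Z, 0 < d i) (hpm : ∀ i ∈ Z, a i = 1 ∨ a i = -1)
    (hcong : ∀ i ∈ Z, (4 : ℤ) ∣ (d i : ℤ) - a i) (hsum : 1 + ∑ i ∈ Z, a i * (d i : ℤ) = 0) :
    (11 : ℚ) / 21 ≤ 1 + ∑ i ∈ Z, (a i : ℚ) / (d i : ℚ) := by
  obtain ⟨p, q, r, hpq, hpr, hqr, rfl⟩ := Finset.card_eq_three.mp hcard
  simp only [Finset.sum_insert (show p ∉ ({q, r} : Finset ι) by simp [hpq, hpr]),
    Finset.sum_pair hqr] at hsum ⊢
  have hp0 := hd p (by simp)
  have hq0 := hd q (by simp)
  have hr0 := hd r (by simp)
  have hneg : ∀ i ∈ ({p, q, r} : Finset ι), a i = -1 → 3 ≤ d i ∧ (d i = 3 ∨ 7 ≤ d i) := by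
    intro i hi h
    have h4 := hcong i hi
    rw [h] at h4
    have := hd i hi
    omega
  have one : ∀ n : ℕ, 0 < n → (0 : ℚ) < 1 / (n : ℚ) := fun n hn => by positivity
  have le3 : ∀ n : ℕ, 3 ≤ n → 1 / (n : ℚ) ≤ 1 / 3 := fun n hn =>
    one_div_le_one_div_of_le (by norm_num) (by exact_mod_cast hn)
  have le7 : ∀ n : ℕ, 7 ≤ n → 1 / (n : ℚ) ≤ 1 / 7 := fun n hn =>
    one_div_le_one_div_of_le (by norm_num) (by exact_mod_cast hn)
  have two : ∀ m n k : ℕ, (m = 3 ∨ 7 ≤ m) → (n = 3 ∨ 7 ≤ n) → 0 < k → m + n = k + 1 →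
      (11 : ℚ) / 21 ≤ 1 - 1 / (m : ℚ) - 1 / (n : ℚ) + 1 / (k : ℚ) := by
    intro m n k hm hn hk he
    have := one k hk
    rcases hm with hm | hm <;> rcases hn with hn | hn
    · subst hm hn
      obtain rfl : k = 5 := by omega
      norm_num
    · have := le7 n hn
      have := le3 m (by omega)
      linarith
    · have := le3 n (by omega)
      have := le7 m hm
      linarith
    · have := le7 n hn
      have := le7 m hm
      linarith
  have hn' : ∀ i, ((-1 : ℤ) : ℚ) / (d i : ℚ) = -(1 / (d i : ℚ)) := fun i => by push_cast; ring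
  rcases hpm p (by simp) with hp | hp <;> rcases hpm q (by simp) with hq | hq <;>
    rcases hpm r (by simp) with hr | hr <;> rw [hp, hq, hr] at hsum ⊢
  all_goals simp only [hn', Int.cast_one]
  · exfalso; omega
  · linarith [one _ hp0, one _ hq0, le3 _ (hneg r (by simp) hr).1]
  · linarith [one _ hp0, one _ hr0, le3 _ (hneg q (by simp) hq).1]
  · linarith [two _ _ _ (hneg q (by simp) hq).2 (hneg r (by simp) hr).2 hp0 (by omega)]
  · linarith [one _ hq0, one _ hr0, le3 _ (hneg p (by simp) hp).1]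
  · linarith [two _ _ _ (hneg p (by simp) hp).2 (hneg r (by simp) hr).2 hq0 (by omega)]
  · linarith [two _ _ _ (hneg p (by simp) hp).2 (hneg q (by simp) hq).2 hr0 (by omega)]
  · exfalso
    have h1 := (hneg p (by simp) hp).1
    have h2 := (hneg q (by simp) hq).1
    have h3 := (hneg r (by simp) hr).1
    omega

/-- Such a kernel is the largest normal subgroup of the whole group contained in `M`. -/
theorem klein_small_normal (P : Sylow 2 X) (hP : IsKleinFour (P : Subgroup X))
    (hone : ∀ s t : X, orderOf s = 2 → orderOf t = 2 → IsConj s t) {M : Subgroup X}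
    (hM : Cfsg.IsStronglyEmbedded M) (hPM : (P : Subgroup X) ≤ M) {W : Subgroup X} (hWM : W ≤ M)
    (hWn : M ≤ Subgroup.normalizer (W : Set X)) (hW : ¬ 2 ∣ Nat.card W)
    (hcent : ∀ v ∈ M, orderOf v = 2 → ∀ x ∈ M, x * v = v * x → ¬ 2 ∣ orderOf x → x ∈ W) :
    W = M.normalCore := by
  classical
  haveI := Fact.mk Nat.prime_two
  haveI := hP
  haveI := Fintype.ofFinite X
  -- involutions of the four-group
  obtain ⟨a, b, ha, hb, hab, hne, hone'⟩ : ∃ a b : X, a ∈ (P : Subgroup X) ∧ b ∈ (P : Subgroup X) ∧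
      a * b = b * a ∧ a ≠ b ∧ (orderOf a = 2 ∧ orderOf b = 2 ∧ orderOf (a * b) = 2) := by
    haveI : Nontrivial (P : Subgroup X) :=
      Finite.one_lt_card_iff_nontrivial.mp (by rw [IsKleinFour.card_four]; norm_num)
    obtain ⟨a, ha1⟩ := exists_ne (1 : (P : Subgroup X))
    obtain ⟨b, hb1, hba⟩ : ∃ b : (P : Subgroup X), b ≠ 1 ∧ b ≠ a := by
      by_contra h
      push Not at h
      have hle : Nat.card (P : Subgroup X) ≤ Nat.card Bool := Nat.card_le_card_of_injective
        (fun w => decide (w = 1)) fun x y hxy => by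
          simp only [decide_eq_decide] at hxy
          by_cases hx : x = 1
          · rw [hx, hxy.mp hx]
          · exact (h x hx).trans (h y fun e => hx (hxy.mpr e)).symm
      rw [IsKleinFour.card_four, Nat.card_eq_fintype_card, Fintype.card_bool] at hle
      omega
    have hord : ∀ z : (P : Subgroup X), z ≠ 1 → orderOf (z : X) = 2 := fun z hz =>
      Invol.orderOf_two_of_mul_self (congrArg Subtype.val (IsKleinFour.mul_self z))
        fun e => hz (Subtype.ext e)
    refine ⟨a, b, a.2, b.2, congrArg Subtype.val (IsKleinFour.isMulCommutative.is_comm.comm a b),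
      fun e => hba (Subtype.ext e.symm), hord a ha1, hord b hb1, hord (a * b) fun e => hba ?_⟩
    calc b = a * a * b := by rw [IsKleinFour.mul_self, one_mul]
      _ = a := by rw [mul_assoc, e, mul_one]
  obtain ⟨hoa, hob, hoab⟩ := hone'
  have haM := hPM ha
  have hbM := hPM hb
  have hsq : ∀ {z : X}, orderOf z = 2 → z * z = 1 := fun {z} h => by
    rw [← pow_two, ← h, pow_orderOf_eq_one]
  obtain ⟨u, hu, huM⟩ := Invol.strongly_exists_invol_not_mem hM
  have hconjM : ∀ {s t : X}, orderOf s = 2 → s ∈ M → orderOf t = 2 → t ∈ M →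
      ∃ d ∈ M, d * s * d⁻¹ = t := fun hs hsM ht htM => by
    obtain ⟨d, hd, e⟩ := Invol.strongly_inter_transitive hM hu huM hs hsM ht htM
    exact ⟨d, (Subgroup.mem_inf.1 hd).1, e⟩
  have hcardeq : ∀ {s t : X}, orderOf s = 2 → s ∈ M → orderOf t = 2 → t ∈ M →
      Nat.card ↥(W ⊓ Subgroup.centralizer ({t} : Set X)) ≤
        Nat.card ↥(W ⊓ Subgroup.centralizer ({s} : Set X)) := by
    intro s t hs hsM ht htM
    obtain ⟨d, hd, e⟩ := hconjM hs hsM ht htM
    refine Nat.card_le_card_of_injective (fun w => ⟨d⁻¹ * w * d, ?_⟩) fun w w' h => ?_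
    · obtain ⟨hw1, hw2⟩ := Subgroup.mem_inf.1 w.2
      refine Subgroup.mem_inf.2 ⟨?_, Subgroup.mem_centralizer_singleton_iff.2 ?_⟩
      · have := (Subgroup.mem_normalizer_iff.1 (hWn (inv_mem hd)) _).1 hw1
        rwa [inv_inv] at this
      · have h' : (w : X) * (d * s * d⁻¹) = d * s * d⁻¹ * w := by
          rw [e]; exact Subgroup.mem_centralizer_singleton_iff.1 hw2
        calc d⁻¹ * w * d * s = d⁻¹ * (w * (d * s * d⁻¹)) * d := by group
          _ = s * (d⁻¹ * w * d) := by rw [h']; group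
    · exact Subtype.ext (mul_left_cancel (mul_right_cancel (congrArg Subtype.val h)))
  set x := Nat.card ↥(W ⊓ Subgroup.centralizer ({a} : Set X)) with hx
  set y := Nat.card ↥(W ⊓ Subgroup.centralizer ({a} : Set X) ⊓ Subgroup.centralizer ({b} : Set X)) with hy
  have hfour := four_fixed_le hW (hsq hoa) (hsq hob) hab (hWn haM)
  rw [← hx, ← hy] at hfour
  have hxb := hcardeq hob hbM hoa haM
  have hxab := hcardeq hoab (mul_mem haM hbM) hoa haM
  rw [← hx] at hxb hxab
  have h3 : x ^ 3 ≤ Nat.card W * y ^ 2 := by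
    refine le_trans ?_ hfour
    rw [pow_succ, pow_two]
    exact Nat.mul_le_mul (Nat.mul_le_mul le_rfl hxb) hxab
  -- the centraliser of `a`
  have hCa : Nat.card (Subgroup.centralizer ({a} : Set X)) ≤ 4 * x := by
    obtain ⟨Q, hQ4, Q', N, hN, hc⟩ := Invol.klein_centralizer P hP hoa ha
    have h := hc.card_mul_card
    rw [show Nat.card Q' = 4 from
      Q'.card_eq_multiplicity.trans (Q.card_eq_multiplicity.symm.trans hQ4)] at h
    rw [← h, mul_comm]
    refine Nat.mul_le_mul le_rfl ?_
    refine Nat.card_le_card_of_injective (fun n => ⟨((n : Subgroup.centralizer ({a} : Set X)) : X), ?_⟩)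
      fun n n' e => Subtype.ext (Subtype.ext (congrArg Subtype.val e :))
    refine Subgroup.mem_inf.2 ⟨hcent a haM hoa _ ?_
      (Subgroup.mem_centralizer_singleton_iff.1 (n : Subgroup.centralizer ({a} : Set X)).2) fun hd => ?_,
      (n : Subgroup.centralizer ({a} : Set X)).2⟩
    · exact Invol.strongly_commute_mem hM hoa haM
        (Subgroup.mem_centralizer_singleton_iff.1 (n : Subgroup.centralizer ({a} : Set X)).2)
    · have h2 : ¬ 2 ∣ Nat.card N := by rw [← hc.index_eq_card]; exact Q'.not_dvd_index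
      refine h2 (hd.trans ?_)
      rw [Subgroup.orderOf_coe, Subgroup.orderOf_coe]
      exact orderOf_dvd_natCard n
  have hCP : 4 * y ≤ Nat.card (Subgroup.centralizer ((P : Subgroup X) : Set X)) := by
    have hY : ∀ w ∈ W ⊓ Subgroup.centralizer ({a} : Set X) ⊓ Subgroup.centralizer ({b} : Set X),
        w ∈ Subgroup.centralizer ((P : Subgroup X) : Set X) := by
      intro w hw
      obtain ⟨hw1, hwb⟩ := Subgroup.mem_inf.1 hw
      have hwa := (Subgroup.mem_inf.1 hw1).2
      refine Subgroup.mem_centralizer_iff.2 fun p hp => ?_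
      have hp' : p = 1 ∨ p = a ∨ p = b ∨ p = a * b := by
        by_contra h
        push Not at h
        obtain ⟨h1, h2, h3', h4⟩ := h
        have hinj : ({1, a, b, a * b, p} : Finset X).card ≤ 4 := by
          rw [← IsKleinFour.card_four (G := (P : Subgroup X)), ← Fintype.card_coe, ← Nat.card_eq_fintype_card]
          refine Nat.card_le_card_of_injective (fun u => ⟨u.1, ?_⟩) fun x y e =>
            Subtype.ext (congrArg (fun v : (P : Subgroup X) => (v : X)) e)
          obtain ⟨u, hu⟩ := u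
          simp only [Finset.mem_insert, Finset.mem_singleton] at hu
          rcases hu with rfl | rfl | rfl | rfl | rfl <;>
            first | exact one_mem _ | exact ha | exact hb | exact mul_mem ha hb | exact hp
        have n1 : ∀ {z : X}, orderOf z = 2 → (1 : X) ≠ z := fun hz e => by
          rw [← e, orderOf_one] at hz; omega
        rw [Finset.card_insert_of_notMem, Finset.card_insert_of_notMem, Finset.card_insert_of_notMem,
          Finset.card_insert_of_notMem, Finset.card_singleton] at hinj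
        · omega
        · simp only [Finset.mem_singleton]; exact Ne.symm h4
        · simp only [Finset.mem_insert, Finset.mem_singleton, not_or]
          exact ⟨fun e => n1 hoa (mul_eq_right.mp e.symm).symm, Ne.symm h3'⟩
        · simp only [Finset.mem_insert, Finset.mem_singleton, not_or]
          exact ⟨hne, fun e => n1 hob (mul_eq_left.mp e.symm).symm, Ne.symm h2⟩
        · simp only [Finset.mem_insert, Finset.mem_singleton, not_or]
          exact ⟨n1 hoa, n1 hob, n1 hoab, Ne.symm h1⟩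
      rcases hp' with rfl | rfl | rfl | rfl
      · rw [one_mul, mul_one]
      · exact (Subgroup.mem_centralizer_singleton_iff.1 hwa).symm
      · exact (Subgroup.mem_centralizer_singleton_iff.1 hwb).symm
      · rw [mul_assoc, ← Subgroup.mem_centralizer_singleton_iff.1 hwb, ← mul_assoc,
          ← Subgroup.mem_centralizer_singleton_iff.1 hwa, mul_assoc]
    rw [← IsKleinFour.card_four (G := (P : Subgroup X)), hy, ← Nat.card_prod]
    have hPc : ∀ p : (P : Subgroup X), (p : X) ∈ Subgroup.centralizer ((P : Subgroup X) : Set X) := fun p =>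
      Subgroup.mem_centralizer_iff.2 fun q hq =>
        congrArg Subtype.val (IsKleinFour.isMulCommutative.is_comm.comm (⟨q, hq⟩ : (P : Subgroup X)) p)
    refine Nat.card_le_card_of_injective (fun z => ⟨z.1 * z.2, mul_mem (hPc z.1) (hY _ z.2.2)⟩) ?_
    rintro ⟨p, w⟩ ⟨p', w'⟩ e
    have e' : (p : X) * w = p' * w' := congrArg Subtype.val e
    have h1 : (p' : X)⁻¹ * p = w' * (w : X)⁻¹ := by
      rw [eq_mul_inv_iff_mul_eq, mul_assoc, e', inv_mul_cancel_left]
    have hW' : ∀ z : ↥(W ⊓ Subgroup.centralizer ({a} : Set X) ⊓ Subgroup.centralizer ({b} : Set X)), (z : X) ∈ W :=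
      fun z => (Subgroup.mem_inf.1 (Subgroup.mem_inf.1 z.2).1).1
    have h2 : (p' : X)⁻¹ * p = 1 := PSolvable.eq_one_of_mem_of_mem P.2
      ((Nat.prime_two.coprime_iff_not_dvd).2 hW).symm (mul_mem (inv_mem p'.2) p.2)
      (h1 ▸ mul_mem (hW' w') (inv_mem (hW' w)))
    have hp : (p' : X) = p := inv_mul_eq_one.1 h2
    rw [hp] at e'
    exact Prod.ext (Subtype.ext hp.symm) (Subtype.ext (mul_left_cancel e'))
  -- the order of `M`
  have hWd : Nat.card W * 4 ∣ Nat.card M := by
    refine Nat.Coprime.mul_dvd_of_dvd_of_dvd ?_ (Subgroup.card_dvd_of_le hWM) ?_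
    · exact ((Nat.prime_two.coprime_iff_not_dvd).2 hW).symm.pow_right 2
    · rw [← IsKleinFour.card_four (G := (P : Subgroup X))]; exact Subgroup.card_dvd_of_le hPM
  have hM12 : 12 * Nat.card W ≤ Nat.card M := by
    set T : Subgroup X := W ⊔ (P : Subgroup X) with hT
    have hTM : T ≤ M := sup_le hWM hPM
    have hTd : Nat.card W * 4 ∣ Nat.card T := by
      refine Nat.Coprime.mul_dvd_of_dvd_of_dvd ?_ (Subgroup.card_dvd_of_le le_sup_left) ?_
      · exact ((Nat.prime_two.coprime_iff_not_dvd).2 hW).symm.pow_right 2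
      · rw [← IsKleinFour.card_four (G := (P : Subgroup X))]; exact Subgroup.card_dvd_of_le le_sup_right
    obtain ⟨k, hk⟩ := Subgroup.card_dvd_of_le hTM
    have hT0 : 0 < Nat.card T := Nat.card_pos
    have hTle : Nat.card W * 4 ≤ Nat.card T := Nat.le_of_dvd hT0 hTd
    suffices 3 ≤ k by
      have := Nat.mul_le_mul hTle this
      rw [← hk] at this
      omega
    have hk2 : ¬ 2 ∣ k := by
      intro h2
      have h8 : 2 ^ 3 ∣ Nat.card X := by
        refine Dvd.dvd.trans ?_ (Subgroup.card_subgroup_dvd_card M)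
        rw [hk, show (2 : ℕ) ^ 3 = 4 * 2 by norm_num]
        exact Nat.mul_dvd_mul ((dvd_mul_left _ _).trans hTd) h2
      have := (Nat.prime_two.pow_dvd_iff_le_factorization Nat.card_pos.ne').1 h8
      have h4 := P.card_eq_multiplicity
      rw [IsKleinFour.card_four (G := (P : Subgroup X))] at h4
      have h4' : 2 ^ 3 ≤ (4 : ℕ) := h4 ▸ Nat.pow_le_pow_right (by norm_num) this
      omega
    by_contra hk3
    have hk1 : k = 1 := by
      rcases k with _ | _ | _ | k
      · rw [mul_zero] at hk; exact absurd hk Nat.card_pos.ne'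
      · rfl
      · exact absurd (dvd_refl 2) hk2
      · omega
    have hTeq : T = M := Subgroup.eq_of_le_of_card_ge hTM (by rw [hk, hk1, mul_one])
    obtain ⟨d, hd, hde⟩ := hconjM hoa haM hob hbM
    have hPn : (P : Subgroup X) ≤ Subgroup.normalizer (W : Set X) := hPM.trans hWn
    have hd' : d ∈ ((T : Subgroup X) : Set X) := hTeq ▸ hd
    rw [hT, Subgroup.coe_mul_of_right_le_normalizer_left _ _ hPn] at hd'
    obtain ⟨w, hw, p, hp, rfl⟩ := hd'
    have hpa : p * a * p⁻¹ = a := by
      rw [show p * a = a * p from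
        congrArg Subtype.val (IsKleinFour.isMulCommutative.is_comm.comm (⟨p, hp⟩ : (P : Subgroup X)) ⟨a, ha⟩)]
      group
    rw [show w * p * a * (w * p)⁻¹ = w * (p * a * p⁻¹) * w⁻¹ by group, hpa] at hde
    have hmem : a * b ∈ W := by
      rw [← hde, show a * (w * a * w⁻¹) = a * w * a * w⁻¹ by group]
      have := (Subgroup.mem_normalizer_iff.1 (hWn haM) w).1 hw
      rw [inv_eq_of_mul_eq_one_right (hsq hoa)] at this
      exact mul_mem this (inv_mem hw)
    refine hW ?_
    rw [← hoab, ← Subgroup.orderOf_mk (H := W) (a * b) hmem]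
    exact orderOf_dvd_natCard _
  -- the index
  obtain ⟨I, hI⟩ := Blocks.exists_isPModular Nat.prime_two
  obtain ⟨Z, c, hcard, -, hpm, hcong, -, hsum, hform⟩ := SmallCent.count P hP hone ha hoa hI
  have hlow := sum_lower Z c (fun χ => Cfsg.charDegree (χ : X → ℂ)) hcard
    (fun χ _ => (Blocks.irr_degree_eq χ).2) hpm hcong hsum
  set n := M.index with hn
  have hXn : Nat.card X = Nat.card M * n := (M.card_mul_index).symm
  have hn5 : n ≤ 5 := by
    by_contra h6
    have hX : (72 : ℚ) * Nat.card W ≤ Nat.card X := by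
      rw [hXn]
      exact_mod_cast (show 72 * Nat.card W ≤ Nat.card M * n from by
        calc 72 * Nat.card W = 12 * Nat.card W * 6 := by ring
          _ ≤ Nat.card M * n := Nat.mul_le_mul hM12 (by omega))
    have hy0 : (0 : ℚ) < y := Nat.cast_pos.2 (by rw [hy]; exact Nat.card_pos)
    have hCa' : (Nat.card (Subgroup.centralizer ({a} : Set X)) : ℚ) ≤ 4 * x := by exact_mod_cast hCa
    have hCP' : (4 : ℚ) * y ≤ Nat.card (Subgroup.centralizer ((P : Subgroup X) : Set X)) := by
      exact_mod_cast hCP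
    have h3' : (x : ℚ) ^ 3 ≤ Nat.card W * (y : ℚ) ^ 2 := by exact_mod_cast h3
    have hW0 : (0 : ℚ) < Nat.card W := Nat.cast_pos.2 Nat.card_pos
    set CP : ℚ := (Nat.card (Subgroup.centralizer ((P : Subgroup X) : Set X)) : ℚ) with hCPd
    set CA : ℚ := (Nat.card (Subgroup.centralizer ({a} : Set X)) : ℚ) with hCAd
    have hCA0 : 0 ≤ CA := Nat.cast_nonneg _
    have hR : 8 * CA ^ 3 / CP ^ 2 ≤ 32 * (Nat.card W : ℚ) := by
      have hCP0 : (0 : ℚ) < CP := lt_of_lt_of_le (by positivity) hCP'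
      rw [div_le_iff₀ (by positivity)]
      have e1 : CA ^ 3 ≤ (4 * (x : ℚ)) ^ 3 := pow_le_pow_left₀ hCA0 hCa' 3
      have e2 : (4 * (y : ℚ)) ^ 2 ≤ CP ^ 2 := pow_le_pow_left₀ (by positivity) hCP' 2
      nlinarith [mul_le_mul_of_nonneg_left e2 hW0.le]
    have hS0 : (0 : ℚ) ≤ 1 + ∑ χ ∈ Z, (c χ : ℚ) / (Cfsg.charDegree (χ : X → ℂ) : ℚ) := le_trans (by norm_num) hlow
    have := mul_le_mul hX hlow (by norm_num) (Nat.cast_nonneg _)
    rw [hform] at this
    nlinarith
  set N := M.normalCore with hNdef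
  have hNodd : ¬ 2 ∣ Nat.card N := by
    intro h2
    obtain ⟨i, hi⟩ := exists_prime_orderOf_dvd_card' (G := N) 2 h2
    have hi' : orderOf (i : X) = 2 := (Subgroup.orderOf_coe i).trans hi
    obtain ⟨g, hg⟩ := isConj_iff.1 (hone (i : X) u hi' hu)
    exact huM (hg ▸ M.normalCore_le ((M.normalCore_normal).conj_mem _ i.2 g))
  have hNW : N ≤ W := by
    haveI : IsMulCommutative (P : Subgroup X) := IsKleinFour.isMulCommutative
    haveI hn := M.normalCore_normal
    refine Coprime.le_of_centralizer_le (A := (P : Subgroup X))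
      (Coprime.not_isCyclic_of_exponent (p := 2) (fun z hz => ?_) two_pos
        (by rw [IsKleinFour.card_four]; norm_num)) ?_ ?_ fun g hg hg1 x hx => ?_
    · rw [pow_two]
      exact congrArg Subtype.val (IsKleinFour.mul_self (⟨z, hz⟩ : (P : Subgroup X)))
    · rw [Subgroup.normalizer_eq_top_iff.2 (show N.Normal from hn)]
      exact le_top
    · rw [IsKleinFour.card_four, show (4 : ℕ) = 2 ^ 2 from rfl]
      exact ((Nat.prime_two.coprime_iff_not_dvd).2 hNodd).pow_left 2
    · obtain ⟨hxN, hxg⟩ := Subgroup.mem_inf.1 hx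
      refine hcent g (hPM hg) (Invol.orderOf_two_of_mul_self ?_ hg1) x (M.normalCore_le hxN)
        (Subgroup.mem_centralizer_singleton_iff.1 hxg) fun hd => hNodd (hd.trans ?_)
      · exact congrArg Subtype.val (IsKleinFour.mul_self (⟨g, hg⟩ : (P : Subgroup X)))
      · rw [← Subgroup.orderOf_mk (H := N) x hxN]
        exact orderOf_dvd_natCard _
  have hdvd : Nat.card X ∣ n.factorial * Nat.card N := by
    have hle := Subgroup.card_dvd_of_le (show (MulAction.toPermHom X (X ⧸ M)).range ≤ ⊤ from le_top)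
    rw [Subgroup.card_top, Nat.card_perm, ← Subgroup.index_eq_card, ← Subgroup.index_ker,
      ← Subgroup.normalCore_eq_ker, ← hNdef] at hle
    rw [← N.card_mul_index, mul_comm]
    exact Nat.mul_dvd_mul hle dvd_rfl
  have hn1 : n ≠ 1 := fun h => hM.1 (Subgroup.index_eq_one.1 h)
  have hn0 : n ≠ 0 := Subgroup.index_ne_zero_of_finite
  have hfac : Nat.card M * n ≤ n.factorial * Nat.card N :=
    hXn ▸ Nat.le_of_dvd (Nat.mul_pos (Nat.factorial_pos n) Nat.card_pos) hdvd
  refine (Subgroup.eq_of_le_of_card_ge hNW ?_).symm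
  have hk1 := Nat.card_pos (α := N)
  have hsmall : 12 * Nat.card W * n ≤ n.factorial * Nat.card N := (Nat.mul_le_mul hM12 le_rfl).trans hfac
  obtain ⟨q, hq⟩ := Subgroup.card_dvd_of_le hNW
  have hq0 : q ≠ 0 := fun h => Nat.card_pos.ne' (show Nat.card W = 0 by rw [hq, h, mul_zero])
  have hq2 : q ≠ 2 := fun h => hW (by rw [hq, h]; exact dvd_mul_left _ _)
  rw [hq] at hsmall ⊢
  have : q ≤ 1 := by
    have h' : 12 * q * n ≤ n.factorial := Nat.le_of_mul_le_mul_right (c := Nat.card N)
      (by calc 12 * q * n * Nat.card N = 12 * (Nat.card N * q) * n := by ring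
            _ ≤ _ := hsmall) hk1
    interval_cases n <;> simp only [Nat.factorial] at h' <;> omega
  calc Nat.card N * q ≤ Nat.card N * 1 := Nat.mul_le_mul le_rfl this
    _ = Nat.card N := mul_one _

/-- The odd kernel of a strongly embedded subgroup is trivial. -/
theorem klein_small (P : Sylow 2 X) (hP : IsKleinFour (P : Subgroup X))
    (hone : ∀ s t : X, orderOf s = 2 → orderOf t = 2 → IsConj s t) {M : Subgroup X}
    (hM : Cfsg.IsStronglyEmbedded M) (hPM : (P : Subgroup X) ≤ M) {W : Subgroup X} (hWM : W ≤ M)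
    (hWn : M ≤ Subgroup.normalizer (W : Set X)) (hW : ¬ 2 ∣ Nat.card W)
    (hcent : ∀ v ∈ M, orderOf v = 2 → ∀ x ∈ M, x * v = v * x → ¬ 2 ∣ orderOf x → x ∈ W)
    (hcore : ∀ N : Subgroup X, N.Normal → ¬ 2 ∣ Nat.card N → N = ⊥) : W = ⊥ := by
  rw [klein_small_normal P hP hone hM hPM hWM hWn hW hcent]
  refine hcore _ M.normalCore_normal fun h => hW ?_
  rwa [klein_small_normal P hP hone hM hPM hWM hWn hW hcent]

end CfsgLib.M12Syl
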