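import Cfsg.Agent.Lib.M12Syl.SylIn
import Cfsg.Agent.Lib.Invol.StronglyEmbedded
import Cfsg.Agent.Lib.Signalizer.Solvable
import Cfsg.Agent.Lib.Signalizer.CoreBalance
import Cfsg.Agent.Lib.OddOrder.Solvable
import Cfsg.Agent.Lib.Transfer.Basic

/-!
An elementary abelian Sylow 2-subgroup with an automiser without fixed points and two classes of
involutions.
-/

set_option autoImplicit false
set_option linter.style.haveILetI false
set_option linter.unusedSectionVars false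

namespace CfsgLib.M12Syl

variable {X : Type*} [Group X] [Finite X] {A : Subgroup X}

theorem SylIn.card_eq_sylow {D S : Subgroup X} (h : SylIn D S) {R : Subgroup X} (hle : R ≤ S)
    (hR : Nat.card S ≤ Nat.card R) : SylIn D R :=
  (Subgroup.eq_of_le_of_card_ge hle hR).symm ▸ h

theorem comm_of_elem (hA : Cfsg.IsElementaryAbelian 2 A) {a b : X} (ha : a ∈ A) (hb : b ∈ A) :
    a * b = b * a :=
  congrArg Subtype.val (hA.1.is_comm.comm (⟨a, ha⟩ : A) ⟨b, hb⟩)

theorem orderOf_of_elem (hA : Cfsg.IsElementaryAbelian 2 A) {a : X} (ha : a ∈ A) (ha1 : a ≠ 1) :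
    orderOf a = 2 := by
  haveI := Fact.mk Nat.prime_two
  exact orderOf_eq_prime (hA.2 a ha) ha1

/-- the data of this situation -/
structure FpfSylow (A : Subgroup X) : Prop where
  elem : Cfsg.IsElementaryAbelian 2 A
  eight : 8 ≤ Nat.card A
  syl : SylIn ⊤ A
  free : ∀ x : X, (∀ a ∈ A, x * a * x⁻¹ ∈ A) → ∀ a ∈ A, a ≠ 1 → x * a * x⁻¹ = a →
    ∀ b ∈ A, x * b * x⁻¹ = b
  two : ∃ a ∈ A, ∃ b ∈ A, a ≠ 1 ∧ b ≠ 1 ∧ ¬ IsConj a b

namespace FpfSylow

variable (h : FpfSylow A)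
include h

theorem sylIn_of_le {M : Subgroup X} (hM : A ≤ M) : SylIn M A := by
  obtain ⟨S, hS, hAS⟩ := sylIn_exists M A hM h.syl.two
  exact hS.card_eq_sylow hAS (h.syl.card_le le_top hS.two)

theorem le_cent {a : X} (ha : a ∈ A) : A ≤ Subgroup.centralizer ({a} : Set X) := fun _ hb =>
  Subgroup.mem_centralizer_singleton_iff.2 (comm_of_elem h.elem hb ha)

theorem npc {a : X} (ha : a ∈ A) (ha1 : a ≠ 1) :
    Cfsg.HasNormalPComplement 2 (Subgroup.centralizer ({a} : Set X)) := by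
  haveI := Fact.mk Nat.prime_two
  set C := Subgroup.centralizer ({a} : Set X) with hC
  have hAC : A ≤ C := h.le_cent ha
  have hp : IsPGroup 2 (A.subgroupOf C) :=
    IsPGroup.of_injective h.syl.two (Subgroup.subgroupOfEquivOfLe hAC).toMonoidHom
      (Subgroup.subgroupOfEquivOfLe hAC).injective
  obtain ⟨P, hP⟩ := hp.exists_le_sylow
  have hPA : (P : Subgroup C) = A.subgroupOf C := by
    refine (Subgroup.eq_of_le_of_card_ge hP ?_).symm
    rw [Nat.card_congr (Subgroup.subgroupOfEquivOfLe hAC).toEquiv,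
      ← Subgroup.card_map_of_injective C.subtype_injective]
    exact h.syl.card_le le_top (P.isPGroup'.map _)
  refine Transfer.hasNormalPComplement_of_normalizer_le_centralizer P fun x hx => ?_
  have hmem : ∀ y : C, y ∈ (P : Subgroup C) ↔ (y : X) ∈ A := fun y => by rw [hPA]; rfl
  have hN : ∀ b ∈ A, (x : X) * b * (x : X)⁻¹ ∈ A := fun b hb =>
    (hmem _).1 (((Subgroup.mem_normalizer_iff.1 hx) ⟨b, hAC hb⟩).1 ((hmem _).2 hb))
  have hfix := h.free x hN a ha ha1
    (mul_inv_eq_iff_eq_mul.2 (Subgroup.mem_centralizer_singleton_iff.1 x.2))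
  refine Subgroup.mem_centralizer_iff.2 fun y hy => Subtype.ext ?_
  exact (mul_inv_eq_iff_eq_mul.1 (hfix (y : X) ((hmem y).1 hy))).symm

/-- Elements of odd order centralising `a` are in the core of its centraliser. -/
theorem odd_mem_core {a : X} (ha : a ∈ A) (ha1 : a ≠ 1) {x : X}
    (hx : x ∈ Subgroup.centralizer ({a} : Set X)) (hodd : ¬ 2 ∣ orderOf x) :
    x ∈ Cfsg.centralizerPPrimeCore 2 a := by
  haveI := Fact.mk Nat.prime_two
  refine ⟨⟨x, hx⟩, ?_, rfl⟩
  show _ ∈ Cfsg.pPrimeCore 2 _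
  rw [Transfer.pPrimeCore_eq_pResidual (h.npc ha ha1)]
  refine Transfer.mem_pResidual_of_coprime ((Nat.prime_two.coprime_iff_not_dvd).mpr ?_).symm
  rwa [← Subgroup.orderOf_coe]

theorem cent_factor {a : X} (ha : a ∈ A) (ha1 : a ≠ 1) {x : X}
    (hx : x ∈ Subgroup.centralizer ({a} : Set X)) :
    ∃ w ∈ Cfsg.centralizerPPrimeCore 2 a, ∃ b ∈ A, x = w * b := by
  haveI := Fact.mk Nat.prime_two
  set C := Subgroup.centralizer ({a} : Set X)
  set O := Cfsg.centralizerPPrimeCore 2 a with hO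
  have hAC : A ≤ C := h.le_cent ha
  have hOC : O ≤ C := Subgroup.map_subtype_le _
  have hle : C ≤ O ⊔ A := by
    obtain ⟨Q, N, hN, hc⟩ := h.npc ha ha1
    have hNO : N.map C.subtype ≤ O := by
      refine Subgroup.map_mono (Transfer.le_pPrimeCore hN (Nat.Coprime.symm
        ((Nat.prime_two.coprime_iff_not_dvd).mpr ?_)))
      rw [← hc.index_eq_card]
      exact Q.not_dvd_index
    obtain ⟨d, hd, hdQ⟩ := (h.sylIn_of_le hAC).absorb ((Q : Subgroup C).map C.subtype)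
      (Subgroup.map_subtype_le _) (Q.isPGroup'.map _)
    intro y hy
    have hy' : d * y * d⁻¹ ∈ O ⊔ A := by
      obtain ⟨⟨n, q⟩, e⟩ := hc.2 ⟨y, hy⟩
      have e' : y = (n : C) * ((q : C) : X) := (congrArg Subtype.val e).symm
      rw [e', show d * ((n : C) * ((q : C) : X)) * d⁻¹ =
        d * (n : C) * d⁻¹ * (d * ((q : C) : X) * d⁻¹) by group]
      refine mul_mem (Subgroup.mem_sup_left ?_) (Subgroup.mem_sup_right (hdQ _ ⟨q, q.2, rfl⟩))
      exact (Subgroup.mem_normalizer_iff.1 (Signalizer.centralizerPPrimeCore_normalized a hd) _).1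
        (hNO ⟨n, n.2, rfl⟩)
    have hn : O ⊔ A ≤ C := sup_le hOC hAC
    have hd' : d ∈ O ⊔ A := by
      obtain ⟨⟨n, q⟩, e⟩ := hc.2 ⟨d, hd⟩
      have e' : d = (n : C) * ((q : C) : X) := (congrArg Subtype.val e).symm
      have hq : d * ((q : C) : X) * d⁻¹ ∈ O ⊔ A := Subgroup.mem_sup_right (hdQ _ ⟨q, q.2, rfl⟩)
      have hn' : ((n : C) : X) ∈ O ⊔ A := Subgroup.mem_sup_left (hNO ⟨n, n.2, rfl⟩)
      rw [e', show ((n : C) : X) * ((q : C) : X) * ((q : C) : X) * ((((n : C) : X) * ((q : C) : X)))⁻¹ =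
        ((n : C) : X) * ((q : C) : X) * ((n : C) : X)⁻¹ by group] at hq
      have := mul_mem (mul_mem (inv_mem hn') hq) hn'
      rw [e']
      exact mul_mem hn' (by simpa [mul_assoc] using this)
    have := mul_mem (mul_mem (inv_mem hd') hy') hd'
    simpa [mul_assoc] using this
  have hn : A ≤ Subgroup.normalizer (O : Set X) :=
    hAC.trans (Signalizer.centralizerPPrimeCore_normalized a)
  have hx' : x ∈ ((O ⊔ A : Subgroup X) : Set X) := hle hx
  rw [Subgroup.coe_mul_of_right_le_normalizer_left _ _ hn] at hx'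
  obtain ⟨w, hw, b, hb, e⟩ := hx'
  exact ⟨w, hw, b, hb, e.symm⟩

/-- A subgroup containing the normaliser of `A` and the centralisers of its involutions. -/
theorem eq_top {M : Subgroup X} (hN : ∀ x : X, (∀ a ∈ A, x * a * x⁻¹ ∈ A) → x ∈ M)
    (hC : ∀ a ∈ A, a ≠ 1 → Subgroup.centralizer ({a} : Set X) ≤ M) : M = ⊤ := by
  haveI := Fact.mk Nat.prime_two
  by_contra hne
  have hAM : A ≤ M := fun b hb => hN b fun a ha => mul_mem (mul_mem hb ha) (inv_mem hb)
  have hM := h.sylIn_of_le hAM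
  obtain ⟨a, ha, b, hb, ha1, hb1, hab⟩ := h.two
  have hoa := orderOf_of_elem h.elem ha ha1
  refine hab (Invol.strongly_isConj (H := M) ⟨hne, ?_, fun g hg => ?_⟩ hoa
    (orderOf_of_elem h.elem hb hb1))
  · exact even_iff_two_dvd.2 (hoa ▸ Subgroup.orderOf_coe (⟨a, hAM ha⟩ : M) ▸ orderOf_dvd_natCard _)
  by_contra hev
  rw [Nat.not_odd_iff_even] at hev
  obtain ⟨i, hi⟩ := exists_prime_orderOf_dvd_card'
    (G := ↥(M ⊓ M.map (MulAut.conj g).toMonoidHom)) 2 (even_iff_two_dvd.1 hev)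
  obtain ⟨⟨hiM, k, hk, hki⟩, ho⟩ : ((i : X) ∈ M ∧ (i : X) ∈ M.map (MulAut.conj g).toMonoidHom) ∧
      orderOf (i : X) = 2 := ⟨Subgroup.mem_inf.1 i.2, (Subgroup.orderOf_coe i).trans hi⟩
  have hki' : g * k * g⁻¹ = (i : X) := hki
  have hk2 : orderOf k = 2 := by
    rw [← ho, ← hki']; exact (MulEquiv.orderOf_eq (MulAut.conj g) k).symm
  obtain ⟨m, hm, hmi⟩ := hM.absorb (Subgroup.zpowers (i : X)) (Subgroup.zpowers_le.2 hiM)
    (IsPGroup.of_card (n := 1) (by rw [Nat.card_zpowers, ho]; rfl))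
  obtain ⟨n, hn, hnk⟩ := hM.absorb (Subgroup.zpowers k) (Subgroup.zpowers_le.2 hk)
    (IsPGroup.of_card (n := 1) (by rw [Nat.card_zpowers, hk2]; rfl))
  set a1 := m * (i : X) * m⁻¹ with ha1'
  have hA1 : a1 ∈ A := hmi _ (Subgroup.mem_zpowers _)
  have hne1 : a1 ≠ 1 := fun e => by
    rw [ha1', conj_eq_one_iff] at e
    rw [e, orderOf_one] at ho; omega
  set y := m * g * n⁻¹ with hy
  have hy1 : y * (n * k * n⁻¹) * y⁻¹ = a1 := by rw [hy, ha1', ← hki']; group
  have hk0 := hnk k (Subgroup.mem_zpowers _)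
  obtain ⟨c, hc, hcA⟩ := (h.sylIn_of_le (h.le_cent hA1)).absorb
    (A.map (MulAut.conj y).toMonoidHom) (by
      rintro _ ⟨b, hb, rfl⟩
      refine Subgroup.mem_centralizer_singleton_iff.2 ?_
      show y * b * y⁻¹ * a1 = a1 * (y * b * y⁻¹)
      rw [← hy1, show y * b * y⁻¹ * (y * (n * k * n⁻¹) * y⁻¹) = y * (b * (n * k * n⁻¹)) * y⁻¹ by group,
        comm_of_elem h.elem hb hk0]
      group) (h.syl.two.map _)
  have hcy : c * y ∈ M := hN _ fun b hb => by
    rw [show c * y * b * (c * y)⁻¹ = c * (y * b * y⁻¹) * c⁻¹ by group]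
    exact hcA _ ⟨b, hb, rfl⟩
  have hyM : y ∈ M := by
    have := mul_mem (inv_mem (hC a1 hA1 hne1 hc)) hcy
    rwa [inv_mul_cancel_left] at this
  refine hg ?_
  have := mul_mem (mul_mem (inv_mem hm) hyM) hn
  rwa [hy, show m⁻¹ * (m * g * n⁻¹) * n = g by group] at this

/-- The structure. -/
theorem structure_thm : ∃ W : Subgroup X, W.Normal ∧ ¬ 2 ∣ Nat.card W ∧
    (∀ x : X, ∃ w ∈ W, ∃ n, (∀ a ∈ A, n * a * n⁻¹ ∈ A) ∧ x = w * n) ∧
    ∀ x : X, (∀ a ∈ A, x * a * x⁻¹ = a) → ∃ w ∈ W, ∃ b ∈ A, x = w * b := by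
  haveI := Fact.mk Nat.prime_two
  have hodd : ∀ a : X, ¬ 2 ∣ Nat.card (Cfsg.centralizerPPrimeCore 2 a) := fun a hd =>
    Nat.prime_two.ne_one (Nat.eq_one_of_dvd_coprimes (Signalizer.coprime_centralizerPPrimeCore a) hd
      (dvd_refl 2))
  have hθ : Cfsg.IsSolvableSignalizerFunctor 2 A (Cfsg.centralizerPPrimeCore 2) := by
    refine ⟨⟨fun a _ _ => Subgroup.map_subtype_le _, fun a _ _ => hodd a,
      fun a ha _ b hb x hx => (Subgroup.mem_normalizer_iff.1
        (Signalizer.centralizerPPrimeCore_normalized a (h.le_cent ha hb)) x).1 hx,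
      fun a _ _ b hb hb1 => ?_⟩, fun a _ _ => OddOrder.odd_order_solvable
        (Nat.odd_iff.2 (Nat.two_dvd_ne_zero.1 (hodd a)))⟩
    intro x hx
    obtain ⟨hx1, hx2⟩ := Subgroup.mem_inf.1 hx
    refine h.odd_mem_core hb hb1 hx2 fun hd => hodd a (hd.trans ?_)
    rw [← Subgroup.orderOf_mk x hx1]
    exact orderOf_dvd_natCard _
  obtain ⟨W₀, -, hW2, hW⟩ := Signalizer.hasCover h.elem (by have := h.eight; omega) hθ
  set U : Subgroup X := ⨆ b : {b : X // b ∈ A ∧ b ≠ 1}, Cfsg.centralizerPPrimeCore 2 (b : X) with hU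
  have hle : ∀ a ∈ A, a ≠ 1 → Cfsg.centralizerPPrimeCore 2 a ≤ U := fun a ha ha1 =>
    le_iSup (fun b : {b : X // b ∈ A ∧ b ≠ 1} => Cfsg.centralizerPPrimeCore 2 (b : X)) ⟨a, ha, ha1⟩
  have hU2 : ¬ 2 ∣ Nat.card U := fun hd => hW2 (hd.trans
    (Subgroup.card_dvd_of_le (iSup_le fun b => (hW b b.2.1 b.2.2).1)))
  have hNU : ∀ x : X, (∀ a ∈ A, x * a * x⁻¹ ∈ A) → x ∈ Subgroup.normalizer (U : Set X) := by
    intro x hx
    have hmap : U.map (MulAut.conj x).toMonoidHom ≤ U := by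
      rw [hU, Subgroup.map_iSup]
      refine iSup_le fun b => ?_
      rw [← Signalizer.centralizerPPrimeCore_conj]
      exact hle _ (hx b b.2.1) fun e => b.2.2 (conj_eq_one_iff.1 e)
    refine Subgroup.mem_normalizer_iff.2 fun u => ⟨fun hu => hmap ⟨u, hu, rfl⟩, fun hu => ?_⟩
    have heq : U.map (MulAut.conj x).toMonoidHom = U := Subgroup.eq_of_le_of_card_ge hmap
      (Subgroup.card_map_of_injective (MulEquiv.injective _)).ge
    rw [← heq] at hu
    obtain ⟨v, hv, e⟩ := hu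
    have : v = u := mul_left_cancel (mul_right_cancel (show x * v * x⁻¹ = x * u * x⁻¹ from e))
    exact this ▸ hv
  have hAN : ∀ b ∈ A, ∀ a ∈ A, b * a * b⁻¹ ∈ A := fun b hb a ha =>
    mul_mem (mul_mem hb ha) (inv_mem hb)
  have hCN : ∀ a ∈ A, a ≠ 1 → Subgroup.centralizer ({a} : Set X) ≤
      Subgroup.normalizer (U : Set X) := by
    intro a ha ha1 x hx
    obtain ⟨w, hw, b, hb, rfl⟩ := h.cent_factor ha ha1 hx
    exact mul_mem (Subgroup.le_normalizer (hle a ha ha1 hw)) (hNU b (hAN b hb))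
  haveI hUn : U.Normal := Subgroup.normalizer_eq_top_iff.1 (h.eq_top hNU hCN)
  let N : Subgroup X :=
    { carrier := {x | ∀ a ∈ A, x * a * x⁻¹ ∈ A}
      one_mem' := fun a ha => by simpa using ha
      mul_mem' := fun {x y} hx hy a ha => by
        show x * y * a * (x * y)⁻¹ ∈ A
        rw [show x * y * a * (x * y)⁻¹ = x * (y * a * y⁻¹) * x⁻¹ by group]
        exact hx _ (hy a ha)
      inv_mem' := fun {x} hx a ha => by
        let F : A → A := fun z => ⟨x * z * x⁻¹, hx z z.2⟩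
        obtain ⟨z, hz⟩ := Finite.surjective_of_injective (f := F) (fun a b e => Subtype.ext
          (mul_left_cancel (mul_right_cancel (congrArg Subtype.val e)))) ⟨a, ha⟩
        have e : x * z * x⁻¹ = a := congrArg Subtype.val hz
        show x⁻¹ * a * x⁻¹⁻¹ ∈ A
        rw [← e]
        simp [mul_assoc] }
  refine ⟨U, hUn, hU2, fun x => ?_, fun x hx => ?_⟩
  · have htop : U ⊔ N = ⊤ := h.eq_top (fun y hy => Subgroup.mem_sup_right (show y ∈ N from hy))
      fun a ha ha1 y hy => by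
        obtain ⟨w, hw, b, hb, rfl⟩ := h.cent_factor ha ha1 hy
        exact mul_mem (Subgroup.mem_sup_left (hle a ha ha1 hw))
          (Subgroup.mem_sup_right (show b ∈ N from hAN b hb))
    have hx : x ∈ ((U ⊔ N : Subgroup X) : Set X) := htop ▸ Subgroup.mem_top x
    rw [Subgroup.normal_mul] at hx
    obtain ⟨w, hw, n, hn, e⟩ := hx
    exact ⟨w, hw, n, hn, e.symm⟩
  · obtain ⟨a, ha, -, -, ha1, -, -⟩ := h.two
    obtain ⟨w, hw, b, hb, e⟩ := h.cent_factor ha ha1
      (Subgroup.mem_centralizer_singleton_iff.2 (mul_inv_eq_iff_eq_mul.1 (hx a ha)))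
    exact ⟨w, hle a ha ha1 hw, b, hb, e⟩

end FpfSylow

end CfsgLib.M12Syl
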