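import Cfsg.Agent.Lib.M12Syl.CentFusion

/-!
The automorphisms of the extraspecial subgroup induced in the centraliser of its central involution.
-/

set_option autoImplicit false
set_option linter.style.haveILetI false
set_option linter.unusedSectionVars false
set_option linter.style.longLine false

namespace CfsgLib.M12Syl

open CfsgLib.M12Recog

/-- generators of the extraspecial subgroup -/
def gensQ : List ℕ := [9, 3, 25, 61]

/-- its elements as words in the generators -/
def wordQ : List (ℕ × List ℕ) := [(0, []), (3, [1]), (9, [0]), (10, [0, 1]), (25, [2]), (26, [1, 2]), (36, [2, 0]), (39, [1, 2, 0]), (61, [3]), (62, [3, 1]), (68, [3, 0]), (71, [0, 1, 3]), (72, [0, 2]), (75, [0, 1, 2]), (85, [0, 2, 0]), (86, [0, 1, 2, 0]), (104, [3, 2]), (107, [1, 2, 3]), (117, [0, 3, 2]), (118, [0, 1, 2, 3]), (121, [2, 0, 2]), (122, [0, 3, 1, 3]), (128, [0, 2, 0, 2]), (131, [3, 1, 3]), (153, [0, 2, 3]), (154, [0, 1, 3, 2]), (164, [2, 3]), (167, [1, 3, 2]), (180, [0, 3]), (183, [0, 3, 1]), (189, [0, 3, 0]), (190, [1, 3])]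

/-- the word of an index -/
def wordOf (i : ℕ) : List ℕ := (wordQ.lookup i).getD []

/-- the value at an index of the map given by the images `l` of the generators -/
noncomputable def imgQ (l : List ℕ) (i : ℕ) : ℕ := prd mH ((wordOf i).map fun k => l.getD k 0)

/-- conjugation in the table of the centraliser -/
noncomputable def conjI (x i : ℕ) : ℕ := mH (mH x i) (invI x)

/-- the element of order three -/
def sIdx : ℕ := 14

/-- equality modulo the central involution -/
noncomputable def eqT (x y : ℕ) : Bool := x == y || x == mH y 128

/-- iteration of the map given by images of generators -/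
noncomputable def iterQ (l : List ℕ) : ℕ → ℕ → ℕ
  | 0, i => i
  | k + 1, i => imgQ l (iterQ l k i)

/-- the commutator of two indices -/
noncomputable def commI (x y : ℕ) : ℕ := mH (mH x y) (mH (invI x) (invI y))

/-- the candidates -/
noncomputable def candOK (l : List ℕ) : Bool :=
  gensQ.all (fun g => eqT (iterQ l 6 g) g) &&
    (gensQ.any (fun g => !eqT (iterQ l 3 g) g) ||
      qSub.any fun q => [0, 1, 2].any fun e => gensQ.map (conjI (mH q (pw mH sIdx e))) == l)

/-- all candidates satisfy the check -/
noncomputable def autOK : Bool :=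
  [9, 121, 3, 10, 122, 131].all fun p => [9, 121, 3, 10, 122, 131].all fun q =>
    commI p q != commI 9 3 || (c25 ++ c26 ++ c107).all fun r =>
      commI p r != commI 9 25 || commI q r != commI 3 25 || (c25 ++ c26 ++ c107).all fun s =>
        commI p s != commI 9 61 || commI q s != commI 3 61 || commI r s != commI 25 61 ||
          candOK [p, q, r, s]

end CfsgLib.M12Syl
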