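import Cfsg.Agent.Lib.M12Syl.Auto

/-!
The checks on the automorphisms of the extraspecial subgroup.
-/

set_option autoImplicit false
set_option maxRecDepth 20000

namespace CfsgLib.M12Syl

open CfsgLib.M12Recog

theorem autOK_true : autOK = true := by decide +kernel

theorem word_ok : (qSub.all fun i => (wordOf i).all (fun k => Nat.blt k 4) &&
    imgQ gensQ i == i) = true := by decide +kernel

theorem conj_img_ok : (qSub.all fun q => [0, 1, 2].all fun e => qSub.all fun i =>
    imgQ (gensQ.map (conjI (mH q (pw mH sIdx e)))) i == conjI (mH q (pw mH sIdx e)) i) = true := by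
  decide +kernel

end CfsgLib.M12Syl
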