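import Cfsg.Agent.Lib.M12Syl.AutoCheck

/-!
An element normalising the extraspecial subgroup and centralising the central involution.
-/

set_option autoImplicit false
set_option linter.style.haveILetI false
set_option linter.unusedSectionVars false

namespace CfsgLib.M12Syl

open CfsgLib.M12Recog

theorem qSub_mem : lOK qSub = true ∧ (∀ i ∈ qSub, i ∈ sylH) ∧ (∀ g ∈ gensQ, g ∈ qSub) ∧
    128 ∈ qSub := by
  have h := (maxes_ok qSub (by simp)).1
  refine ⟨h, ?_, ?_, mem_dec (by decide +kernel)⟩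
  · simp only [lOK, Bool.and_eq_true, List.all_eq_true, List.contains_iff_mem] at h
    exact fun i hi => (h.2 i hi).1.1
  · have h' : (gensQ.all fun g => qSub.contains g) = true := by decide +kernel
    simp only [List.all_eq_true, List.contains_iff_mem] at h'
    exact h'

theorem prd_mem_qSub : ∀ l : List ℕ, (∀ i ∈ l, i ∈ qSub) → prd mH l ∈ qSub := by
  intro l
  induction l with
  | nil => exact fun _ => mem_dec (by decide +kernel)
  | cons i l ih =>
    intro h
    rw [List.forall_mem_cons] at h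
    have hc := (maxes_ok qSub (by simp)).1
    simp only [lOK, Bool.and_eq_true, List.all_eq_true, List.contains_iff_mem] at hc
    exact (hc.2 i h.1).2 _ (ih h.2)

theorem imgQ_mem {l : List ℕ} (hl : ∀ x ∈ l, x ∈ qSub) (i : ℕ) : imgQ l i ∈ qSub := by
  refine prd_mem_qSub _ fun x hx => ?_
  obtain ⟨k, -, rfl⟩ := List.mem_map.1 hx
  by_cases hk : k < l.length
  · rw [List.getD_eq_getElem _ _ hk]; exact hl _ (List.getElem_mem hk)
  · rw [List.getD_eq_default _ _ (not_lt.1 hk)]; exact mem_dec (by decide +kernel)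

theorem iterQ_mem {l : List ℕ} (hl : ∀ x ∈ l, x ∈ qSub) {i : ℕ} (hi : i ∈ qSub) :
    ∀ k, iterQ l k i ∈ qSub
  | 0 => hi
  | _ + 1 => imgQ_mem hl _

theorem word_spec {i : ℕ} (hi : i ∈ qSub) : (∀ k ∈ wordOf i, k < 4) ∧ imgQ gensQ i = i := by
  have h := word_ok
  simp only [List.all_eq_true, Bool.and_eq_true, Nat.blt_eq, beq_iff_eq] at h
  exact h i hi

namespace PHyp

variable {G : Type*} [Group G] {φ : ℕ → G} {S : Subgroup G} (K : PHyp φ S)
include K

theorem prd_eq : ∀ l : List ℕ, (∀ i ∈ l, i ∈ qSub) → φ (prd mH l) = (l.map φ).prod := by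
  intro l
  induction l with
  | nil => exact fun _ => K.one
  | cons i l ih =>
    intro h
    rw [List.forall_mem_cons] at h
    rw [prd, K.mul i (qSub_mem.2.1 i h.1) _ (qSub_mem.2.1 _ (prd_mem_qSub l h.2)), List.map_cons,
      List.prod_cons, ih h.2]

theorem comm_val {x y : ℕ} (hx : x ∈ sylH) (hy : y ∈ sylH) :
    φ (commI x y) = φ x * φ y * (φ x)⁻¹ * (φ y)⁻¹ := by
  have a := (invI_spec hx).1
  have b := (invI_spec hy).1
  rw [commI, K.mul _ (syl_closed x hx y hy) _ (syl_closed _ a _ b), K.mul x hx y hy, K.mul _ a _ b,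
    K.inv_eq hx, K.inv_eq hy]
  group

/-- `n` acts on `qSub` as `l` on its generators. -/
theorem conj_img {n : G} {l : List ℕ} (hl : ∀ x ∈ l, x ∈ qSub)
    (h : ∀ k < 4, φ (l.getD k 0) = n * φ (gensQ.getD k 0) * n⁻¹) {i : ℕ} (hi : i ∈ qSub) :
    φ (imgQ l i) = n * φ i * n⁻¹ := by
  obtain ⟨hw, he⟩ := word_spec hi
  have hg : ∀ {m : List ℕ}, (∀ x ∈ m, x ∈ qSub) → ∀ x ∈ (wordOf i).map (fun k => m.getD k 0), x ∈ qSub := by
    intro m hm x hx
    obtain ⟨k, -, rfl⟩ := List.mem_map.1 hx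
    by_cases hk : k < m.length
    · rw [List.getD_eq_getElem _ _ hk]; exact hm _ (List.getElem_mem hk)
    · rw [List.getD_eq_default _ _ (not_lt.1 hk)]; exact mem_dec (by decide +kernel)
  have e2 := K.prd_eq _ (hg (m := gensQ) qSub_mem.2.2.1)
  rw [show prd mH ((wordOf i).map fun k => gensQ.getD k 0) = i from he] at e2
  rw [imgQ, K.prd_eq _ (hg hl), e2, ← MulAut.conj_apply, map_list_prod, List.map_map, List.map_map,
    List.map_map]
  exact congrArg List.prod (List.map_congr_left fun k hk => by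
    simp only [Function.comp_apply, MulAut.conj_apply]; exact h k (hw k hk))

/-- `n` fixes the cosets of the central involution in `qSub`. -/
def TrivQ (_ : PHyp φ S) (n : G) : Prop :=
  ∀ i ∈ qSub, n * φ i * n⁻¹ = φ i ∨ n * φ i * n⁻¹ = φ i * φ 128

theorem trivQ_of_gens {n : G}
    (h : ∀ g ∈ gensQ, n * φ g * n⁻¹ = φ g ∨ n * φ g * n⁻¹ = φ g * φ 128) : K.TrivQ n := by
  intro i hi
  obtain ⟨hw, he⟩ := word_spec hi
  have key : ∀ m : List ℕ, (∀ k ∈ m, k < 4) →
      let y := ((m.map fun k => gensQ.getD k 0).map φ).prod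
      n * y * n⁻¹ = y ∨ n * y * n⁻¹ = y * φ 128 := by
    intro m
    induction m with
    | nil => exact fun _ => .inl (by simp)
    | cons k m ih =>
      intro hm
      rw [List.forall_mem_cons] at hm
      simp only [List.map_cons, List.prod_cons]
      set y := ((m.map fun k => gensQ.getD k 0).map φ).prod
      set a := φ (gensQ.getD k 0)
      have hyt : y * φ 128 = φ 128 * y := by
        refine K.t_central (Subgroup.list_prod_mem _ fun z hz => ?_)
        obtain ⟨j, hj, rfl⟩ := List.mem_map.1 hz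
        obtain ⟨k', hk', rfl⟩ := List.mem_map.1 hj
        have hlt : k' < gensQ.length := hm.2 k' hk'
        rw [List.getD_eq_getElem _ _ hlt]
        exact K.mem _ (qSub_mem.2.1 _ (qSub_mem.2.2.1 _ (List.getElem_mem hlt)))
      have hka : n * a * n⁻¹ = a ∨ n * a * n⁻¹ = a * φ 128 := by
        have hlt : k < gensQ.length := hm.1
        simp only [a, List.getD_eq_getElem _ _ hlt]
        exact h _ (List.getElem_mem hlt)
      have e : n * (a * y) * n⁻¹ = n * a * n⁻¹ * (n * y * n⁻¹) := by group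
      have ht : φ 128 * φ 128 = 1 := by
        rw [← K.mul _ z_central.1 _ z_central.1, z_central.2.1, K.one]
      rcases hka with ha | ha <;> rcases ih hm.2 with hy | hy <;> rw [e, ha, hy]
      · exact .inl rfl
      · exact .inr (by group)
      · exact .inr (by rw [mul_assoc, ← hyt, mul_assoc])
      · exact .inl (by rw [mul_assoc, ← mul_assoc (φ 128) y, ← hyt, mul_assoc y, ht, mul_one])
  have e2 := K.prd_eq ((wordOf i).map fun k => gensQ.getD k 0) (fun x hx => by
    obtain ⟨k, hk, rfl⟩ := List.mem_map.1 hx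
    rw [List.getD_eq_getElem _ _ (show k < gensQ.length from hw k hk)]
    exact qSub_mem.2.2.1 _ (List.getElem_mem _))
  rw [show prd mH ((wordOf i).map fun k => gensQ.getD k 0) = i from he] at e2
  rw [e2]
  exact key _ hw

theorem eqT_iff {x y : ℕ} (hx : x ∈ sylH) (hy : y ∈ sylH) :
    eqT x y = true ↔ φ x = φ y ∨ φ x = φ y * φ 128 := by
  rw [eqT, Bool.or_eq_true, beq_iff_eq, beq_iff_eq, K.eq_iff hx hy, ← K.mul y hy 128 z_central.1,
    K.eq_iff hx (syl_closed y hy 128 z_central.1)]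

/-- The possible actions on `qSub`. -/
theorem auto_cases (F : Fus φ) {n : G} (hn : n ∈ K.cT)
    (hQ : ∀ x ∈ K.sub qSub, n * x * n⁻¹ ∈ K.sub qSub) :
    K.TrivQ (n ^ 6) ∧ (K.TrivQ (n ^ 3) →
      ∃ q ∈ qSub, ∃ e < 3, ∀ i ∈ qSub, φ (conjI (mH q (pw mH sIdx e)) i) = n * φ i * n⁻¹) := by
  obtain ⟨hok, hqs, hgs, -⟩ := qSub_mem
  have himg : ∀ g ∈ gensQ, ∃ x ∈ qSub, φ x = n * φ g * n⁻¹ := fun g hg =>
    (K.mem_sub hok).1 (hQ _ ((K.mem_sub hok).2 ⟨g, hgs g hg, rfl⟩))
  have hnt : n * φ 128 * n⁻¹ = φ 128 := by rw [K.mem_cT.1 hn]; group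
  have hsq : ∀ g ∈ gensQ, mH g g = 0 ∧ g ≠ 0 ∧ g ≠ 128 := by
    have h : (gensQ.all fun g => mH g g == 0 && g != 0 && g != 128) = true := by decide +kernel
    simp only [List.all_eq_true, Bool.and_eq_true, beq_iff_eq, bne_iff_ne] at h
    exact fun g hg => ⟨(h g hg).1.1, (h g hg).1.2, (h g hg).2⟩
  have hinv : ∀ {g x : ℕ}, g ∈ gensQ → x ∈ qSub → φ x = n * φ g * n⁻¹ →
      mH x x = 0 ∧ x ≠ 0 ∧ x ≠ 128 ∧ IsConj (φ g) (φ x) := by
    intro g x hg hx e
    obtain ⟨h2, h0, h1⟩ := hsq g hg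
    have gs := hqs g (hgs g hg)
    have xs := hqs x hx
    refine ⟨(K.eq_one_iff (syl_closed x xs x xs)).1 ?_, ?_, ?_, isConj_iff.2 ⟨n, e.symm⟩⟩
    · rw [K.mul x xs x xs, e, conj_sq, ← K.mul g gs g gs, h2, K.one]; group
    · rintro rfl
      rw [K.one, eq_comm, conj_eq_one_iff] at e
      exact h0 ((K.eq_one_iff gs).1 e)
    · rintro rfl
      exact h1 ((K.eq_iff gs z_central.1).1 (mul_left_cancel (mul_right_cancel (e.symm.trans hnt.symm))))
  have hQinv : ∀ x ∈ qSub, mH x x = 0 → x ≠ 0 → x ≠ 128 →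
      x ∈ [9, 121, 3, 10, 122, 131] ∨ x ∈ c25 ++ c26 ++ c107 := by
    have h : (qSub.all fun x => mH x x != 0 || x == 0 || x == 128 ||
        [9, 121, 3, 10, 122, 131].contains x || (c25 ++ c26 ++ c107).contains x) = true := by
      decide +kernel
    simp only [List.all_eq_true, Bool.or_eq_true, bne_iff_ne, beq_iff_eq, List.contains_iff_mem] at h
    intro x hx a b c
    rcases h x hx with (((e | e) | e) | e) | e
    exacts [absurd a e, absurd e b, absurd e c, .inl e, .inr e]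
  have hTc : ∀ x ∈ [9, 121, 3, 10, 122, 131], IsConj (φ 128) (φ x) := by
    intro x hx
    have hx' : x ∈ [9, 121] ∨ x ∈ c3 := by
      simp only [c3, List.mem_cons, List.not_mem_nil, or_false] at hx ⊢
      omega
    rcases hx' with h | h
    · exact F.nine.trans (K.isConj_class (c := (9, [9, 121])) (by simp [classesL]) h)
    · exact F.three.trans (K.isConj_class (c := (3, c3)) (by simp [classesL]) h)
  have hXc : ∀ x ∈ c25 ++ c26 ++ c107, IsConj (φ 25) (φ x) := by
    intro x hx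
    rcases List.mem_append.1 hx with h | h
    · rcases List.mem_append.1 h with h | h
      · exact K.isConj_class (c := (25, c25)) (by simp [classesL]) h
      · exact F.z26.trans (K.isConj_class (c := (26, c26)) (by simp [classesL]) h)
    · exact F.z107.trans (K.isConj_class (c := (107, c107)) (by simp [classesL]) h)
  obtain ⟨p, hp, ep⟩ := himg 9 (by simp [gensQ])
  obtain ⟨q, hq, eq⟩ := himg 3 (by simp [gensQ])
  obtain ⟨r, hr, er⟩ := himg 25 (by simp [gensQ])
  obtain ⟨s, hs, es⟩ := himg 61 (by simp [gensQ])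
  have inT : ∀ {g x : ℕ}, g ∈ gensQ → g ∈ [9, 121, 3, 10, 122, 131] → x ∈ qSub →
      φ x = n * φ g * n⁻¹ → x ∈ [9, 121, 3, 10, 122, 131] := by
    intro g x hg hgT hx e
    obtain ⟨a, b, c, d⟩ := hinv hg hx e
    exact (hQinv x hx a b c).resolve_right fun h => F.z ((hTc g hgT).trans (d.trans (hXc x h).symm))
  have inX : ∀ {g x : ℕ}, g ∈ gensQ → g ∈ c25 ++ c26 ++ c107 → x ∈ qSub →
      φ x = n * φ g * n⁻¹ → x ∈ c25 ++ c26 ++ c107 := by
    intro g x hg hgX hx e
    obtain ⟨a, b, c, d⟩ := hinv hg hx e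
    exact (hQinv x hx a b c).resolve_left fun h => F.z ((hTc x h).trans (d.symm.trans (hXc g hgX).symm))
  have hrel : ∀ {g g' x x' : ℕ}, g ∈ gensQ → g' ∈ gensQ → x ∈ qSub → x' ∈ qSub →
      φ x = n * φ g * n⁻¹ → φ x' = n * φ g' * n⁻¹ → commI g g' ∈ [0, 128] → commI x x' = commI g g' := by
    intro g g' x x' hg hg' hx hx' e e' hc
    have gs := hqs g (hgs g hg)
    have gs' := hqs g' (hgs g' hg')
    have hcs : ∀ {a b : ℕ}, a ∈ sylH → b ∈ sylH → commI a b ∈ sylH := fun {a b} ha hb =>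
      syl_closed _ (syl_closed a ha b hb) _ (syl_closed _ (invI_spec ha).1 _ (invI_spec hb).1)
    refine K.inj _ (hcs (hqs x hx) (hqs x' hx')) _ (hcs gs gs') ?_
    have hfix : n * φ (commI g g') * n⁻¹ = φ (commI g g') := by
      simp only [List.mem_cons, List.not_mem_nil, or_false] at hc
      rcases hc with h | h <;> rw [h]
      · rw [K.one]; group
      · exact hnt
    rw [← hfix, K.comm_val (hqs x hx) (hqs x' hx'), K.comm_val gs gs', e, e']
    group
  have g9 : (9 : ℕ) ∈ gensQ := by simp [gensQ]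
  have g3 : (3 : ℕ) ∈ gensQ := by simp [gensQ]
  have g25 : (25 : ℕ) ∈ gensQ := by simp [gensQ]
  have g61 : (61 : ℕ) ∈ gensQ := by simp [gensQ]
  have hc : commI 9 3 ∈ [0, 128] ∧ commI 9 25 ∈ [0, 128] ∧ commI 3 25 ∈ [0, 128] ∧
      commI 9 61 ∈ [0, 128] ∧ commI 3 61 ∈ [0, 128] ∧ commI 25 61 ∈ [0, 128] := by
    refine ⟨?_, ?_, ?_, ?_, ?_, ?_⟩ <;> exact mem_dec (by decide +kernel)
  obtain ⟨c1, c2, c3', c4, c5', c6⟩ := hc
  have hA := autOK_true
  simp only [autOK, List.all_eq_true, Bool.or_eq_true, bne_iff_ne] at hA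
  have h1 := (hA p (inT g9 (by simp) hp ep) q (inT g3 (by simp) hq eq)).resolve_left
    fun h => h (hrel g9 g3 hp hq ep eq c1)
  have h2 := (h1 r (inX g25 (by simp [c25, c26, c107]) hr er)).resolve_left fun h => h.elim
    (fun h => h (hrel g9 g25 hp hr ep er c2)) (fun h => h (hrel g3 g25 hq hr eq er c3'))
  have h3 := (h2 s (inX g61 (by simp [c25, c26, c107]) hs es)).resolve_left fun h => h.elim
    (fun h => h.elim (fun h => h (hrel g9 g61 hp hs ep es c4)) (fun h => h (hrel g3 g61 hq hs eq es c5')))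
    (fun h => h (hrel g25 g61 hr hs er es c6))
  set l := [p, q, r, s] with hl
  have hlQ : ∀ x ∈ l, x ∈ qSub := by
    intro x hx
    simp only [l, List.mem_cons, List.not_mem_nil, or_false] at hx
    rcases hx with rfl | rfl | rfl | rfl <;> assumption
  have hlk : ∀ k < 4, φ (l.getD k 0) = n * φ (gensQ.getD k 0) * n⁻¹ := by
    intro k hk
    rcases k with _ | _ | _ | _ | k
    · exact ep
    · exact eq
    · exact er
    · exact es
    · omega
  have hiter : ∀ (k : ℕ) {i : ℕ}, i ∈ qSub → φ (iterQ l k i) = n ^ k * φ i * (n ^ k)⁻¹ := by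
    intro k
    induction k with
    | zero => intro i hi; simp [iterQ]
    | succ k ih =>
      intro i hi
      rw [iterQ, K.conj_img hlQ hlk (iterQ_mem hlQ hi k), ih hi, pow_succ']
      group
  simp only [candOK, Bool.and_eq_true, Bool.or_eq_true, List.all_eq_true, List.any_eq_true,
    Bool.not_eq_true', ← Bool.not_eq_true, beq_iff_eq] at h3
  refine ⟨K.trivQ_of_gens fun g hg => ?_, fun ht => ?_⟩
  · have := (K.eqT_iff (hqs _ (iterQ_mem hlQ (hgs g hg) 6)) (hqs g (hgs g hg))).1 (h3.1 g hg)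
    rwa [hiter 6 (hgs g hg)] at this
  · rcases h3.2 with ⟨g, hg, hne⟩ | ⟨q0, hq0, e, he, heq⟩
    · exact absurd ((K.eqT_iff (hqs _ (iterQ_mem hlQ (hgs g hg) 3)) (hqs g (hgs g hg))).2
        (by rw [hiter 3 (hgs g hg)]; exact ht g (hgs g hg))) hne
    · refine ⟨q0, hq0, e, by simp only [List.mem_cons, List.not_mem_nil, or_false] at he; omega, fun i hi => ?_⟩
      have hci := conj_img_ok
      simp only [List.all_eq_true, beq_iff_eq] at hci
      rw [← hci q0 hq0 e he i hi, heq]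
      exact K.conj_img hlQ hlk hi

/-- The fixed cosets of an element of odd order modulo the cosetwise trivial ones. -/
theorem free_Q (F : Fus φ) {n : G} (hn : n ∈ K.cT)
    (hQ : ∀ x ∈ K.sub qSub, n * x * n⁻¹ ∈ K.sub qSub) (h3 : K.TrivQ (n ^ 3)) {i : ℕ} (hi : i ∈ qSub)
    (hi0 : i ∉ [0, 128]) (hfix : n * φ i * n⁻¹ = φ i ∨ n * φ i * n⁻¹ = φ i * φ 128) : K.TrivQ n := by
  obtain ⟨q, hq, e, he, hact⟩ := (K.auto_cases F hn hQ).2 h3
  have hchk : ∀ q ∈ qSub, ∀ e ∈ [0, 1, 2], ∀ i ∈ qSub, i ∉ [0, 128] →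
      eqT (conjI (mH q (pw mH sIdx e)) i) i = true →
      ∀ g ∈ gensQ, eqT (conjI (mH q (pw mH sIdx e)) g) g = true := by
    have h : (qSub.all fun q => [0, 1, 2].all fun e =>
        (gensQ.all fun g => eqT (conjI (mH q (pw mH sIdx e)) g) g) ||
        qSub.all fun i => [0, 128].contains i || !eqT (conjI (mH q (pw mH sIdx e)) i) i) = true := by
      decide +kernel
    simp only [List.all_eq_true, Bool.or_eq_true, List.contains_iff_mem, Bool.not_eq_true',
      ← Bool.not_eq_true] at h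
    intro q hq e he i hi hi0 hfix g hg
    rcases h q hq e he with h' | h'
    · exact h' g hg
    · exact absurd hfix ((h' i hi).resolve_left hi0)
  obtain ⟨-, hqs, hgs, -⟩ := qSub_mem
  have he' : e ∈ [0, 1, 2] := by simp; omega
  have hmem : ∀ {j : ℕ}, j ∈ qSub → conjI (mH q (pw mH sIdx e)) j ∈ sylH := by
    intro j hj
    have h : (qSub.all fun q => [0, 1, 2].all fun e => qSub.all fun j =>
        sylH.contains (conjI (mH q (pw mH sIdx e)) j)) = true := by decide +kernel
    simp only [List.all_eq_true, List.contains_iff_mem] at h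
    exact h q hq e he' j hj
  refine K.trivQ_of_gens fun g hg => ?_
  have h1 := hchk q hq e he' i hi hi0
    ((K.eqT_iff (hmem hi) (hqs i hi)).2 (by rw [hact i hi]; exact hfix)) g hg
  have := (K.eqT_iff (hmem (hgs g hg)) (hqs g (hgs g hg))).1 h1
  rwa [hact g (hgs g hg)] at this

end PHyp

end CfsgLib.M12Syl
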