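import Cfsg.Agent.Lib.M12Syl.Data

/-!
A group with a Sylow 2-subgroup given by this table.
-/

set_option autoImplicit false
set_option linter.style.haveILetI false

namespace CfsgLib.M12Syl

open CfsgLib.M12Recog

/-- `S` is described by `φ` on the indices `sylH`. -/
structure PHyp {G : Type*} [Group G] (φ : ℕ → G) (S : Subgroup G) : Prop where
  mem : ∀ i ∈ sylH, φ i ∈ S
  surj : ∀ x ∈ S, ∃ i ∈ sylH, φ i = x
  inj : ∀ i ∈ sylH, ∀ j ∈ sylH, φ i = φ j → i = j
  mul : ∀ i ∈ sylH, ∀ j ∈ sylH, φ (mH i j) = φ i * φ j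

theorem mem_dec {l : List ℕ} {i : ℕ} (h : l.contains i = true) : i ∈ l := List.contains_iff_mem.1 h

theorem syl_closed : ∀ i ∈ sylH, ∀ j ∈ sylH, mH i j ∈ sylH := by
  have h : (sylH.all fun i => sylH.all fun j => sylH.contains (mH i j)) = true := by decide +kernel
  simp only [List.all_eq_true, List.contains_iff_mem] at h
  exact h

theorem zero_syl : 0 ∈ sylH := mem_dec (by decide +kernel)

theorem syl_lt : ∀ i ∈ sylH, i < 192 := by
  have h : (sylH.all fun i => Nat.blt i 192) = true := by decide +kernel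
  simp only [List.all_eq_true, Nat.blt_eq] at h
  exact h

/-- the inverse of an index -/
def invI (i : ℕ) : ℕ := invH.getD i 0

theorem invI_spec {i : ℕ} (hi : i ∈ sylH) : invI i ∈ sylH ∧ mH i (invI i) = 0 ∧ mH (invI i) i = 0 := by
  refine ⟨?_, (invH_spec (syl_lt i hi)).2⟩
  have h : (sylH.all fun i => sylH.contains (invI i)) = true := by decide +kernel
  simp only [List.all_eq_true, List.contains_iff_mem] at h
  exact h i hi

/-- all entries are in the table and commute with `u` -/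
noncomputable def centL (u : ℕ) : List ℕ := sylH.filter fun i => mH i u == mH u i

theorem mem_centL {u i : ℕ} : i ∈ centL u ↔ i ∈ sylH ∧ mH i u = mH u i := by
  simp [centL, List.mem_filter]

namespace PHyp

variable {G : Type*} [Group G] {φ : ℕ → G} {S : Subgroup G} (K : PHyp φ S)
include K

theorem one : φ 0 = 1 := by
  have h := K.mul 0 zero_syl 0 zero_syl
  rw [show mH 0 0 = 0 by decide +kernel] at h
  simpa using h

theorem eq_iff {i j : ℕ} (hi : i ∈ sylH) (hj : j ∈ sylH) : φ i = φ j ↔ i = j :=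
  ⟨K.inj i hi j hj, fun h => h ▸ rfl⟩

theorem eq_one_iff {i : ℕ} (hi : i ∈ sylH) : φ i = 1 ↔ i = 0 := by
  rw [← K.one, K.eq_iff hi zero_syl]

theorem comm_iff {i j : ℕ} (hi : i ∈ sylH) (hj : j ∈ sylH) :
    φ i * φ j = φ j * φ i ↔ mH i j = mH j i := by
  rw [← K.mul i hi j hj, ← K.mul j hj i hi, K.eq_iff (syl_closed i hi j hj) (syl_closed j hj i hi)]

theorem inv_eq {i : ℕ} (hi : i ∈ sylH) : φ (invI i) = (φ i)⁻¹ := by
  obtain ⟨h1, h2, -⟩ := invI_spec hi
  refine eq_inv_of_mul_eq_one_right ?_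
  rw [← K.mul i hi _ h1, h2, K.one]

theorem conj_eq {i p : ℕ} (hi : i ∈ sylH) (hp : p ∈ sylH) :
    φ (mH (mH p i) (invI p)) = φ p * φ i * (φ p)⁻¹ := by
  rw [K.mul _ (syl_closed p hp i hi) _ (invI_spec hp).1, K.mul p hp i hi, K.inv_eq hp]

theorem orderOf_two {i : ℕ} (hi : i ∈ sylH) (h : mH i i = 0) (h0 : i ≠ 0) : orderOf (φ i) = 2 :=
  orderOf_eq_prime (by rw [pow_two, ← K.mul i hi i hi, h, K.one]) fun e => h0 ((K.eq_one_iff hi).1 e)

theorem idx_invol {x : G} (hx : orderOf x = 2) (hxS : x ∈ S) :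
    ∃ i ∈ sylH, φ i = x ∧ mH i i = 0 ∧ i ≠ 0 := by
  obtain ⟨i, hi, rfl⟩ := K.surj x hxS
  refine ⟨i, hi, rfl, (K.eq_one_iff (syl_closed i hi i hi)).1 ?_, ?_⟩
  · rw [K.mul i hi i hi, ← pow_two, ← hx, pow_orderOf_eq_one]
  · rintro rfl
    rw [K.one, orderOf_one] at hx
    omega

/-- the subgroup of `S` given by a list of indices -/
def sub (_ : PHyp φ S) (l : List ℕ) : Subgroup G := Subgroup.closure {x | ∃ i ∈ l, φ i = x}

/-- the checks on a list of indices forming a subgroup -/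
noncomputable def _root_.CfsgLib.M12Syl.lOK (l : List ℕ) : Bool :=
  l.contains 0 && l.all fun i => sylH.contains i && l.contains (invI i) &&
    l.all fun j => l.contains (mH i j)

theorem mem_sub {l : List ℕ} (hl : lOK l = true) {x : G} : x ∈ K.sub l ↔ ∃ i ∈ l, φ i = x := by
  simp only [lOK, Bool.and_eq_true, List.all_eq_true, List.contains_iff_mem] at hl
  obtain ⟨h0, hl⟩ := hl
  refine ⟨fun h => ?_, fun ⟨i, hi, e⟩ => Subgroup.subset_closure ⟨i, hi, e⟩⟩
  induction h using Subgroup.closure_induction with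
  | mem x hx => exact hx
  | one => exact ⟨0, h0, K.one⟩
  | mul x y _ _ hx hy =>
    obtain ⟨i, hi, rfl⟩ := hx
    obtain ⟨j, hj, rfl⟩ := hy
    exact ⟨_, (hl i hi).2 j hj, K.mul i (hl i hi).1.1 j (hl j hj).1.1⟩
  | inv x _ hx =>
    obtain ⟨i, hi, rfl⟩ := hx
    exact ⟨_, (hl i hi).1.2, K.inv_eq (hl i hi).1.1⟩

theorem sub_le {l : List ℕ} (hl : lOK l = true) : K.sub l ≤ S := by
  intro x hx
  obtain ⟨i, hi, rfl⟩ := (K.mem_sub hl).1 hx
  simp only [lOK, Bool.and_eq_true, List.all_eq_true, List.contains_iff_mem] at hl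
  exact K.mem i (hl.2 i hi).1.1

theorem card_sub {l : List ℕ} (hl : lOK l = true) (hd : l.Nodup) : Nat.card (K.sub l) = l.length := by
  have hs : ∀ i ∈ l, i ∈ sylH := by
    have h := hl
    simp only [lOK, Bool.and_eq_true, List.all_eq_true, List.contains_iff_mem] at h
    exact fun i hi => (h.2 i hi).1.1
  rw [← List.toFinset_card_of_nodup hd, ← Nat.card_eq_finsetCard]
  refine (Nat.card_eq_of_bijective
    (fun i => ⟨φ i.1, (K.mem_sub hl).2 ⟨i.1, List.mem_toFinset.1 i.2, rfl⟩⟩) ⟨?_, ?_⟩).symm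
  · intro i j h
    exact Subtype.ext (K.inj _ (hs _ (List.mem_toFinset.1 i.2)) _ (hs _ (List.mem_toFinset.1 j.2))
      (Subtype.ext_iff.1 h))
  · rintro ⟨x, hx⟩
    obtain ⟨i, hi, rfl⟩ := (K.mem_sub hl).1 hx
    exact ⟨⟨i, List.mem_toFinset.2 hi⟩, rfl⟩

theorem card_eq : Nat.card S = 64 := by
  have hl : lOK sylH = true := by decide +kernel
  have he : K.sub sylH = S :=
    le_antisymm (K.sub_le hl) fun x hx => (K.mem_sub hl).2 (K.surj x hx)
  have h := K.card_sub hl (by decide +kernel)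
  rw [he] at h
  exact h.trans (by decide +kernel)

end PHyp

/-- the automorphism exchanging two classes -/
def sig (i : ℕ) : ℕ := sigL.getD (sylH.idxOf i) 0

theorem sig_ok : (∀ i ∈ sylH, sig i ∈ sylH ∧ sig (sig i) = i) ∧
    ∀ i ∈ sylH, ∀ j ∈ sylH, sig (mH i j) = mH (sig i) (sig j) := by
  have h : ((sylH.all fun i => sylH.contains (sig i) && sig (sig i) == i) &&
    sylH.all fun i => sylH.all fun j => sig (mH i j) == mH (sig i) (sig j)) = true := by decide +kernel
  simp only [Bool.and_eq_true, List.all_eq_true, List.contains_iff_mem, beq_iff_eq] at h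
  exact h

theorem PHyp.twist {G : Type*} [Group G] {φ : ℕ → G} {S : Subgroup G} (K : PHyp φ S) :
    PHyp (φ ∘ sig) S := by
  obtain ⟨h1, h2⟩ := sig_ok
  refine ⟨fun i hi => K.mem _ (h1 i hi).1, fun x hx => ?_, fun i hi j hj h => ?_, fun i hi j hj => ?_⟩
  · obtain ⟨i, hi, rfl⟩ := K.surj x hx
    exact ⟨sig i, (h1 i hi).1, by rw [Function.comp_apply, (h1 i hi).2]⟩
  · rw [← (h1 i hi).2, ← (h1 j hj).2, K.inj _ (h1 i hi).1 _ (h1 j hj).1 h]
  · rw [Function.comp_apply, h2 i hi j hj]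
    exact K.mul _ (h1 i hi).1 _ (h1 j hj).1

end CfsgLib.M12Syl
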