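import Cfsg.Agent.Lib.M12Syl.CentL

/-!
The centraliser of the central involution is its core times the normaliser of the extraspecial subgroup.
-/

set_option autoImplicit false
set_option linter.style.haveILetI false
set_option linter.unusedSectionVars false
set_option maxHeartbeats 1000000

namespace CfsgLib.M12Syl

open CfsgLib.M12Recog

namespace PHyp

variable {G : Type*} [Group G] {φ : ℕ → G} {S : Subgroup G} (K : PHyp φ S)
include K

/-- the core of the centraliser of the central involution -/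
def theta (_ : PHyp φ S) : Subgroup G := Cfsg.centralizerPPrimeCore 2 (φ 128)

theorem theta_le : K.theta ≤ K.cT := Subgroup.map_subtype_le _

theorem theta_odd [Finite G] : ¬ 2 ∣ Nat.card K.theta := by
  haveI := Fact.mk Nat.prime_two
  exact fun hd => Nat.prime_two.ne_one
    (Nat.eq_one_of_dvd_coprimes (Signalizer.coprime_centralizerPPrimeCore (φ 128)) hd (dvd_refl 2))

theorem theta_conj [Finite G] {x y : G} (hx : x ∈ K.cT) (hy : y ∈ K.theta) : x * y * x⁻¹ ∈ K.theta :=
  conj_of_mem_normalizer (Signalizer.centralizerPPrimeCore_normalized (φ 128) hx) hy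

/-- the factorisation -/
structure CentFac : Prop where
  factor : ∀ x ∈ K.cT, ∃ o ∈ K.theta, ∃ n ∈ K.cT,
    (∀ y ∈ K.sub qSub, n * y * n⁻¹ ∈ K.sub qSub) ∧ x = o * n
  triv : ∀ {L : Subgroup G}, K.IsL L → ∀ n ∈ L, (∀ y ∈ K.sub qSub, n * y * n⁻¹ ∈ K.sub qSub) →
    K.TrivQ n → ∃ o ∈ K.theta, ∃ q ∈ K.sub qSub, n = o * q

theorem cent_fac [Finite G] (hS : SylIn ⊤ S) (F : Fus φ) : K.CentFac := by
  classical
  haveI := Fact.mk Nat.prime_two
  obtain ⟨hok, hqs, hgs, h128Q⟩ := qSub_mem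
  obtain ⟨hsq, hcm, -, -, hnorm, -⟩ := qSub_facts
  suffices main : ∀ L : Subgroup G, K.IsL L →
      (∀ x ∈ L, ∃ o ∈ K.theta, ∃ n ∈ K.cT, (∀ y ∈ K.sub qSub, n * y * n⁻¹ ∈ K.sub qSub) ∧ x = o * n) ∧
      ∀ n ∈ L, (∀ y ∈ K.sub qSub, n * y * n⁻¹ ∈ K.sub qSub) →
        K.TrivQ n → ∃ o ∈ K.theta, ∃ q ∈ K.sub qSub, n = o * q by
    obtain ⟨L, hL⟩ := K.exists_L hS
    refine ⟨fun x hx => ?_, fun {L'} hL' => (main L' hL').2⟩
    rcases hL.cover x hx with h | h
    · exact (main L hL).1 x h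
    obtain ⟨o, ho, n, hn, hnQ, e⟩ := (main L hL).1 _ h
    have h5 : φ 5 ∈ K.cT := K.mem_cT.2 (K.t_central (K.mem 5 (heads_ok 5 (by simp))))
    refine ⟨o, ho, n * (φ 5)⁻¹, mul_mem hn (inv_mem h5), fun y hy => ?_, ?_⟩
    · rw [show n * (φ 5)⁻¹ * y * (n * (φ 5)⁻¹)⁻¹ = n * ((φ 5)⁻¹ * y * (φ 5)⁻¹⁻¹) * n⁻¹ by group]
      refine hnQ _ (conj_of_mem_normalizer (inv_mem ?_) hy)
      exact K.sub_norm (l := sylH) (by decide +kernel) hok hnorm
        ((K.mem_sub (by decide +kernel)).2 ⟨5, heads_ok 5 (by simp), rfl⟩)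
    · rw [← mul_assoc, ← e]; group
  intro L hL
  have hLS := hL.sylIn K hS
  have htQ : φ 128 ∈ K.sub qSub := (K.mem_sub hok).2 ⟨128, h128Q, rfl⟩
  set tL : L := ⟨φ 128, hLS.le htQ⟩ with htL
  set Z : Subgroup L := Subgroup.zpowers tL with hZ
  have htt : tL * tL = 1 := Subtype.ext (by
    show φ 128 * φ 128 = 1
    rw [← K.mul _ z_central.1 _ z_central.1, z_central.2.1, K.one])
  have hcomm : ∀ x : L, x * tL = tL * x := fun x => Subtype.ext (K.mem_cT.1 (hL.le x.2))
  have hZmem : ∀ z : L, z ∈ Z → z = 1 ∨ z = tL := by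
    intro z hz
    obtain ⟨k, rfl⟩ := Subgroup.mem_zpowers_iff.1 hz
    rcases Int.even_or_odd k with ⟨r, rfl⟩ | ⟨r, rfl⟩
    · exact .inl (by rw [← two_mul, zpow_mul, zpow_two, htt, one_zpow])
    · exact .inr (by rw [zpow_add, zpow_mul, zpow_two, htt, one_zpow, one_mul, zpow_one])
  haveI hZn : Z.Normal := ⟨fun z hz x => by
    rcases hZmem z hz with rfl | rfl
    · simp
    · rw [hcomm x, mul_inv_cancel_right]; exact Subgroup.mem_zpowers _⟩
  set π : L →* L ⧸ Z := QuotientGroup.mk' Z with hπ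
  have hπs : Function.Surjective π := QuotientGroup.mk'_surjective _
  have hπeq : ∀ a b : L, π a = π b ↔ (b : G) = a ∨ (b : G) = a * φ 128 := by
    intro a b
    rw [hπ, QuotientGroup.mk'_eq_mk']
    constructor
    · rintro ⟨z, hz, e⟩
      rcases hZmem z hz with rfl | rfl
      · exact .inl (by rw [← e, mul_one])
      · exact .inr (by rw [← e]; rfl)
    · rintro (e | e)
      · exact ⟨1, one_mem _, Subtype.ext (by rw [mul_one, e])⟩
      · exact ⟨tL, Subgroup.mem_zpowers _, Subtype.ext e.symm⟩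
  set Q : Subgroup L := (K.sub qSub).subgroupOf L with hQ
  set A : Subgroup (L ⧸ Z) := Q.map π with hA
  set c : ℕ → L := fun i => if hi : φ i ∈ L then ⟨φ i, hi⟩ else 1 with hc
  have hcval : ∀ i ∈ qSub, (c i : G) = φ i := fun i hi => by
    simp [hc, dif_pos (hLS.le ((K.mem_sub hok).2 ⟨i, hi, rfl⟩))]
  have hcA : ∀ i ∈ qSub, π (c i) ∈ A := fun i hi =>
    ⟨c i, Subgroup.mem_subgroupOf.2 (by rw [hcval i hi]; exact (K.mem_sub hok).2 ⟨i, hi, rfl⟩), rfl⟩
  have hAel : ∀ a ∈ A, ∃ i ∈ qSub, π (c i) = a := by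
    rintro _ ⟨q, hq, rfl⟩
    obtain ⟨i, hi, e⟩ := (K.mem_sub hok).1 (Subgroup.mem_subgroupOf.1 hq)
    exact ⟨i, hi, congrArg π (Subtype.ext (by rw [hcval i hi, e]))⟩
  have hmemA : ∀ x : L, π x ∈ A → (x : G) ∈ K.sub qSub := by
    rintro x ⟨q, hq, e⟩
    rcases (hπeq q x).1 e with e' | e' <;> rw [e']
    · exact Subgroup.mem_subgroupOf.1 hq
    · exact mul_mem (Subgroup.mem_subgroupOf.1 hq) htQ
  have hπnorm : ∀ n : L, (∀ y ∈ K.sub qSub, (n : G) * y * (n : G)⁻¹ ∈ K.sub qSub) ↔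
      ∀ a ∈ A, π n * a * (π n)⁻¹ ∈ A := by
    intro n
    constructor
    · rintro h _ ⟨q, hq, rfl⟩
      exact ⟨n * q * n⁻¹, Subgroup.mem_subgroupOf.2 (h _ (Subgroup.mem_subgroupOf.1 hq)),
        by rw [map_mul, map_mul, map_inv]⟩
    · intro h y hy
      exact hmemA (n * ⟨y, hLS.le hy⟩ * n⁻¹) (by
        rw [map_mul, map_mul, map_inv]
        exact h _ ⟨_, Subgroup.mem_subgroupOf.2 hy, rfl⟩)
  have hA2 : IsPGroup 2 A := (IsPGroup.of_injective hLS.two
    (Subgroup.subgroupOfEquivOfLe hLS.le).toMonoidHom (Subgroup.subgroupOfEquivOfLe hLS.le).injective).map π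
  have hel : Cfsg.IsElementaryAbelian 2 A := by
    refine ⟨⟨⟨fun a b => Subtype.ext ?_⟩⟩, fun a ha => ?_⟩
    · obtain ⟨i, hi, ei⟩ := hAel a a.2
      obtain ⟨j, hj, ej⟩ := hAel b b.2
      show (a : L ⧸ Z) * b = b * a
      rw [← ei, ← ej, ← map_mul, ← map_mul, hπeq, Subgroup.coe_mul, Subgroup.coe_mul, hcval i hi, hcval j hj]
      have h := hcm j hj i hi
      have hv := K.comm_val (hqs j hj) (hqs i hi)
      simp only [List.mem_cons, List.not_mem_nil, or_false] at h
      rcases h with h | h <;> rw [h] at hv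
      · refine .inl ?_
        rw [K.one] at hv
        calc φ j * φ i = φ j * φ i * (φ j)⁻¹ * (φ i)⁻¹ * (φ i * φ j) := by group
          _ = φ i * φ j := by rw [← hv, one_mul]
      · refine .inr ?_
        rw [show φ i * φ j * φ 128 = φ 128 * (φ i * φ j) from
          K.t_central (mul_mem (K.mem i (hqs i hi)) (K.mem j (hqs j hj))), hv]
        group
    · obtain ⟨i, hi, rfl⟩ := hAel a ha
      rw [pow_two, ← map_mul, ← map_one π, hπeq, Subgroup.coe_mul, hcval i hi, OneMemClass.coe_one,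
        ← K.mul i (hqs i hi) i (hqs i hi)]
      have h := hsq i hi
      simp only [List.mem_cons, List.not_mem_nil, or_false] at h
      rcases h with h | h <;> rw [h]
      · exact .inl K.one.symm
      · exact .inr (by rw [← K.mul _ z_central.1 _ z_central.1, z_central.2.1, K.one])
  have h8 : 8 ≤ Nat.card A := by
    have hl : ([0, 3, 9, 25, 26, 61, 71, 107].all fun i => qSub.contains i) = true ∧
        (List.Pairwise (fun x y => eqT x y = false) [0, 3, 9, 25, 26, 61, 71, 107]) := by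
      exact ⟨by decide +kernel, by decide +kernel⟩
    obtain ⟨hl1, hl2⟩ := hl
    simp only [List.all_eq_true, List.contains_iff_mem] at hl1
    have hinj : ([0, 3, 9, 25, 26, 61, 71, 107].map fun i => π (c i)).Nodup := by
      rw [List.Nodup, List.pairwise_map]
      refine hl2.imp_of_mem fun {i j} hi hj h e => ?_
      have hi' := hl1 i hi
      have hj' := hl1 j hj
      have e' := (hπeq (c j) (c i)).1 e.symm
      rw [hcval i hi', hcval j hj', ← K.eqT_iff (hqs i hi') (hqs j hj'), h] at e'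
      exact Bool.noConfusion e'
    haveI := Fintype.ofFinite A
    let g : Fin 8 → A := fun k => ⟨([0, 3, 9, 25, 26, 61, 71, 107].map fun i => π (c i))[(k : ℕ)]'(by simp),
      by rw [List.getElem_map]; exact hcA _ (hl1 _ (List.getElem_mem _))⟩
    have := Nat.card_le_card_of_injective g fun a b e => by
      exact Fin.ext ((hinj.getElem_inj_iff).1 (Subtype.ext_iff.1 e))
    simpa using this
  have hsyl : SylIn ⊤ A := by
    refine ⟨le_top, hA2, fun Y _ hY => ?_⟩
    have hker : IsPGroup 2 π.ker := by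
      rw [hπ, QuotientGroup.ker_mk']
      exact IsPGroup.of_card (n := 1) (by
        rw [hZ, Nat.card_zpowers, ← Subgroup.orderOf_coe, K.t_order]; rfl)
    obtain ⟨d, hd, hdY⟩ := hLS.absorb ((Y.comap π).map L.subtype) (Subgroup.map_subtype_le _)
      ((hY.comap_of_ker_isPGroup π hker).map _)
    refine ⟨π ⟨d, hd⟩, Subgroup.mem_top _, fun y hy => ?_⟩
    obtain ⟨x, rfl⟩ := hπs y
    exact ⟨⟨d, hd⟩ * x * ⟨d, hd⟩⁻¹, Subgroup.mem_subgroupOf.2 (hdY _ ⟨x, hy, rfl⟩),
      by rw [map_mul, map_mul, map_inv]⟩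
  have hfix : ∀ n : L, ∀ i ∈ qSub, π n * π (c i) * (π n)⁻¹ = π (c i) ↔
      ((n : G) * φ i * (n : G)⁻¹ = φ i ∨ (n : G) * φ i * (n : G)⁻¹ = φ i * φ 128) := by
    intro n i hi
    rw [← map_inv, ← map_mul, ← map_mul, eq_comm, hπeq]
    simp only [Subgroup.coe_mul, InvMemClass.coe_inv, hcval i hi]
  have hfree : ∀ x : L ⧸ Z, (∀ a ∈ A, x * a * x⁻¹ ∈ A) → ∀ a ∈ A, a ≠ 1 → x * a * x⁻¹ = a →
      ∀ b ∈ A, x * b * x⁻¹ = b := by
    intro x hx a ha ha1 hxa b hb
    obtain ⟨n, rfl⟩ := hπs x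
    have hQn := (hπnorm n).2 hx
    obtain ⟨i, hi, rfl⟩ := hAel a ha
    obtain ⟨j, hj, rfl⟩ := hAel b hb
    refine (hfix n j hj).2 (K.free_Q F (hL.le n.2) hQn (K.trivQ_three hL hS F n.2 hQn) hi ?_
      ((hfix n i hi).1 hxa) j hj)
    simp only [List.mem_cons, List.not_mem_nil, or_false]
    intro h
    refine ha1 ?_
    rw [← map_one π, eq_comm, hπeq, hcval i hi, OneMemClass.coe_one, one_mul]
    rcases h with rfl | rfl
    · exact .inl K.one
    · exact .inr rfl
  have f : (9 : ℕ) ∈ qSub ∧ (25 : ℕ) ∈ qSub ∧ mH 25 128 ∈ c25 :=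
    ⟨mem_dec (by decide +kernel), mem_dec (by decide +kernel), mem_dec (by decide +kernel)⟩
  obtain ⟨f9, f25, f25'⟩ := f
  have hne1 : ∀ i ∈ [9, 25], π (c i) ≠ 1 := by
    intro i hi e
    have hiQ : i ∈ qSub ∧ i ≠ 0 ∧ i ≠ 128 := by
      simp only [List.mem_cons, List.not_mem_nil, or_false] at hi
      rcases hi with rfl | rfl
      · exact ⟨f9, by norm_num, by norm_num⟩
      · exact ⟨f25, by norm_num, by norm_num⟩
    rw [← map_one π, eq_comm, hπeq, hcval i hiQ.1, OneMemClass.coe_one, one_mul] at e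
    rcases e with e | e
    · exact hiQ.2.1 ((K.eq_one_iff (hqs i hiQ.1)).1 e)
    · exact hiQ.2.2 ((K.eq_iff (hqs i hiQ.1) z_central.1).1 e)
  have H : FpfSylow A := by
    refine ⟨hel, h8, hsyl, hfree, π (c 9), hcA 9 f9, π (c 25), hcA 25 f25, hne1 9 (by simp),
      hne1 25 (by simp), fun hconj => ?_⟩
    obtain ⟨y, hy⟩ := isConj_iff.1 hconj
    obtain ⟨l, rfl⟩ := hπs y
    rw [← map_inv, ← map_mul, ← map_mul, eq_comm, hπeq, Subgroup.coe_mul, Subgroup.coe_mul,
      InvMemClass.coe_inv, hcval 9 f9, hcval 25 f25] at hy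
    rcases hy with e | e
    · exact F.z (F.nine.trans (isConj_iff.2 ⟨(l : G), e⟩))
    · refine F.z (F.nine.trans ((isConj_iff.2 ⟨(l : G), e⟩ : IsConj (φ 9) _).trans ?_))
      rw [← K.mul 25 (hqs 25 f25) 128 z_central.1]
      exact (K.isConj_class (c := (25, c25)) (by simp [classesL]) f25').symm
  obtain ⟨W, hWn, hW2, hWf, hWc⟩ := H.structure_thm
  -- the preimage of `W`
  set N : Subgroup L := W.comap π with hN
  haveI : N.Normal := hWn.comap π
  have hcard : Nat.card N = 2 * Nat.card W := by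
    have h := Subgroup.index_comap_of_surjective W hπs
    have h1 := N.card_mul_index
    have h2 := W.card_mul_index
    have h3 := Z.card_mul_index
    have hZ2 : Nat.card Z = 2 := by rw [hZ, Nat.card_zpowers, ← Subgroup.orderOf_coe]; exact K.t_order
    have h4 : Z.index = Nat.card (L ⧸ Z) := Subgroup.index_eq_card Z
    rw [← hN] at h
    rw [h] at h1
    rw [h4, hZ2, ← h2] at h3
    have h5 : Nat.card N * W.index = 2 * Nat.card W * W.index := by rw [mul_assoc, h3, h1]
    exact Nat.eq_of_mul_eq_mul_right (Nat.pos_of_ne_zero Subgroup.index_ne_zero_of_finite) h5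
  have hcen : tL ∈ N := by
    show π tL ∈ W
    have : π tL = 1 := by rw [hπ]; exact (QuotientGroup.eq_one_iff _).2 (Subgroup.mem_zpowers _)
    rw [this]; exact one_mem W
  set tN : N := ⟨tL, hcen⟩
  have hTp : IsPGroup 2 (Subgroup.zpowers tN) := IsPGroup.of_card (n := 1) (by
    rw [Nat.card_zpowers, ← Subgroup.orderOf_coe, ← Subgroup.orderOf_coe]; exact K.t_order)
  obtain ⟨T, hT⟩ := hTp.exists_le_sylow
  have hTeq : (T : Subgroup N) = Subgroup.zpowers tN := by
    refine (Subgroup.eq_of_le_of_card_ge hT ?_).symm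
    rw [T.card_eq_multiplicity, hcard, Nat.factorization_mul (by norm_num) Nat.card_pos.ne',
      Finsupp.add_apply, Nat.prime_two.factorization_self, Nat.factorization_eq_zero_of_not_dvd hW2,
      Nat.card_zpowers, ← Subgroup.orderOf_coe, ← Subgroup.orderOf_coe]
    exact le_of_eq K.t_order.symm
  have hnpc : Cfsg.HasNormalPComplement 2 N := by
    refine Transfer.hasNormalPComplement_of_normalizer_le_centralizer T fun x _ =>
      Subgroup.mem_centralizer_iff.2 fun p hp => ?_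
    have hp' : p ∈ Subgroup.zpowers tN := by rw [← hTeq]; exact hp
    obtain ⟨k, rfl⟩ := Subgroup.mem_zpowers_iff.1 hp'
    exact ((show Commute tN x from Subtype.ext (hcomm x).symm).zpow_left k).eq
  set O : Subgroup L := (Cfsg.pPrimeCore 2 N).map N.subtype with hO
  have hOodd : (Nat.card O).Coprime 2 := by
    rw [hO, Subgroup.card_map_of_injective N.subtype_injective]; exact Transfer.pPrimeCore_coprime 2
  have hOmem : ∀ u : L, u ∈ N → ¬ 2 ∣ orderOf u → u ∈ O := by
    intro u hu ho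
    refine ⟨⟨u, hu⟩, ?_, rfl⟩
    show _ ∈ Cfsg.pPrimeCore 2 _
    rw [Transfer.pPrimeCore_eq_pResidual hnpc]
    refine Transfer.mem_pResidual_of_coprime ((Nat.prime_two.coprime_iff_not_dvd).mpr ?_).symm
    rwa [← Subgroup.orderOf_coe]
  haveI hOn : O.Normal := ⟨fun u hu x => by
    refine hOmem _ (Subgroup.Normal.conj_mem inferInstance u (Subgroup.map_subtype_le _ hu) x) ?_
    rw [← MulAut.conj_apply, MulEquiv.orderOf_eq]
    exact (Nat.prime_two.coprime_iff_not_dvd).mp (Transfer.coprime_orderOf_of_mem hOodd hu).symm⟩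
  have hPL : (Cfsg.pPrimeCore 2 L).map L.subtype ≤ K.theta := by
    refine Signalizer.le_centralizerPPrimeCore ((Subgroup.map_subtype_le _).trans hL.le)
      (Signalizer.le_normalizer_of_forall fun g hg y hy => ?_) ?_
    · obtain ⟨z, hz, rfl⟩ := hy
      let e : L →* L :=
        { toFun := fun l => ⟨g * l * g⁻¹, hL.conj g hg l l.2⟩
          map_one' := Subtype.ext (by simp)
          map_mul' := fun a b => Subtype.ext (by simp [mul_assoc]) }
      have he : Function.Surjective e := Finite.surjective_of_injective fun a b h => Subtype.ext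
        (mul_left_cancel (mul_right_cancel (congrArg Subtype.val h)))
      haveI := Transfer.pPrimeCore_normal 2 L
      refine ⟨e z, Transfer.le_pPrimeCore (Subgroup.Normal.map inferInstance e he) ?_ ⟨z, hz, rfl⟩, rfl⟩
      exact Nat.Coprime.coprime_dvd_left (Subgroup.card_map_dvd _ e) (Transfer.pPrimeCore_coprime 2)
    · rw [Subgroup.card_map_of_injective L.subtype_injective]
      exact Transfer.pPrimeCore_coprime 2
  have hOθ : ∀ u ∈ O, (u : G) ∈ K.theta := fun u hu =>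
    hPL ⟨u, Transfer.le_pPrimeCore hOn hOodd hu, rfl⟩
  have hNsplit : ∀ u ∈ N, ∃ o : L, (o : G) ∈ K.theta ∧ ∃ z ∈ Z, u = o * z := by
    intro u hu
    obtain ⟨Q', M, hM, hc'⟩ := hnpc
    obtain ⟨⟨m, q⟩, e⟩ := hc'.2 ⟨u, hu⟩
    have hMO : ((m : N) : L) ∈ O := by
      refine ⟨m, Transfer.le_pPrimeCore hM ?_ m.2, rfl⟩
      refine Nat.Coprime.symm ((Nat.prime_two.coprime_iff_not_dvd).mpr ?_)
      rw [← hc'.index_eq_card]
      exact Q'.not_dvd_index
    obtain ⟨g, hg⟩ := MulAction.exists_smul_eq N Q' T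
    have hq : g * (q : N) * g⁻¹ ∈ (T : Subgroup N) := by rw [← hg]; exact ⟨q, q.2, rfl⟩
    rw [hTeq] at hq
    obtain ⟨k, hk⟩ := Subgroup.mem_zpowers_iff.1 hq
    have hct : Commute g (tN ^ k) := (show Commute g tN from Subtype.ext (hcomm g)).zpow_right k
    have hqv : (q : N) = tN ^ k := by
      calc (q : N) = g⁻¹ * (g * (q : N) * g⁻¹) * g := by group
        _ = tN ^ k := by rw [← hk, mul_assoc, ← hct.eq]; group
    refine ⟨(m : N), hOθ _ hMO, tL ^ k, Subgroup.zpow_mem_zpowers tL k, ?_⟩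
    have := congrArg Subtype.val e
    simp only [Subgroup.coe_mul] at this
    rw [hqv] at this
    exact this.symm
  constructor
  · intro x hx
    obtain ⟨w, hw, n, hn, e⟩ := hWf (π ⟨x, hx⟩)
    obtain ⟨n', rfl⟩ := hπs n
    have hu : (⟨x, hx⟩ : L) * n'⁻¹ ∈ N := by
      show π _ ∈ W
      rw [map_mul, map_inv, e, mul_inv_cancel_right]; exact hw
    obtain ⟨o, ho, z, hz, e'⟩ := hNsplit _ hu
    refine ⟨o, ho, ((z * n' : L) : G), hL.le (z * n').2, fun y hy => ?_, ?_⟩
    · refine (hπnorm (z * n')).2 ?_ y hy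
      rw [show π (z * n') = π n' by
        rw [map_mul, hπ, (QuotientGroup.eq_one_iff z).2 hz |> fun h => (show QuotientGroup.mk' Z z = 1 from h), one_mul]]
      exact hn
    · have := congrArg Subtype.val (mul_inv_eq_iff_eq_mul.1 e')
      simpa [mul_assoc] using this
  · intro n hn hnQ htriv
    obtain ⟨w, hw, b, hb, e⟩ := hWc (π ⟨n, hn⟩) fun a ha => by
      obtain ⟨i, hi, rfl⟩ := hAel a ha
      exact (hfix ⟨n, hn⟩ i hi).2 (htriv i hi)
    obtain ⟨q, hq, rfl⟩ := hb
    have hu : (⟨n, hn⟩ : L) * q⁻¹ ∈ N := by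
      show π _ ∈ W
      rw [map_mul, map_inv, e, mul_inv_cancel_right]; exact hw
    obtain ⟨o, ho, z, hz, e'⟩ := hNsplit _ hu
    refine ⟨o, ho, ((z * q : L) : G), ?_, ?_⟩
    · refine mul_mem ?_ (Subgroup.mem_subgroupOf.1 hq)
      rcases hZmem z hz with rfl | rfl
      · exact one_mem _
      · exact htQ
    · have := congrArg Subtype.val (mul_inv_eq_iff_eq_mul.1 e')
      simpa [mul_assoc] using this

end PHyp

end CfsgLib.M12Syl
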