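import Cfsg.Agent.Lib.M12Syl.Classes

/-!
The class of `φ 5` in the centraliser of the central involution does not meet the extraspecial subgroup.
-/

set_option autoImplicit false
set_option linter.style.haveILetI false
set_option linter.unusedSectionVars false
set_option maxHeartbeats 1000000

namespace CfsgLib.M12Syl

open CfsgLib.M12Recog

/-- the centraliser of `φ 5` in `S` -/
def e5 : List ℕ := [0, 5, 9, 20, 121, 124, 128, 141]

/-- its conjugate -/
def e5' : List ℕ := [0, 9, 100, 109, 121, 128, 149, 156]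

/-- the subgroup generated by `128`, `i`, `j` -/
noncomputable def genF (i j : ℕ) : List ℕ :=
  [0, 128, i, mH i 128, j, mH j 128, mH j i, mH (mH j i) 128]

/-- every element of `l` normalises `F` -/
noncomputable def normBy (l F : List ℕ) : Bool :=
  l.all fun s => F.all fun x => F.contains (mH (mH s x) (invI s))

theorem e5_ok : lOK e5 = true ∧ e5.Nodup ∧ lOK e5' = true ∧ (∀ i ∈ e5, i ∈ kSub) ∧
    (∀ i ∈ centL 5, i ∈ e5) ∧ ∀ i ∈ e5, i ∈ centL 5 := by
  have h : (e5.all (fun i => kSub.contains i) && (centL 5).all (fun i => e5.contains i) &&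
      e5.all fun i => (centL 5).contains i) = true := by decide +kernel
  simp only [Bool.and_eq_true, List.all_eq_true, List.contains_iff_mem] at h
  exact ⟨by decide +kernel, by decide +kernel, by decide +kernel, h.1.1, h.1.2, h.2⟩

theorem kSub_ok : lOK kSub = true ∧ (∀ i ∈ kSub, i ∈ sylH) ∧ (∀ i ∈ kSub, mH i 9 = mH 9 i) ∧
    (∀ i ∈ sylH, mH i 9 = mH 9 i → i ∈ kSub) ∧ normBy kSub e5 = true := by
  have h : ((kSub.all fun i => sylH.contains i && mH i 9 == mH 9 i) &&
      sylH.all fun i => mH i 9 != mH 9 i || kSub.contains i) = true := by decide +kernel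
  simp only [Bool.and_eq_true, Bool.or_eq_true, List.all_eq_true, List.contains_iff_mem, beq_iff_eq,
    bne_iff_ne] at h
  exact ⟨(maxes_ok kSub (by simp)).1, fun i hi => (h.1 i hi).1, fun i hi => (h.1 i hi).2,
    fun i hi e => (h.2 i hi).resolve_left fun h' => h' e, by decide +kernel⟩

/-- Finite version of membership in a normaliser. -/
theorem mem_normalizer_of_forall {G : Type*} [Group G] [Finite G] {H : Subgroup G} {g : G}
    (h : ∀ x ∈ H, g * x * g⁻¹ ∈ H) : g ∈ Subgroup.normalizer (H : Set G) := by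
  refine Subgroup.mem_normalizer_iff.2 fun x => ⟨h x, fun hx => ?_⟩
  let F : H → H := fun y => ⟨g * y * g⁻¹, h y y.2⟩
  obtain ⟨y, hy⟩ := Finite.surjective_of_injective (f := F) (fun a b e => Subtype.ext
    (mul_left_cancel (mul_right_cancel (congrArg Subtype.val e)))) ⟨_, hx⟩
  have : g * y * g⁻¹ = g * x * g⁻¹ := congrArg Subtype.val hy
  have e : (y : G) = x := mul_left_cancel (mul_right_cancel this)
  exact e ▸ y.2

theorem conj_of_mem_normalizer {G : Type*} [Group G] {H : Subgroup G} {g : G}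
    (h : g ∈ Subgroup.normalizer (H : Set G)) {x : G} (hx : x ∈ H) : g * x * g⁻¹ ∈ H :=
  ((Subgroup.mem_normalizer_iff.1 h) x).1 hx

namespace PHyp

variable {G : Type*} [Group G] {φ : ℕ → G} {S : Subgroup G} (K : PHyp φ S)
include K

/-- the centraliser of the central involution -/
def cT (_ : PHyp φ S) : Subgroup G := Subgroup.centralizer ({φ 128} : Set G)

theorem mem_cT {x : G} : x ∈ K.cT ↔ x * φ 128 = φ 128 * x := Subgroup.mem_centralizer_singleton_iff

theorem sylIn_cT [Finite G] (hS : SylIn ⊤ S) : SylIn K.cT S := by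
  have := hS.center (z := φ 128) fun s hs => K.t_central hs
  rwa [top_inf_eq] at this

theorem sub_norm {l F : List ℕ} (hl : lOK l = true) (hF : lOK F = true) (h : normBy l F = true)
    [Finite G] : K.sub l ≤ Subgroup.normalizer (K.sub F : Set G) := by
  intro x hx
  obtain ⟨s, hs, rfl⟩ := (K.mem_sub hl).1 hx
  refine mem_normalizer_of_forall fun y hy => ?_
  obtain ⟨f, hf, rfl⟩ := (K.mem_sub hF).1 hy
  simp only [normBy, List.all_eq_true, List.contains_iff_mem] at h
  simp only [lOK, Bool.and_eq_true, List.all_eq_true, List.contains_iff_mem] at hl hF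
  exact (K.mem_sub (by simp only [lOK, Bool.and_eq_true, List.all_eq_true, List.contains_iff_mem]
                       exact hF)).2
    ⟨_, h s hs f hf, K.conj_eq (hF.2 f hf).1.1 (hl.2 s hs).1.1⟩

theorem mem_kSub_of {x : G} (hx : x ∈ S) (h : x * φ 9 = φ 9 * x) : x ∈ K.sub kSub := by
  obtain ⟨hk, -, -, hk', -⟩ := kSub_ok
  obtain ⟨i, hi, rfl⟩ := K.surj x hx
  exact (K.mem_sub hk).2 ⟨i, hk' i hi ((K.comm_iff hi (heads_ok 9 (by simp))).1 h), rfl⟩

theorem comm_nine {x : G} (hx : x ∈ K.sub kSub) : x * φ 9 = φ 9 * x := by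
  obtain ⟨hk, hks, hk9, -, -⟩ := kSub_ok
  obtain ⟨i, hi, rfl⟩ := (K.mem_sub hk).1 hx
  exact (K.comm_iff (hks i hi) (heads_ok 9 (by simp))).2 (hk9 i hi)

/-- An element centralising `φ 128` and `φ 9` and normalising their centraliser in `S` fixes `e5`. -/
theorem fix_E [Finite G] (hS : SylIn ⊤ S) {g : G} (hgt : g ∈ K.cT)
    (hg9 : g * φ 9 * g⁻¹ = φ 9) (hgK : ∀ x ∈ K.sub kSub, g * x * g⁻¹ ∈ K.sub kSub) :
    g ∈ Subgroup.normalizer (K.sub e5 : Set G) := by
  classical
  obtain ⟨hk, hks, hk9, -, hkE⟩ := kSub_ok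
  obtain ⟨he, hend, he', heK, -, -⟩ := e5_ok
  have hD := K.sylIn_cT hS
  set N0 : Subgroup G := K.cT ⊓ Subgroup.centralizer ({φ 9} : Set G) ⊓
    Subgroup.normalizer (K.sub kSub : Set G) with hN0
  have hgN0 : g ∈ N0 := Subgroup.mem_inf.2 ⟨Subgroup.mem_inf.2 ⟨hgt,
    Subgroup.mem_centralizer_singleton_iff.2 (mul_inv_eq_iff_eq_mul.1 hg9)⟩,
    mem_normalizer_of_forall hgK⟩
  have hKN0 : K.sub kSub ≤ N0 := fun x hx => Subgroup.mem_inf.2 ⟨Subgroup.mem_inf.2
    ⟨K.mem_cT.2 (K.t_central (K.sub_le hk hx)), Subgroup.mem_centralizer_singleton_iff.2 (K.comm_nine hx)⟩,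
    Subgroup.le_normalizer hx⟩
  -- an odd power
  obtain ⟨k, m, hm, hkm⟩ := Nat.exists_eq_two_pow_mul_odd (orderOf_pos g).ne'
  obtain ⟨S0, hS0, hKS0⟩ := sylIn_exists N0 (K.sub kSub) hKN0 (hS.two.to_le (K.sub_le hk))
  have hgm : g ^ m ∈ Subgroup.normalizer (K.sub e5 : Set G) := by
    obtain ⟨d, hd, hdz⟩ := hS0.absorb (Subgroup.zpowers (g ^ m))
      (Subgroup.zpowers_le.2 (pow_mem hgN0 m)) (by
        refine IsPGroup.of_card (n := k) ?_
        rw [Nat.card_zpowers, orderOf_pow, hkm, Nat.gcd_mul_left_left, Nat.mul_div_cancel _ hm.pos])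
    have hSK : S0 ≤ K.sub kSub := by
      obtain ⟨c, hc, hcS⟩ := hD.absorb S0
        (hS0.le.trans (inf_le_left.trans inf_le_left)) hS0.two
      have hc9 : c * φ 9 * c⁻¹ ∈ S := hcS _ (hKS0 ((K.mem_sub hk).2
        ⟨9, mem_dec (by decide +kernel), rfl⟩))
      obtain ⟨j, hj, ej⟩ := K.surj _ hc9
      by_contra hne
      have hlt : Nat.card (K.sub kSub) < Nat.card S0 :=
        lt_of_not_ge fun h => hne (Subgroup.eq_of_le_of_card_ge hKS0 h).ge
      have hle : S0.map (MulAut.conj c).toMonoidHom ≤ S ⊓ Subgroup.centralizer ({φ j} : Set G) := by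
        rintro _ ⟨y, hy, rfl⟩
        refine Subgroup.mem_inf.2 ⟨hcS y hy, Subgroup.mem_centralizer_singleton_iff.2 ?_⟩
        show c * y * c⁻¹ * φ j = φ j * (c * y * c⁻¹)
        rw [ej]
        exact conj_comm (Subgroup.mem_centralizer_singleton_iff.1
          (Subgroup.mem_inf.1 (Subgroup.mem_inf.1 (hS0.le hy)).1).2)
      have h64 : Nat.card (S0.map (MulAut.conj c).toMonoidHom) = 64 := by
        rw [Subgroup.card_map_of_injective (MulEquiv.injective _)]
        have h1 := hD.card_dvd (hS0.le.trans (inf_le_left.trans inf_le_left)) hS0.two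
        have h2 := Subgroup.card_dvd_of_le hKS0
        rw [K.card_eq] at h1
        rw [K.card_sub hk (maxes_ok kSub (by simp)).2.1, (maxes_ok kSub (by simp)).2.2] at h2 hlt
        obtain ⟨r, hr⟩ := h2
        have := Nat.le_of_dvd (by norm_num) h1
        omega
      have heq : S0.map (MulAut.conj c).toMonoidHom = S :=
        Subgroup.eq_of_le_of_card_ge (hle.trans inf_le_left) (by rw [h64, K.card_eq])
      have hall : ∀ i ∈ sylH, mH i j = mH j i := fun i hi => (K.comm_iff hi hj).1 <|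
        Subgroup.mem_centralizer_singleton_iff.1
          (Subgroup.mem_inf.1 (hle (heq.symm ▸ K.mem i hi))).2
      have hz : j = 0 ∨ j = 128 := by
        have h : (sylH.all fun j => j == 0 || j == 128 || sylH.any fun i => mH i j != mH j i) = true := by
          decide +kernel
        simp only [List.all_eq_true, Bool.or_eq_true, beq_iff_eq, List.any_eq_true, bne_iff_ne] at h
        rcases h j hj with (e | e) | ⟨i, hi, e⟩
        exacts [.inl e, .inr e, absurd (hall i hi) e]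
      have h9 : (9 : ℕ) ∈ sylH := heads_ok 9 (by simp)
      rcases hz with rfl | rfl
      · rw [K.one, eq_comm, conj_eq_one_iff] at ej
        exact absurd ((K.eq_one_iff h9).1 ej) (by norm_num)
      · have e : c * φ 9 * c⁻¹ = c * φ 128 * c⁻¹ := by
          rw [← ej, K.mem_cT.1 hc]; group
        exact absurd ((K.eq_iff h9 z_central.1).1 (mul_left_cancel (mul_right_cancel e))) (by norm_num)
    have hmem : g ^ m ∈ K.sub kSub := by
      have h1 := hSK (hdz _ (Subgroup.mem_zpowers _))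
      have h2 := conj_of_mem_normalizer (inv_mem (Subgroup.mem_inf.1 hd).2) h1
      rwa [show d⁻¹ * (d * g ^ m * d⁻¹) * d⁻¹⁻¹ = g ^ m by group] at h2
    exact K.sub_norm hk he hkE hmem
  -- the fourth power
  have hcomm : ∀ {x y : ℕ}, x ∈ sylH → y ∈ sylH → φ (mH (mH x y) (mH (invI x) (invI y))) =
      φ x * φ y * (φ x)⁻¹ * (φ y)⁻¹ := by
    intro x y hx hy
    have a := (invI_spec hx).1
    have b := (invI_spec hy).1
    rw [K.mul _ (syl_closed x hx y hy) _ (syl_closed _ a _ b), K.mul x hx y hy, K.mul _ a _ b,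
      K.inv_eq hx, K.inv_eq hy]
    group
  have hfix : ∀ c ∈ [0, 9, 121, 128], g * φ c * g⁻¹ = φ c := by
    intro c hc
    simp only [List.mem_cons, List.not_mem_nil, or_false] at hc
    have ht : g * φ 128 * g⁻¹ = φ 128 := by rw [K.mem_cT.1 hgt]; group
    rcases hc with rfl | rfl | rfl | rfl
    · rw [K.one]; group
    · exact hg9
    · have e : φ 121 = φ 9 * φ 128 := by
        rw [← K.mul 9 (heads_ok 9 (by simp)) 128 z_central.1, show mH 9 128 = 121 by decide +kernel]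
      rw [e, show g * (φ 9 * φ 128) * g⁻¹ = g * φ 9 * g⁻¹ * (g * φ 128 * g⁻¹) by group, hg9, ht]
    · exact ht
  have hpair : ∀ x ∈ kSub, ∀ y ∈ kSub, mH x x = 0 → mH y y = 0 → x ∉ [0, 9, 121, 128] →
      y ∉ [0, 9, 121, 128] →
      (mH (mH x y) (mH (invI x) (invI y)) ∈ [0, 9, 121, 128]) ∧
      (mH (mH y x) (mH (invI y) (invI x)) = mH (mH x 5) (mH (invI x) (invI 5)) → y ∈ e5 ∨ y ∈ e5') ∧
      (mH (mH x y) (mH (invI x) (invI y)) = 128 → (x ∈ e5' → y ∈ e5) ∧ (x ∈ e5 → y ∈ e5')) := by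
    have h : (kSub.all fun x => mH x x != 0 || [0, 9, 121, 128].contains x || kSub.all fun y =>
        mH y y != 0 || [0, 9, 121, 128].contains y ||
        ([0, 9, 121, 128].contains (mH (mH x y) (mH (invI x) (invI y))) &&
          (mH (mH y x) (mH (invI y) (invI x)) != mH (mH x 5) (mH (invI x) (invI 5)) ||
            e5.contains y || e5'.contains y) &&
          (mH (mH x y) (mH (invI x) (invI y)) != 128 ||
            ((!e5'.contains x || e5.contains y) && (!e5.contains x || e5'.contains y))))) = true := by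
      decide +kernel
    simp only [List.all_eq_true, Bool.or_eq_true, Bool.and_eq_true, bne_iff_ne, List.contains_iff_mem,
      Bool.not_eq_true', ← Bool.not_eq_true] at h
    intro x hx y hy hx2 hy2 hxV hyV
    rcases h x hx with (e | e) | e
    · exact absurd hx2 e
    · exact absurd e hxV
    rcases e y hy with (e | e) | e
    · exact absurd hy2 e
    · exact absurd e hyV
    refine ⟨e.1.1, fun hc => ?_, fun hc => ?_⟩
    · rcases e.1.2 with (h' | h') | h'
      exacts [absurd hc h', .inl h', .inr h']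
    · rcases e.2 with h' | h'
      · exact absurd hc h'
      · exact ⟨fun hx' => h'.1.resolve_left fun n => n hx', fun hx' => h'.2.resolve_left fun n => n hx'⟩
  have step : ∀ x ∈ kSub, mH x x = 0 → x ∉ [0, 9, 121, 128] →
      ∃ y ∈ kSub, φ y = g * φ x * g⁻¹ ∧ mH y y = 0 ∧ y ∉ [0, 9, 121, 128] := by
    intro x hx hx2 hxV
    obtain ⟨y, hy, ey⟩ := (K.mem_sub hk).1 (hgK _ ((K.mem_sub hk).2 ⟨x, hx, rfl⟩))
    refine ⟨y, hy, ey, (K.eq_one_iff (syl_closed y (hks y hy) y (hks y hy))).1 ?_, fun hV => hxV ?_⟩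
    · rw [K.mul y (hks y hy) y (hks y hy), ey, conj_sq, ← K.mul x (hks x hx) x (hks x hx), hx2, K.one]
      group
    · have e : g * φ x * g⁻¹ = g * φ y * g⁻¹ := by rw [hfix y hV, ey]
      rwa [(K.eq_iff (hks x hx) (hks y hy)).1 (mul_left_cancel (mul_right_cancel e))]
  have f5 : (5 : ℕ) ∈ kSub ∧ 100 ∈ kSub ∧ mH 5 5 = 0 ∧ mH 100 100 = 0 ∧ 5 ∉ [0, 9, 121, 128] ∧
      100 ∉ [0, 9, 121, 128] ∧ mH (mH 5 100) (mH (invI 5) (invI 100)) = 128 :=
    ⟨mem_dec (by decide +kernel), mem_dec (by decide +kernel), by decide +kernel, by decide +kernel,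
      by simp, by simp, by decide +kernel⟩
  obtain ⟨a1, a2, a3, a4, a5, a6, a7⟩ := f5
  obtain ⟨x1, hx1, ex1, hx12, hx1V⟩ := step 5 a1 a3 a5
  obtain ⟨x2, hx2, ex2, hx22, hx2V⟩ := step x1 hx1 hx12 hx1V
  have h2 : x2 ∈ e5 ∨ x2 ∈ e5' := by
    have s1 := hks x1 hx1
    have s2 := hks x2 hx2
    have s5 := hks 5 a1
    refine (hpair x1 hx1 x2 hx2 hx12 hx22 hx1V hx2V).2.1 (K.inj _ (syl_closed _
      (syl_closed _ s2 _ s1) _ (syl_closed _ (invI_spec s2).1 _ (invI_spec s1).1)) _ (syl_closed _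
      (syl_closed _ s1 _ s5) _ (syl_closed _ (invI_spec s1).1 _ (invI_spec s5).1)) ?_)
    rw [← hfix _ (hpair x1 hx1 5 a1 hx12 a3 hx1V a5).1, hcomm s2 s1, hcomm s1 s5]
    have key : ∀ a b A B : G, A = g * a * g⁻¹ → B = g * b * g⁻¹ →
        A * B * A⁻¹ * B⁻¹ = g * (a * b * a⁻¹ * b⁻¹) * g⁻¹ := by
      rintro a b _ _ rfl rfl; group
    exact key _ _ _ _ ex2 ex1
  set h := g ^ 2 with hh
  have hh5 : h * φ 5 * h⁻¹ = φ x2 := by rw [ex2, ex1, hh, pow_two]; group
  have hhfix : ∀ c ∈ [0, 9, 121, 128], h * φ c * h⁻¹ = φ c := by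
    intro c hc
    calc h * φ c * h⁻¹ = g * (g * φ c * g⁻¹) * g⁻¹ := by rw [hh, pow_two]; group
      _ = φ c := by rw [hfix c hc, hfix c hc]
  have hgen : ∀ {b : ℕ}, b ∈ [5, 100] → ∀ y ∈ (if b = 5 then e5 else e5'),
      ∃ c ∈ [0, 9, 121, 128], y = c ∨ y = mH b c := by
    intro b hb y hy
    have hall : (([5, 100].all fun b => (if b = 5 then e5 else e5').all fun y =>
      [0, 9, 121, 128].any fun c => y == c || y == mH b c)) = true := by decide +kernel
    simp only [List.all_eq_true, List.any_eq_true, Bool.or_eq_true, beq_iff_eq] at hall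
    exact hall b hb y hy
  have hcl : ∀ l ∈ [e5, e5'], ∀ x ∈ l, ∀ c ∈ [0, 9, 121, 128], mH x c ∈ l ∧ c ∈ l := by
    decide +kernel
  have img : ∀ {k : G} {l : List ℕ}, (∀ c ∈ [0, 9, 121, 128], k * φ c * k⁻¹ = φ c) → l ∈ [e5, e5'] →
      (∀ i ∈ l, i ∈ sylH) → ∀ {b y : ℕ}, b ∈ [5, 100] → b ∈ sylH → y ∈ (if b = 5 then e5 else e5') →
      (∃ x ∈ l, k * φ b * k⁻¹ = φ x) → ∃ x ∈ l, k * φ y * k⁻¹ = φ x := by
    intro k l hk' hl hls b y hb hbs hy hx
    obtain ⟨x, hx, ex⟩ := hx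
    obtain ⟨c, hc, e⟩ := hgen hb y hy
    rcases e with rfl | rfl
    · exact ⟨_, (hcl l hl x hx _ hc).2, hk' _ hc⟩
    · have hcs : c ∈ sylH := hls c (hcl l hl x hx c hc).2
      refine ⟨_, (hcl l hl x hx c hc).1, ?_⟩
      rw [K.mul b hbs c hcs, K.mul x (hls x hx) c hcs, ← ex]
      conv_rhs => rw [← hk' c hc]
      group
  have hes : ∀ i ∈ e5, i ∈ sylH := fun i hi => hks i (heK i hi)
  have hes' : ∀ i ∈ e5', i ∈ sylH := by
    have h := he'
    simp only [lOK, Bool.and_eq_true, List.all_eq_true, List.contains_iff_mem] at h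
    exact fun i hi => (h.2 i hi).1.1
  have h4 : g ^ 4 ∈ Subgroup.normalizer (K.sub e5 : Set G) := by
    have hh4 : g ^ 4 = h * h := by rw [hh, ← pow_add]
    refine mem_normalizer_of_forall fun y hy => ?_
    obtain ⟨i, hi, rfl⟩ := (K.mem_sub he).1 hy
    rw [hh4]
    suffices h5 : ∃ x ∈ e5, h * h * φ 5 * (h * h)⁻¹ = φ x by
      obtain ⟨x, hx, e⟩ := img (k := h * h) (fun c hc => by
        rw [show h * h * φ c * (h * h)⁻¹ = h * (h * φ c * h⁻¹) * h⁻¹ by group, hhfix c hc, hhfix c hc])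
        (by simp) hes (by simp) (hks 5 a1) (show i ∈ if (5 : ℕ) = 5 then e5 else e5' by simpa using hi) h5
      exact (K.mem_sub he).2 ⟨x, hx, e.symm⟩
    rcases h2 with h2 | h2
    · obtain ⟨x, hx, e⟩ := img (k := h) hhfix (by simp) hes (b := 5) (y := x2) (by simp) (hks 5 a1)
        (by simpa using h2) ⟨x2, h2, hh5⟩
      refine ⟨x, hx, ?_⟩
      rw [show h * h * φ 5 * (h * h)⁻¹ = h * (h * φ 5 * h⁻¹) * h⁻¹ by group, hh5, e]
    · obtain ⟨y1, hy1, ey1, hy12, hy1V⟩ := step 100 a2 a4 a6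
      obtain ⟨y2, hy2, ey2, hy22, hy2V⟩ := step y1 hy1 hy12 hy1V
      have hh100 : h * φ 100 * h⁻¹ = φ y2 := by rw [ey2, ey1, hh, pow_two]; group
      have hy2E : y2 ∈ e5 := by
        have s1 := hks x2 hx2
        have s2 := hks y2 hy2
        refine ((hpair x2 hx2 y2 hy2 hx22 hy22 hx2V hy2V).2.2 (K.inj _ (syl_closed _
          (syl_closed _ s1 _ s2) _ (syl_closed _ (invI_spec s1).1 _ (invI_spec s2).1)) _ z_central.1
          ?_)).1 h2
        rw [hcomm s1 s2, ← hhfix 128 (by simp), ← a7, hcomm (hks 5 a1) (hks 100 a2), ← hh5, ← hh100]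
        group
      obtain ⟨x, hx, e⟩ := img (k := h) hhfix (by simp) hes (b := 100) (y := x2) (by simp) (hks 100 a2)
        (by simpa using h2) ⟨y2, hy2E, hh100⟩
      refine ⟨x, hx, ?_⟩
      rw [show h * h * φ 5 * (h * h)⁻¹ = h * (h * φ 5 * h⁻¹) * h⁻¹ by group, hh5, e]
  obtain ⟨q, hq⟩ := hm
  have hsq2 : g ^ m * (g ^ 4)⁻¹ ^ (q / 2) ∈ Subgroup.normalizer (K.sub e5 : Set G) :=
    mul_mem hgm (pow_mem (inv_mem h4) _)
  rcases Nat.even_or_odd' q with ⟨r, rfl | rfl⟩
  · have e : g ^ m * (g ^ 4)⁻¹ ^ (2 * r / 2) = g := by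
      rw [show 2 * r / 2 = r by omega, inv_pow, ← pow_mul, hq,
        show 2 * (2 * r) + 1 = 1 + 4 * r by omega, pow_add, mul_inv_cancel_right, pow_one]
    rwa [e] at hsq2
  · have e : g ^ m * (g ^ 4)⁻¹ ^ ((2 * r + 1) / 2) = g ^ 3 := by
      rw [show (2 * r + 1) / 2 = r by omega, inv_pow, ← pow_mul, hq,
        show 2 * (2 * r + 1) + 1 = 3 + 4 * r by omega, pow_add, mul_inv_cancel_right]
    rw [e] at hsq2
    have : g = g ^ 4 * (g ^ 3)⁻¹ := by
      rw [show g ^ 4 = g * g ^ 3 by rw [← pow_succ'], mul_inv_cancel_right]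
    rw [this]
    exact mul_mem h4 (inv_mem hsq2)

theorem card_kSub : Nat.card (K.sub kSub) = 32 := by
  rw [K.card_sub (maxes_ok kSub (by simp)).1 (maxes_ok kSub (by simp)).2.1,
    (maxes_ok kSub (by simp)).2.2]

theorem sylIn_E [Finite G] (hS : SylIn ⊤ S) :
    SylIn (K.cT ⊓ Subgroup.normalizer (K.sub e5 : Set G)) (K.sub kSub) := by
  obtain ⟨hk, hks, -, -, hkE⟩ := kSub_ok
  obtain ⟨he, -, -, heK, -, -⟩ := e5_ok
  have hD := K.sylIn_cT hS
  have h9 : (9 : ℕ) ∈ sylH := heads_ok 9 (by simp)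
  obtain ⟨S1, hS1, hKS1⟩ := sylIn_exists (K.cT ⊓ Subgroup.normalizer (K.sub e5 : Set G)) (K.sub kSub)
    (le_inf (fun x hx => K.mem_cT.2 (K.t_central (K.sub_le hk hx))) (K.sub_norm hk he hkE))
    (hS.two.to_le (K.sub_le hk))
  suffices S1 = K.sub kSub from this ▸ hS1
  by_contra hne
  obtain ⟨d, hd, hdS⟩ := hD.absorb S1 (hS1.le.trans inf_le_left) hS1.two
  have hlt : 32 < Nat.card S1 := by
    rw [← K.card_kSub]
    exact lt_of_not_ge fun h => hne (Subgroup.eq_of_le_of_card_ge hKS1 h).symm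
  have hmap : S1.map (MulAut.conj d).toMonoidHom = S := by
    refine Subgroup.eq_of_le_of_card_ge (by rintro _ ⟨y, hy, rfl⟩; exact hdS y hy) ?_
    rw [Subgroup.card_map_of_injective (MulEquiv.injective _), K.card_eq]
    have h1 := hD.card_dvd (hS1.le.trans inf_le_left) hS1.two
    rw [K.card_eq] at h1
    obtain ⟨r, hr⟩ := Subgroup.card_dvd_of_le hKS1
    rw [K.card_kSub] at hr
    have := Nat.le_of_dvd (by norm_num) h1
    omega
  obtain ⟨j, hj, ej⟩ := K.surj _ (hdS _ (hKS1 ((K.mem_sub hk).2 ⟨9, mem_dec (by decide +kernel), rfl⟩)))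
  have hjc : j ∈ [9, 121] := by
    classical
    have himg : ∀ i ∈ kSub, ∃ i' ∈ centL j, φ i' = d * φ i * d⁻¹ := by
      intro i hi
      have hiK := (K.mem_sub hk).2 ⟨i, hi, rfl⟩
      obtain ⟨i', hi', e⟩ := K.surj _ (hdS _ (hKS1 hiK))
      refine ⟨i', mem_centL.2 ⟨hi', (K.comm_iff hi' hj).1 ?_⟩, e⟩
      rw [e, ej]
      exact conj_comm (K.comm_nine hiK)
    choose! F hF hF' using himg
    have hsub : (kSub.map F).Subperm (centL j) := by
      refine List.Nodup.subperm ((maxes_ok kSub (by simp)).2.1.map_on fun x hx y hy e => ?_) ?_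
      · have e' : d * φ x * d⁻¹ = d * φ y * d⁻¹ := by rw [← hF' x hx, ← hF' y hy, e]
        exact K.inj x (hks x hx) y (hks y hy) (mul_left_cancel (mul_right_cancel e'))
      · intro k hk'
        obtain ⟨i, hi, rfl⟩ := List.mem_map.1 hk'
        exact hF i hi
    have hlen := hsub.length_le
    rw [List.length_map, (maxes_ok kSub (by simp)).2.2] at hlen
    have h : (sylH.all fun j => mH j j != 0 || Nat.blt (centL j).length 32 || [0, 128, 9, 121].contains j) = true := by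
      decide +kernel
    simp only [List.all_eq_true, Bool.or_eq_true, Nat.blt_eq, List.contains_iff_mem, bne_iff_ne] at h
    have hj2 : mH j j = 0 := (K.eq_one_iff (syl_closed j hj j hj)).1 (by
      rw [K.mul j hj j hj, ej, conj_sq, ← K.mul 9 h9 9 h9, sylH_sq_ok 9 (by simp), K.one]; group)
    have := (h j hj).resolve_left (fun o => o.elim (fun e => e hj2) (by omega))
    simp only [List.mem_cons, List.not_mem_nil, or_false] at this
    rcases this with rfl | rfl | rfl | rfl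
    · rw [K.one, eq_comm, conj_eq_one_iff] at ej
      exact absurd ((K.eq_one_iff h9).1 ej) (by norm_num)
    · have e : d * φ 9 * d⁻¹ = d * φ 128 * d⁻¹ := by rw [← ej, K.mem_cT.1 hd]; group
      exact absurd ((K.eq_iff h9 z_central.1).1 (mul_left_cancel (mul_right_cancel e))) (by norm_num)
    · simp
    · simp
  obtain ⟨-, hcl⟩ := classesL_ok.1 (9, [9, 121]) (by simp [classesL])
  obtain ⟨p, hp, ep⟩ := hcl j hjc
  set d' := (φ p)⁻¹ * d with hd'
  have hd't : d' ∈ K.cT := mul_mem (inv_mem (K.mem_cT.2 (K.t_central (K.mem p hp)))) hd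
  have hd'S : ∀ y ∈ S1, d' * y * d'⁻¹ ∈ S := fun y hy => by
    rw [hd', show (φ p)⁻¹ * d * y * ((φ p)⁻¹ * d)⁻¹ = (φ p)⁻¹ * (d * y * d⁻¹) * φ p by group]
    exact mul_mem (mul_mem (inv_mem (K.mem p hp)) (hdS y hy)) (K.mem p hp)
  have hd'9 : d' * φ 9 * d'⁻¹ = φ 9 := by
    rw [hd', show (φ p)⁻¹ * d * φ 9 * ((φ p)⁻¹ * d)⁻¹ = (φ p)⁻¹ * (d * φ 9 * d⁻¹) * φ p by group,
      ← ej, ← ep, K.conj_eq h9 hp]
    group
  have hfix := K.fix_E hS hd't hd'9 fun x hx => K.mem_kSub_of (hd'S x (hKS1 hx)) (by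
    conv_lhs => arg 2; rw [← hd'9]
    conv_rhs => arg 1; rw [← hd'9]
    exact conj_comm (K.comm_nine hx))
  have hp' : ∃ s ∈ sylH, mH (mH s 5) (invI s) ∉ e5 := by
    have h : (sylH.any fun s => !e5.contains (mH (mH s 5) (invI s))) = true := by decide +kernel
    simp only [List.any_eq_true, Bool.not_eq_true', ← Bool.not_eq_true, List.contains_iff_mem] at h
    exact h
  obtain ⟨s, hs, hs5⟩ := hp'
  obtain ⟨y, hy, ey⟩ : φ p * φ s * (φ p)⁻¹ ∈ S1.map (MulAut.conj d).toMonoidHom :=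
    hmap.symm ▸ mul_mem (mul_mem (K.mem p hp) (K.mem s hs)) (inv_mem (K.mem p hp))
  have ey' : φ s = d' * y * d'⁻¹ := by
    have : d * y * d⁻¹ = φ p * φ s * (φ p)⁻¹ := ey
    rw [hd', show (φ p)⁻¹ * d * y * ((φ p)⁻¹ * d)⁻¹ = (φ p)⁻¹ * (d * y * d⁻¹) * φ p by group, this]
    group
  have hsN : φ s ∈ Subgroup.normalizer (K.sub e5 : Set G) := by
    rw [ey']
    exact mul_mem (mul_mem hfix (Subgroup.mem_inf.1 (hS1.le hy)).2) (inv_mem hfix)
  have h5 := conj_of_mem_normalizer hsN ((K.mem_sub he).2 ⟨5, mem_dec (by decide +kernel), rfl⟩)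
  obtain ⟨i, hi, e⟩ := (K.mem_sub he).1 h5
  rw [← K.conj_eq (heads_ok 5 (by simp)) hs] at e
  have h' := K.inj i (hks i (heK i hi)) _ (syl_closed _ (syl_closed s hs 5 (heads_ok 5 (by simp))) _
    (invI_spec hs).1) e
  exact hs5 (h' ▸ hi)

theorem not_self [Finite G] (hS : SylIn ⊤ S) {g : G} (hg : g ∈ K.cT)
    (hN : g ∈ Subgroup.normalizer (K.sub e5 : Set G)) {i : ℕ} (hi : i ∈ [9, 121])
    (h5 : g * φ 5 * g⁻¹ = φ i) : False := by
  obtain ⟨hk, hks, -, -, hkE⟩ := kSub_ok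
  obtain ⟨he, -, -, heK, -, -⟩ := e5_ok
  have hE := K.sylIn_E hS
  have f : 100 ∈ kSub ∧ mH 100 100 = 0 ∧ mH (mH 100 5) (invI 100) = mH 5 128 ∧ lOK [0, 9, 121, 128] = true ∧
      mH 9 128 = 121 ∧ mH 121 128 = 9 ∧ normBy kSub [0, 9, 121, 128] = true :=
    ⟨mem_dec (by decide +kernel), by decide +kernel, by decide +kernel, by decide +kernel,
      by decide +kernel, by decide +kernel, by decide +kernel⟩
  obtain ⟨f1, f2, f3, f4, f5, f6, f7⟩ := f
  have h128 := z_central.1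
  have h5s := heads_ok 5 (by simp)
  have hs : ∀ c ∈ [9, 121], c ∈ sylH ∧ φ c * φ 128 = φ (130 - c) ∧ 130 - c ∈ [9, 121] ∧
      φ c ≠ φ (130 - c) := by
    intro c hc
    simp only [List.mem_cons, List.not_mem_nil, or_false] at hc
    rcases hc with rfl | rfl
    · exact ⟨heads_ok 9 (by simp), by rw [← K.mul _ (heads_ok 9 (by simp)) _ h128, f5], by simp,
        fun e => absurd ((K.eq_iff (heads_ok 9 (by simp)) (heads_ok 121 (by simp))).1 e) (by norm_num)⟩
    · exact ⟨heads_ok 121 (by simp), by rw [← K.mul _ (heads_ok 121 (by simp)) _ h128, f6], by simp,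
        fun e => absurd ((K.eq_iff (heads_ok 121 (by simp)) (heads_ok 9 (by simp))).1 e) (by norm_num)⟩
  obtain ⟨his, hit, hi', hne⟩ := hs i hi
  obtain ⟨j, hj⟩ : ∃ j, j = 130 - i := ⟨_, rfl⟩
  rw [← hj] at hit hi' hne
  set k0 := g * φ 100 * g⁻¹ with hk0
  have ht : g * φ 128 * g⁻¹ = φ 128 := by rw [K.mem_cT.1 hg]; group
  have h100 : φ 100 * φ 128 = φ 128 * φ 100 := K.t_central (K.mem _ (hks _ f1))
  have hkt : k0 * φ 128 * k0⁻¹ = φ 128 := by
    rw [mul_inv_eq_iff_eq_mul]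
    conv_lhs => arg 2; rw [← ht]
    conv_rhs => arg 1; rw [← ht]
    exact conj_comm h100
  have hki : k0 * φ i * k0⁻¹ = φ j := by
    rw [← hit, ← h5, hk0, show g * φ 100 * g⁻¹ * (g * φ 5 * g⁻¹) * (g * φ 100 * g⁻¹)⁻¹ =
      g * (φ 100 * φ 5 * (φ 100)⁻¹) * g⁻¹ by group, ← K.conj_eq h5s (hks _ f1), f3, K.mul _ h5s _ h128]
    conv_rhs => arg 2; rw [← ht]
    group
  have hjt : φ j * φ 128 = φ i := by
    rw [← hit, mul_assoc, ← K.mul _ h128 _ h128, z_central.2.1, K.one, mul_one]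
  have hkj : k0 * φ j * k0⁻¹ = φ i := by
    conv_lhs => rw [← hit, show k0 * (φ i * φ 128) * k0⁻¹ = k0 * φ i * k0⁻¹ * (k0 * φ 128 * k0⁻¹) by group,
      hki, hkt]
    exact hjt
  have hV : ∀ c ∈ [0, 9, 121, 128], c = 0 ∨ c = 128 ∨ c = i ∨ c = j := by
    intro c hc
    simp only [List.mem_cons, List.not_mem_nil, or_false] at hi hc
    rcases hi with rfl | rfl <;> subst hj <;> rcases hc with rfl | rfl | rfl | rfl <;> omega
  have hin : ∀ c ∈ [9, 121], c ∈ [0, 9, 121, 128] := by decide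
  set H1 := K.cT ⊓ Subgroup.normalizer (K.sub e5 : Set G) ⊓
    Subgroup.normalizer (K.sub [0, 9, 121, 128] : Set G) with hH1
  have hk0H : k0 ∈ H1 := by
    refine Subgroup.mem_inf.2 ⟨Subgroup.mem_inf.2 ⟨mul_mem (mul_mem hg (K.mem_cT.2 h100)) (inv_mem hg),
      mul_mem (mul_mem hN (K.sub_norm hk he hkE ((K.mem_sub hk).2 ⟨100, f1, rfl⟩))) (inv_mem hN)⟩,
      mem_normalizer_of_forall fun y hy => ?_⟩
    obtain ⟨c, hc, rfl⟩ := (K.mem_sub f4).1 hy
    refine (K.mem_sub f4).2 ?_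
    rcases hV c hc with e | e | e | e <;> subst e
    · exact ⟨0, hc, by rw [K.one]; group⟩
    · exact ⟨128, hc, hkt.symm⟩
    · exact ⟨j, hin j hi', hki.symm⟩
    · exact ⟨i, hin i hi, hkj.symm⟩
  obtain ⟨S', hS', hKS'⟩ := sylIn_exists H1 (K.sub kSub)
    (le_inf hE.le (K.sub_norm hk f4 f7)) hE.two
  have hS'K : S' = K.sub kSub :=
    (Subgroup.eq_of_le_of_card_ge hKS' (hE.card_le (hS'.le.trans inf_le_left) hS'.two)).symm
  subst hS'K
  obtain ⟨d, hd, hdK⟩ := hS'.absorb (Subgroup.zpowers k0) (Subgroup.zpowers_le.2 hk0H)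
    ((IsPGroup.of_card (n := 1) (show Nat.card (Subgroup.zpowers k0) = 2 ^ 1 by
      rw [Nat.card_zpowers, hk0, ← MulAut.conj_apply, MulEquiv.orderOf_eq,
        K.orderOf_two (hks _ f1) f2 (by norm_num)]; rfl)))
  have hc9 := K.comm_nine (hdK k0 (Subgroup.mem_zpowers _))
  have hk : k0 * (d⁻¹ * φ 9 * d) = d⁻¹ * φ 9 * d * k0 := by
    have := conj_comm (g := d⁻¹) hc9
    rwa [show d⁻¹ * (d * k0 * d⁻¹) * d⁻¹⁻¹ = k0 by group,
      show d⁻¹ * φ 9 * d⁻¹⁻¹ = d⁻¹ * φ 9 * d by group] at this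
  have hd9 := conj_of_mem_normalizer (inv_mem (Subgroup.mem_inf.1 hd).2)
    ((K.mem_sub f4).2 ⟨9, by simp, rfl⟩)
  rw [inv_inv] at hd9
  obtain ⟨c, hc, ec⟩ := (K.mem_sub f4).1 hd9
  have hkc : k0 * φ c * k0⁻¹ = φ c := by rw [mul_inv_eq_iff_eq_mul, ec, hk]
  have hdt : d * φ 128 = φ 128 * d := K.mem_cT.1 (Subgroup.mem_inf.1 (Subgroup.mem_inf.1 hd).1).1
  rcases hV c hc with e | e | e | e <;> subst e
  · rw [K.one] at ec
    have : φ 9 = 1 := by
      calc φ 9 = d * (d⁻¹ * φ 9 * d) * d⁻¹ := by group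
        _ = 1 := by rw [← ec]; group
    exact absurd ((K.eq_one_iff (heads_ok 9 (by simp))).1 this) (by norm_num)
  · have : φ 9 = φ 128 := by
      calc φ 9 = d * (d⁻¹ * φ 9 * d) * d⁻¹ := by group
        _ = φ 128 := by rw [← ec, hdt]; group
    exact absurd ((K.eq_iff (heads_ok 9 (by simp)) h128).1 this) (by norm_num)
  · exact hne (hkc.symm.trans hki)
  · exact hne (hkj.symm.trans hkc)

/-- In the centraliser of `φ 128`, no conjugate of `φ 5` is an involution of `qSub`. -/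
theorem five_not_Q [Finite G] (hS : SylIn ⊤ S) {q : ℕ} (hq : q ∈ qSub) (hq2 : mH q q = 0)
    {d : G} (hd : d ∈ K.cT) (h5 : d * φ 5 * d⁻¹ = φ q) : False := by
  obtain ⟨he, hend, he', heK, hE1, hE2⟩ := e5_ok
  obtain ⟨hk, hks, hk9, -, hkE⟩ := kSub_ok
  have hqok := maxes_ok qSub (by simp)
  have hqs : q ∈ sylH := by
    have h := hqok.1
    simp only [lOK, Bool.and_eq_true, List.all_eq_true, List.contains_iff_mem] at h
    exact (h.2 q hq).1.1
  have h5s := heads_ok 5 (by simp)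
  have h128 := z_central.1
  have hq0 : q ≠ 0 := by
    rintro rfl
    rw [K.one, conj_eq_one_iff] at h5
    exact absurd ((K.eq_one_iff h5s).1 h5) (by norm_num)
  have hD := K.sylIn_cT hS
  obtain ⟨w, hwS, c, hc, hcw, hext⟩ := hD.extremal (x := φ q) (K.mem_cT.2 (K.t_central (K.mem q hqs)))
    (IsPGroup.of_card (n := 1) (by rw [Nat.card_zpowers, K.orderOf_two hqs hq2 hq0]; rfl))
  obtain ⟨i, hi, ei, hi2, hi0⟩ := K.idx_invol (orderOf_of_isConj (K.orderOf_two hqs hq2 hq0)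
    (isConj_iff.2 ⟨c, hcw⟩)) hwS
  subst ei
  have hcent : ∀ u ∈ sylH, (∃ e ∈ K.cT, e * φ u * e⁻¹ = φ i) → ∃ g ∈ K.cT, g * φ u * g⁻¹ = φ i ∧
      ∀ j ∈ centL u, ∃ k ∈ centL i, φ k = g * φ j * g⁻¹ := by
    intro u hu he
    obtain ⟨g, hg, hgu, hgY⟩ := hext (φ u) (K.mem_cT.2 (K.t_central (K.mem u hu))) he (K.centS u)
      (fun y hy => K.mem_cT.2 (K.t_central (Subgroup.mem_inf.1 hy).1)) (hS.two.to_le inf_le_left)
      (fun y hy => Subgroup.mem_centralizer_singleton_iff.1 (Subgroup.mem_inf.1 hy).2)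
    refine ⟨g, hg, hgu, fun j hj => ?_⟩
    obtain ⟨k, hk', ek⟩ := K.surj _ (hgY _ ((K.mem_centS hu).2 ⟨j, hj, rfl⟩))
    obtain ⟨hjs, hju⟩ := mem_centL.1 hj
    refine ⟨k, mem_centL.2 ⟨hk', (K.comm_iff hk' hi).1 ?_⟩, ek⟩
    rw [ek, ← hgu]
    exact conj_comm ((K.comm_iff hjs hu).2 hju)
  obtain ⟨gq, -, -, himg⟩ := hcent q hqs ⟨c, hc, hcw⟩
  classical
  choose! F hF hF' using himg
  have hsub : ((centL q).map F).Subperm (centL i) := by
    refine List.Nodup.subperm ((List.Nodup.filter _ (show sylH.Nodup by decide +kernel)).map_on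
      fun x hx y hy e => ?_) ?_
    · have e' : gq * φ x * gq⁻¹ = gq * φ y * gq⁻¹ := by rw [← hF' x hx, ← hF' y hy, e]
      exact K.inj x (mem_centL.1 hx).1 y (mem_centL.1 hy).1 (mul_left_cancel (mul_right_cancel e'))
    · intro k hk'
      obtain ⟨j, hj, rfl⟩ := List.mem_map.1 hk'
      exact hF j hj
  have hlen := hsub.length_le
  rw [List.length_map] at hlen
  have hQfacts : (∀ q ∈ qSub, mH q q = 0 → q ≠ 0 → 16 ≤ (centL q).length) ∧
      ∀ i ∈ sylH, mH i i = 0 → 16 ≤ (centL i).length → i ∈ qSub := by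
    have h : ((qSub.all fun q => mH q q != 0 || q == 0 || Nat.ble 16 (centL q).length) &&
        sylH.all fun i => mH i i != 0 || !Nat.ble 16 (centL i).length || qSub.contains i) = true := by
      decide +kernel
    simp only [Bool.and_eq_true, List.all_eq_true, Bool.or_eq_true, bne_iff_ne, beq_iff_eq,
      List.contains_iff_mem, Bool.not_eq_true', ← Bool.not_eq_true, Nat.ble_eq] at h
    exact ⟨fun q hq h2 h0 => ((h.1 q hq).resolve_left (fun o => o.elim (fun e => e h2) h0)),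
      fun i hi h2 hl => ((h.2 i hi).resolve_left (fun o => o.elim (fun e => e h2) fun e => e hl))⟩
  have hiQ : i ∈ qSub := hQfacts.2 i hi hi2 ((hQfacts.1 q hq hq2 hq0).trans hlen)
  -- the image of the centraliser of `φ 5`
  obtain ⟨g, hg, hg5, hgE⟩ := hcent 5 h5s ⟨c * d, mul_mem hc hd, by
    rw [show c * d * φ 5 * (c * d)⁻¹ = c * (d * φ 5 * d⁻¹) * c⁻¹ by group, h5, hcw]⟩
  have hgt : g * φ 128 * g⁻¹ = φ 128 := by rw [K.mem_cT.1 hg]; group
  have h9s := heads_ok 9 (by simp)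
  obtain ⟨j, hj, ej⟩ := hgE 9 (hE2 9 (by simp [e5]))
  have hjs := (mem_centL.1 hj).1
  have i128 : i ≠ 128 := by
    rintro rfl
    exact absurd ((K.eq_iff h5s h128).1 (mul_left_cancel (mul_right_cancel (hg5.trans hgt.symm))))
      (by norm_num)
  have hj2 : mH j j = 0 := by
    refine (K.eq_one_iff (syl_closed j hjs j hjs)).1 ?_
    rw [K.mul j hjs j hjs, ej, conj_sq, ← K.mul 9 h9s 9 h9s, sylH_sq_ok 9 (by simp), K.one]
    group
  have e5128 : φ (mH i 128) = g * φ (mH 5 128) * g⁻¹ := by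
    rw [K.mul i hi 128 h128, K.mul 5 h5s 128 h128, ← hg5]
    conv_lhs => arg 2; rw [← hgt]
    group
  have hjn : j ∉ [0, 128, i, mH i 128] := by
    have h : (mH 5 128 ∈ sylH) ∧ mH 5 128 ≠ 9 := ⟨syl_closed 5 h5s 128 h128, by decide +kernel⟩
    intro hmem
    simp only [List.mem_cons, List.not_mem_nil, or_false] at hmem
    rcases hmem with e | e | e | e <;> subst e
    · rw [K.one, eq_comm, conj_eq_one_iff] at ej
      exact absurd ((K.eq_one_iff h9s).1 ej) (by norm_num)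
    · exact absurd ((K.eq_iff h9s h128).1 (mul_left_cancel (mul_right_cancel (ej.symm.trans hgt.symm))))
        (by norm_num)
    · exact absurd ((K.eq_iff h9s h5s).1 (mul_left_cancel (mul_right_cancel (ej.symm.trans hg5.symm))))
        (by norm_num)
    · exact h.2 ((K.eq_iff h.1 h9s).1 (mul_left_cancel (mul_right_cancel (e5128.symm.trans ej))))
  have hF8 : ∀ y ∈ e5, ∃ f ∈ genF i j, φ f = g * φ y * g⁻¹ := by
    have hall : ∀ y ∈ e5, y ∈ genF 5 9 := by
      have h : (e5.all fun y => (genF 5 9).contains y) = true := by decide +kernel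
      simp only [List.all_eq_true, List.contains_iff_mem] at h
      exact h
    intro y hy
    have hy' := hall y hy
    simp only [genF, List.mem_cons, List.not_mem_nil, or_false] at hy' ⊢
    rcases hy' with rfl | rfl | rfl | rfl | rfl | rfl | rfl | rfl
    · exact ⟨0, by simp, by rw [K.one]; group⟩
    · exact ⟨128, by simp, hgt.symm⟩
    · exact ⟨i, by simp, hg5.symm⟩
    · exact ⟨mH i 128, by simp, e5128⟩
    · exact ⟨j, by simp, ej⟩
    · refine ⟨mH j 128, by simp, ?_⟩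
      rw [K.mul j hjs 128 h128, K.mul 9 h9s 128 h128, ej]
      conv_lhs => arg 2; rw [← hgt]
      group
    · refine ⟨mH j i, by simp, ?_⟩
      rw [K.mul j hjs i hi, K.mul 9 h9s 5 h5s, ej, ← hg5]
      group
    · refine ⟨mH (mH j i) 128, by simp, ?_⟩
      rw [K.mul _ (syl_closed j hjs i hi) 128 h128, K.mul _ (syl_closed 9 h9s 5 h5s) 128 h128,
        K.mul j hjs i hi, K.mul 9 h9s 5 h5s, ej, ← hg5]
      conv_lhs => arg 2; rw [← hgt]
      group
  have hclass : ∀ i ∈ qSub, mH i i = 0 → i ≠ 0 → i ≠ 128 → ∀ j ∈ centL i, mH j j = 0 →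
      j ∉ [0, 128, i, mH i 128] →
      lOK (genF i j) = true ∧ (genF i j).Nodup ∧ (normBy sylH (genF i j) = true ∨
        normBy qSub (genF i j) = true ∨
        (i ∈ [9, 121] ∧ ((∀ f ∈ genF i j, f ∈ e5) ∨ ∀ f ∈ genF i j, f ∈ e5'))) := by
    have h : (qSub.all fun i => mH i i != 0 || i == 0 || i == 128 || (centL i).all fun j =>
        mH j j != 0 || [0, 128, i, mH i 128].contains j || (lOK (genF i j) && decide (genF i j).Nodup &&
          (normBy sylH (genF i j) || normBy qSub (genF i j) || ([9, 121].contains i &&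
            (((genF i j).all fun f => e5.contains f) || (genF i j).all fun f => e5'.contains f))))) =
        true := by decide +kernel
    simp only [List.all_eq_true, Bool.and_eq_true, Bool.or_eq_true, bne_iff_ne, beq_iff_eq,
      List.contains_iff_mem, decide_eq_true_eq] at h
    intro i hi h2 h0 h1 j hj hj2 hjn
    rcases h i hi with ((e | e) | e) | e
    · exact absurd h2 e
    · exact absurd e h0
    · exact absurd e h1
    rcases e j hj with (e | e) | e
    · exact absurd hj2 e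
    · exact absurd e hjn
    exact ⟨e.1.1, e.1.2, or_assoc.1 e.2⟩
  obtain ⟨hFok, hFnd, hcase⟩ := hclass i hiQ hi2 hi0 i128 j hj hj2 hjn
  have hmap : (K.sub e5).map (MulAut.conj g).toMonoidHom = K.sub (genF i j) := by
    refine Subgroup.eq_of_le_of_card_ge ?_ ?_
    · rintro _ ⟨y, hy, rfl⟩
      obtain ⟨y', hy', rfl⟩ := (K.mem_sub he).1 hy
      obtain ⟨f, hf, ef⟩ := hF8 y' hy'
      exact (K.mem_sub hFok).2 ⟨f, hf, ef⟩
    · rw [Subgroup.card_map_of_injective (MulEquiv.injective _), K.card_sub he hend,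
        K.card_sub hFok hFnd]
      rfl
  have hback : ∀ {x : G}, x ∈ Subgroup.normalizer (K.sub (genF i j) : Set G) →
      g⁻¹ * x * g ∈ Subgroup.normalizer (K.sub e5 : Set G) := by
    intro x hx
    refine mem_normalizer_of_forall fun y hy => ?_
    obtain ⟨y', hy', e⟩ := hmap ▸ conj_of_mem_normalizer hx (hmap ▸ ⟨y, hy, rfl⟩ :
      g * y * g⁻¹ ∈ K.sub (genF i j))
    have : g * y' * g⁻¹ = x * (g * y * g⁻¹) * x⁻¹ := e
    have e' : g⁻¹ * x * g * y * (g⁻¹ * x * g)⁻¹ = y' := by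
      calc g⁻¹ * x * g * y * (g⁻¹ * x * g)⁻¹ = g⁻¹ * (x * (g * y * g⁻¹) * x⁻¹) * g := by group
        _ = y' := by rw [← this]; group
    rwa [e']
  have hNE := K.sylIn_E hS
  have hbig : ∀ {l : List ℕ}, lOK l = true → normBy l (genF i j) = true →
      ∃ Y : Subgroup G, Y = (K.sub l).map (MulAut.conj g⁻¹).toMonoidHom ∧
        Y ≤ K.cT ⊓ Subgroup.normalizer (K.sub e5 : Set G) ∧ IsPGroup 2 Y := by
    intro l hl hn
    refine ⟨_, rfl, ?_, (hS.two.to_le (K.sub_le hl)).map _⟩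
    rintro _ ⟨y, hy, rfl⟩
    refine Subgroup.mem_inf.2 ⟨mul_mem (mul_mem (inv_mem hg) (K.mem_cT.2 (K.t_central (K.sub_le hl hy))))
      (inv_mem (inv_mem hg)), ?_⟩
    show g⁻¹ * y * g⁻¹⁻¹ ∈ _
    rw [inv_inv]
    exact hback (K.sub_norm hl hFok hn hy)
  rcases hcase with hn | hn | ⟨hi', hsub'⟩
  · have hl : lOK sylH = true := by decide +kernel
    obtain ⟨Y, hY, hYle, hY2⟩ := hbig hl hn
    have h1 := hNE.card_le hYle hY2
    rw [hY, Subgroup.card_map_of_injective (MulEquiv.injective _), K.card_sub hl (by decide +kernel),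
      K.card_kSub, show sylH.length = 64 by decide +kernel] at h1
    omega
  · obtain ⟨Y, hY, hYle, hY2⟩ := hbig hqok.1 hn
    obtain ⟨e, hed, heY⟩ := hNE.absorb Y hYle hY2
    set h := e * g⁻¹ with hh
    have hht : h ∈ K.cT := mul_mem (Subgroup.mem_inf.1 hed).1 (inv_mem hg)
    have hhQ : ∀ y ∈ K.sub qSub, h * y * h⁻¹ ∈ K.sub kSub := fun y hy => by
      have := heY _ (hY ▸ ⟨y, hy, rfl⟩ : g⁻¹ * y * g⁻¹⁻¹ ∈ Y)
      rwa [hh, show e * g⁻¹ * y * (e * g⁻¹)⁻¹ = e * (g⁻¹ * y * g⁻¹⁻¹) * e⁻¹ by group]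
    have hsurj : ∀ z ∈ K.sub kSub, ∃ y ∈ K.sub qSub, h * y * h⁻¹ = z := by
      intro z hz
      have heq : (K.sub qSub).map (MulAut.conj h).toMonoidHom = K.sub kSub := by
        refine Subgroup.eq_of_le_of_card_ge (by rintro _ ⟨y, hy, rfl⟩; exact hhQ y hy) ?_
        rw [Subgroup.card_map_of_injective (MulEquiv.injective _), K.card_kSub,
          K.card_sub hqok.1 hqok.2.1, hqok.2.2]
      rw [← heq] at hz
      obtain ⟨y, hy, e⟩ := hz
      exact ⟨y, hy, e⟩
    obtain ⟨y, hy, ey⟩ := hsurj (φ 9) ((K.mem_sub hk).2 ⟨9, mem_dec (by decide +kernel), rfl⟩)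
    obtain ⟨r, hr, rfl⟩ := (K.mem_sub hqok.1).1 hy
    have hrs : ∀ r ∈ qSub, r ∈ sylH := by
      have h := hqok.1
      simp only [lOK, Bool.and_eq_true, List.all_eq_true, List.contains_iff_mem] at h
      exact fun r hr => (h.2 r hr).1.1
    have hctr : ∀ r' ∈ qSub, mH r r' = mH r' r := fun r' hr' => (K.comm_iff (hrs r hr) (hrs r' hr')).1 <| by
      have h9c := K.comm_nine (hhQ _ ((K.mem_sub hqok.1).2 ⟨r', hr', rfl⟩))
      rw [← ey] at h9c
      have := conj_comm (g := h⁻¹) h9c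
      simp only [show ∀ z, h⁻¹ * (h * z * h⁻¹) * h⁻¹⁻¹ = z from fun z => by group] at this
      exact this.symm
    have hz : r = 0 ∨ r = 128 := by
      have h' : (qSub.all fun r => r == 0 || r == 128 || qSub.any fun i => mH r i != mH i r) = true := by
        decide +kernel
      simp only [List.all_eq_true, Bool.or_eq_true, beq_iff_eq, List.any_eq_true, bne_iff_ne] at h'
      rcases h' r hr with (e | e) | ⟨k, hk', e⟩
      exacts [.inl e, .inr e, absurd (hctr k hk') e]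
    rcases hz with rfl | rfl
    · rw [K.one, mul_one, mul_inv_cancel] at ey
      exact absurd ((K.eq_one_iff h9s).1 ey.symm) (by norm_num)
    · rw [K.mem_cT.1 hht, mul_inv_cancel_right] at ey
      exact absurd ((K.eq_iff h128 h9s).1 ey) (by norm_num)
  · rcases hsub' with hl | hl
    · refine K.not_self hS hg (mem_normalizer_of_forall fun y hy => ?_) hi' hg5
      obtain ⟨y', hy', rfl⟩ := (K.mem_sub he).1 hy
      obtain ⟨f, hf, ef⟩ := hF8 y' hy'
      exact (K.mem_sub he).2 ⟨f, hl f hf, ef⟩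
    · obtain ⟨p, hp, hpE, hp9⟩ : ∃ p ∈ sylH, (∀ f ∈ e5', mH (mH p f) (invI p) ∈ e5) ∧
          ∀ c ∈ [9, 121], mH (mH p c) (invI p) ∈ [9, 121] := by
        have h' : (sylH.any fun p => (e5'.all fun f => e5.contains (mH (mH p f) (invI p))) &&
            [9, 121].all fun c => [9, 121].contains (mH (mH p c) (invI p))) = true := by decide +kernel
        simp only [List.any_eq_true, Bool.and_eq_true, List.all_eq_true, List.contains_iff_mem] at h'
        exact h'
      refine K.not_self hS (g := φ p * g) (mul_mem (K.mem_cT.2 (K.t_central (K.mem p hp))) hg)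
        (mem_normalizer_of_forall fun y hy => ?_) (hp9 i hi') ?_
      · obtain ⟨y', hy', rfl⟩ := (K.mem_sub he).1 hy
        obtain ⟨f, hf, ef⟩ := hF8 y' hy'
        have hfs : f ∈ sylH := by
          have h' := hFok
          simp only [lOK, Bool.and_eq_true, List.all_eq_true, List.contains_iff_mem] at h'
          exact (h'.2 f hf).1.1
        refine (K.mem_sub he).2 ⟨_, hpE f (hl f hf), ?_⟩
        rw [K.conj_eq hfs hp, ef]
        group
      · rw [K.conj_eq hi hp, ← hg5]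
        group

end PHyp

end CfsgLib.M12Syl
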