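import Cfsg.Agent.Lib.M12Syl.AutoQ
import Cfsg.Agent.Lib.M12Syl.AbelFour
import Cfsg.Agent.Lib.Transfer.Focal

/-!
A subgroup of index two in the centraliser of the central involution, and its structure.
-/

set_option autoImplicit false
set_option linter.style.haveILetI false
set_option linter.unusedSectionVars false
set_option maxHeartbeats 1000000

namespace CfsgLib.M12Syl

open CfsgLib.M12Recog

theorem qSub_facts : (∀ x ∈ qSub, mH x x ∈ [0, 128]) ∧ (∀ x ∈ qSub, ∀ y ∈ qSub, commI x y ∈ [0, 128]) ∧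
    (∀ i ∈ sylH, mH i i = 0 → i ≠ 0 → i ∈ qSub ∨ i ∈ c5) ∧
    (∀ i ∈ sylH, i ∈ qSub ∨ mH i 5 ∈ qSub) ∧ normBy sylH qSub = true ∧
    ∀ g ∈ gensQ, mH g g = 0 := by
  have h : ((qSub.all fun x => [0, 128].contains (mH x x) && qSub.all fun y => [0, 128].contains (commI x y)) &&
      (sylH.all fun i => (mH i i != 0 || i == 0 || qSub.contains i || c5.contains i) &&
        (qSub.contains i || qSub.contains (mH i 5))) && gensQ.all fun g => mH g g == 0) = true := by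
    decide +kernel
  simp only [Bool.and_eq_true, List.all_eq_true, Bool.or_eq_true, bne_iff_ne, beq_iff_eq,
    List.contains_iff_mem] at h
  refine ⟨fun x hx => (h.1.1 x hx).1, fun x hx => (h.1.1 x hx).2, fun i hi h2 h0 => ?_,
    fun i hi => (h.1.2 i hi).2, by decide +kernel, h.2⟩
  rcases (h.1.2 i hi).1 with ((e | e) | e) | e
  exacts [absurd h2 e, absurd e h0, .inl e, .inr e]

theorem five_notin : (5 : ℕ) ∉ qSub := by
  have h : qSub.contains 5 = false := by decide +kernel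
  intro hm
  rw [List.contains_iff_mem.2 hm] at h
  exact Bool.noConfusion h

namespace PHyp

variable {G : Type*} [Group G] {φ : ℕ → G} {S : Subgroup G} (K : PHyp φ S)
include K

/-- the properties of the subgroup of index two -/
structure IsL (L : Subgroup G) : Prop where
  le : L ≤ K.cT
  conj : ∀ x ∈ K.cT, ∀ y ∈ L, x * y * x⁻¹ ∈ L
  inter : ∀ x ∈ S, x ∈ L ↔ x ∈ K.sub qSub
  cover : ∀ x ∈ K.cT, x ∈ L ∨ x * φ 5 ∈ L

theorem exists_L [Finite G] (hS : SylIn ⊤ S) : ∃ L : Subgroup G, K.IsL L := by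
  classical
  haveI := Fact.mk Nat.prime_two
  obtain ⟨hok, hqs, hgs, -⟩ := qSub_mem
  obtain ⟨-, -, hinv, hcov, -, hg2⟩ := qSub_facts
  have h5s : (5 : ℕ) ∈ sylH := heads_ok 5 (by simp)
  have hD := K.sylIn_cT hS
  have hp : IsPGroup 2 (S.subgroupOf K.cT) := IsPGroup.of_injective hS.two
    (Subgroup.subgroupOfEquivOfLe hD.le).toMonoidHom (Subgroup.subgroupOfEquivOfLe hD.le).injective
  obtain ⟨P, hP⟩ := hp.exists_le_sylow
  have hPS : (P : Subgroup K.cT) = S.subgroupOf K.cT := by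
    refine (Subgroup.eq_of_le_of_card_ge hP ?_).symm
    rw [Nat.card_congr (Subgroup.subgroupOfEquivOfLe hD.le).toEquiv,
      ← Subgroup.card_map_of_injective K.cT.subtype_injective]
    exact hD.card_le (Subgroup.map_subtype_le _) (P.isPGroup'.map _)
  have hmemP : ∀ y : K.cT, y ∈ (P : Subgroup K.cT) ↔ (y : G) ∈ S := fun y => by rw [hPS]; rfl
  set Q' : Subgroup K.cT := (K.sub qSub).subgroupOf K.cT with hQ'
  have hQP : Q' ≤ (P : Subgroup K.cT) := fun y hy => (hmemP y).2 (K.sub_le hok hy)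
  have hQle : K.sub qSub ≤ K.cT := (K.sub_le hok).trans hD.le
  have hrel : Q'.relIndex (P : Subgroup K.cT) = 2 := by
    have h := Subgroup.card_mul_index (Q'.subgroupOf (P : Subgroup K.cT))
    rw [Nat.card_congr (Subgroup.subgroupOfEquivOfLe hQP).toEquiv, hPS,
      Nat.card_congr (Subgroup.subgroupOfEquivOfLe hQle).toEquiv,
      Nat.card_congr (Subgroup.subgroupOfEquivOfLe hD.le).toEquiv,
      K.card_sub hok (maxes_ok qSub (by simp)).2.1, (maxes_ok qSub (by simp)).2.2, K.card_eq] at h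
    rw [Subgroup.relIndex, hPS]
    omega
  set ψ := Transfer.sgnHom (Q'.subgroupOf (P : Subgroup K.cT)) hrel with hψ
  set f := MonoidHom.transfer ψ with hf
  set c : ℕ → K.cT := fun i => if hi : φ i ∈ K.cT then ⟨φ i, hi⟩ else 1 with hc
  have hcval : ∀ i ∈ sylH, (c i : G) = φ i := fun i hi => by
    simp [hc, dif_pos (hD.le (K.mem i hi))]
  haveI := Fintype.ofFinite (K.cT ⧸ (P : Subgroup K.cT))
  have hval : ∀ i ∈ sylH, mH i i = 0 → i ≠ 0 → ∀ a : K.cT, ∀ h : a⁻¹ * c i * a ∈ (P : Subgroup K.cT),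
      (i ∈ qSub → ψ ⟨_, h⟩ = 1) ∧ (i ∈ c5 → ψ ⟨_, h⟩ = -1) := by
    intro i hi hi2 hi0 a h
    have hmem := (hmemP _).1 h
    rw [Subgroup.coe_mul, Subgroup.coe_mul, hcval i hi, InvMemClass.coe_inv] at hmem
    have hmem' : (a : G)⁻¹ * φ i * (a : G)⁻¹⁻¹ ∈ S := by rwa [inv_inv]
    obtain ⟨j, hj, ej, hj2, hj0⟩ := K.idx_conj_invol hi hi2 hi0 hmem'
    rw [inv_inv] at ej
    have hiff : (⟨_, h⟩ : (P : Subgroup K.cT)) ∈ Q'.subgroupOf (P : Subgroup K.cT) ↔ j ∈ qSub := by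
      rw [Subgroup.mem_subgroupOf, hQ', Subgroup.mem_subgroupOf]
      show ((a⁻¹ * c i * a : K.cT) : G) ∈ K.sub qSub ↔ _
      rw [Subgroup.coe_mul, Subgroup.coe_mul, hcval i hi, InvMemClass.coe_inv, ← ej, K.mem_sub hok]
      exact ⟨fun ⟨k, hk, e⟩ => K.inj k (hqs k hk) j hj e ▸ hk, fun h => ⟨j, h, rfl⟩⟩
    have hT : ∀ {u v : ℕ}, u ∈ c5 → v ∈ qSub → mH v v = 0 →
        ∀ d ∈ K.cT, d * φ u * d⁻¹ ≠ φ v := by
      intro u v hu hv hv2 d hd e
      obtain ⟨-, hcl⟩ := classesL_ok.1 (5, c5) (by simp [classesL])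
      obtain ⟨p, hp, ep⟩ := hcl u hu
      refine K.five_not_Q hS hv hv2 (d := d * φ p) (mul_mem hd (hD.le (K.mem p hp))) ?_
      rw [← e, ← ep, K.conj_eq h5s hp]
      group
    refine ⟨fun hiQ => ?_, fun hi5 => ?_⟩
    · refine Transfer.sgnHom_eq_one_iff.2 (hiff.2 ((hinv j hj hj2 hj0).resolve_right fun hj5 => ?_))
      exact hT hj5 hiQ hi2 a a.2 (by rw [ej]; group)
    · refine (Int.units_eq_one_or _).resolve_left fun e => ?_
      exact hT hi5 (hiff.1 (Transfer.sgnHom_eq_one_iff.1 e)) hj2 (a⁻¹ : K.cT) (a⁻¹).2 (by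
        rw [ej, InvMemClass.coe_inv]; group)
  have hsq : ∀ i ∈ sylH, mH i i = 0 → c i * c i = 1 := fun i hi h2 => Subtype.ext (by
    rw [Subgroup.coe_mul, hcval i hi, ← K.mul i hi i hi, h2, K.one, OneMemClass.coe_one])
  have hf1 : ∀ i ∈ qSub, mH i i = 0 → i ≠ 0 → f (c i) = 1 := by
    intro i hi h2 h0
    rw [hf, Transfer.transfer_of_sq_eq_one ψ (hsq i (hqs i hi) h2)]
    refine Finset.prod_eq_one fun q hq => ?_
    rw [dif_pos (Transfer.mem_of_smul_eq (Finset.mem_filter.1 hq).2)]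
    exact (hval i (hqs i hi) h2 h0 q.out _).1 hi
  have hf5 : f (c 5) = -1 := by
    rw [hf, Transfer.transfer_of_sq_eq_one ψ (hsq 5 h5s (sylH_sq_ok 5 (by simp))),
      Finset.prod_congr rfl (g := fun _ => (-1 : ℤˣ)) fun q hq => by
        rw [dif_pos (Transfer.mem_of_smul_eq (Finset.mem_filter.1 hq).2)]
        exact (hval 5 h5s (sylH_sq_ok 5 (by simp)) (by norm_num) q.out _).2 (mem_dec (by decide +kernel)),
      Finset.prod_const]
    exact (Transfer.odd_card_fixed (hsq 5 h5s (sylH_sq_ok 5 (by simp)))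
      (Nat.not_even_iff_odd.1 fun e => P.not_dvd_index (even_iff_two_dvd.1 e))).neg_one_pow
  have hQker : K.sub qSub ≤ f.ker.map K.cT.subtype := by
    intro x hx
    obtain ⟨i, hi, rfl⟩ := (K.mem_sub hok).1 hx
    obtain ⟨hw, he⟩ := word_spec hi
    rw [← he, imgQ, K.prd_eq _ (fun y hy => by
      obtain ⟨k, hk, rfl⟩ := List.mem_map.1 hy
      rw [List.getD_eq_getElem _ _ (show k < gensQ.length from hw k hk)]
      exact hgs _ (List.getElem_mem _))]
    refine Subgroup.list_prod_mem _ fun y hy => ?_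
    obtain ⟨j, hj, rfl⟩ := List.mem_map.1 hy
    obtain ⟨k, hk, rfl⟩ := List.mem_map.1 hj
    have hlt : k < gensQ.length := hw k hk
    rw [List.getD_eq_getElem _ _ hlt]
    have hmem := List.getElem_mem hlt
    refine ⟨c gensQ[k], hf1 _ (hgs _ hmem) (hg2 _ hmem) ?_, hcval _ (hqs _ (hgs _ hmem))⟩
    intro e0
    rw [e0] at hmem
    simp [gensQ] at hmem
  clear_value f
  have hne : ∀ {x : K.cT}, f x ≠ 1 → f (x * c 5) = 1 := fun {x} hx => by
    rw [map_mul, hf5, (Int.units_eq_one_or (f x)).resolve_left hx]; rfl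
  refine ⟨f.ker.map K.cT.subtype, Subgroup.map_subtype_le _, ?_, fun x hx => ⟨?_, fun h => hQker h⟩, ?_⟩
  · rintro x hx _ ⟨y, hy, rfl⟩
    refine ⟨⟨x, hx⟩ * y * ⟨x, hx⟩⁻¹, ?_, rfl⟩
    show f (_ * _ * _) = 1
    rw [map_mul, map_mul, map_inv, MonoidHom.mem_ker.1 hy, mul_one, mul_inv_cancel]
  · rintro ⟨y, hy, rfl⟩
    obtain ⟨i, hi, ei⟩ := K.surj _ hx
    refine (K.mem_sub hok).2 ⟨i, (hcov i hi).resolve_right fun h => ?_, ei⟩
    obtain ⟨z, hz, ez⟩ := hQker ((K.mem_sub hok).2 ⟨_, h, rfl⟩)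
    have e : y * c 5 = z := Subtype.ext (by
      rw [Subgroup.coe_mul, hcval 5 h5s]
      show K.cT.subtype y * φ 5 = K.cT.subtype z
      rw [← ei, ez, K.mul i hi 5 h5s])
    have h' := congrArg f e
    rw [map_mul, hf5, MonoidHom.mem_ker.1 hy, MonoidHom.mem_ker.1 hz, one_mul] at h'
    exact absurd h' (by decide)
  · intro x hx
    by_cases h : f ⟨x, hx⟩ = 1
    · exact .inl ⟨⟨x, hx⟩, h, rfl⟩
    · exact .inr ⟨_, hne h, by simp [hcval 5 h5s]⟩

theorem IsL.sylIn [Finite G] {L : Subgroup G} (hL : K.IsL L) (hS : SylIn ⊤ S) :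
    SylIn L (K.sub qSub) := by
  obtain ⟨hok, -, -, -⟩ := qSub_mem
  have hD := K.sylIn_cT hS
  refine ⟨fun x hx => (hL.inter x (K.sub_le hok hx)).2 hx, hS.two.to_le (K.sub_le hok),
    fun Y hY hY2 => ?_⟩
  obtain ⟨d, hd, hdY⟩ := hD.absorb Y (hY.trans hL.le) hY2
  rcases hL.cover d hd with h | h
  · exact ⟨d, h, fun y hy => (hL.inter _ (hdY y hy)).1 (hL.conj d hd y (hY hy))⟩
  · have h5 : φ 5 ∈ S := K.mem 5 (heads_ok 5 (by simp))
    have h55 : φ 5 * φ 5 = 1 := by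
      rw [← K.mul _ (heads_ok 5 (by simp)) _ (heads_ok 5 (by simp)), sylH_sq_ok 5 (by simp), K.one]
    have hd5 : φ 5 * d ∈ L := by
      have := hL.conj (φ 5) (hD.le h5) _ h
      rwa [show φ 5 * (d * φ 5) * (φ 5)⁻¹ = φ 5 * d by group] at this
    refine ⟨φ 5 * d, hd5, fun y hy => (hL.inter _ ?_).1 (hL.conj _ (mul_mem (hD.le h5) hd) y (hY hy))⟩
    rw [show φ 5 * d * y * (φ 5 * d)⁻¹ = φ 5 * (d * y * d⁻¹) * (φ 5)⁻¹ by group]
    exact mul_mem (mul_mem h5 (hdY y hy)) (inv_mem h5)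

theorem trivQ_mul {m n : G} (hm : K.TrivQ m) (hn : K.TrivQ n) (hmt : m ∈ K.cT) : K.TrivQ (m * n) := by
  intro i hi
  have e : m * n * φ i * (m * n)⁻¹ = m * (n * φ i * n⁻¹) * m⁻¹ := by group
  rcases hn i hi with h | h
  · rw [e, h]; exact hm i hi
  · have e' : m * (φ i * φ 128) * m⁻¹ = m * φ i * m⁻¹ * φ 128 := by
      rw [show m * (φ i * φ 128) * m⁻¹ = m * φ i * (φ 128 * m⁻¹) by group,
        ← K.mem_cT.1 (inv_mem hmt)]
      group
    rw [e, h, e']
    rcases hm i hi with h' | h' <;> rw [h']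
    · exact .inr rfl
    · refine .inl ?_
      rw [mul_assoc, ← K.mul _ z_central.1 _ z_central.1, z_central.2.1, K.one, mul_one]

theorem trivQ_pow {m : G} (hm : K.TrivQ m) (hmt : m ∈ K.cT) : ∀ k : ℕ, K.TrivQ (m ^ k)
  | 0 => fun i _ => .inl (by simp)
  | k + 1 => by
    rw [pow_succ]
    exact K.trivQ_mul (trivQ_pow hm hmt k) hm (pow_mem hmt k)

theorem trivQ_of_mem {x : G} (hx : x ∈ K.sub qSub) : K.TrivQ x := by
  obtain ⟨hok, hqs, -, -⟩ := qSub_mem
  obtain ⟨j, hj, rfl⟩ := (K.mem_sub hok).1 hx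
  intro i hi
  have hcm := K.comm_val (hqs j hj) (hqs i hi)
  have hi' := qSub_facts.2.1 j hj i hi
  have e : φ j * φ i * (φ j)⁻¹ = φ (commI j i) * φ i := by rw [hcm]; group
  simp only [List.mem_cons, List.not_mem_nil, or_false] at hi'
  rcases hi' with h | h <;> rw [h] at e
  · exact .inl (by rw [e, K.one, one_mul])
  · exact .inr (by rw [e, K.t_central (K.mem i (hqs i hi))])

theorem trivQ_three [Finite G] {L : Subgroup G} (hL : K.IsL L) (hS : SylIn ⊤ S) (F : Fus φ) {n : G}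
    (hn : n ∈ L) (hQ : ∀ x ∈ K.sub qSub, n * x * n⁻¹ ∈ K.sub qSub) : K.TrivQ (n ^ 3) := by
  obtain ⟨hok, -, -, -⟩ := qSub_mem
  have hnt : n ∈ K.cT := hL.le hn
  obtain ⟨h6, -⟩ := K.auto_cases F hnt hQ
  obtain ⟨k, m, hm, hkm⟩ := Nat.exists_eq_two_pow_mul_odd (orderOf_pos n).ne'
  set N : Subgroup G := L ⊓ Subgroup.normalizer (K.sub qSub : Set G) with hN
  have hLS := hL.sylIn K hS
  have hnN : n ∈ N := ⟨hn, mem_normalizer_of_forall hQ⟩
  obtain ⟨Y, hY, hQY⟩ := sylIn_exists N (K.sub qSub) (le_inf hLS.le Subgroup.le_normalizer) hLS.two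
  have hQN : Y = K.sub qSub :=
    (Subgroup.eq_of_le_of_card_ge hQY (hLS.card_le (hY.le.trans inf_le_left) hY.two)).symm
  subst hQN
  obtain ⟨d, hd, hdY⟩ := hY.absorb (Subgroup.zpowers (n ^ m)) (Subgroup.zpowers_le.2 (pow_mem hnN m))
    (IsPGroup.of_card (n := k) (by
      rw [Nat.card_zpowers, orderOf_pow, hkm, Nat.gcd_mul_left_left, Nat.mul_div_cancel _ hm.pos]))
  have hnm : n ^ m ∈ K.sub qSub := by
    have := conj_of_mem_normalizer (inv_mem (Subgroup.mem_inf.1 hd).2) (hdY _ (Subgroup.mem_zpowers _))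
    rwa [show d⁻¹ * (d * n ^ m * d⁻¹) * d⁻¹⁻¹ = n ^ m by group] at this
  obtain ⟨j, rfl⟩ := hm
  set w := (n ^ 6) ^ j with hw
  have hwt : w ∈ K.cT := pow_mem (pow_mem hnt 6) j
  have hinv : K.TrivQ w⁻¹ := by
    have e : w⁻¹ = w ^ (orderOf w - 1) := inv_eq_of_mul_eq_one_right (by
      rw [← pow_succ', Nat.sub_add_cancel (orderOf_pos w), pow_orderOf_eq_one])
    rw [e]
    exact K.trivQ_pow (K.trivQ_pow h6 (pow_mem hnt 6) j) hwt _
  have e : n ^ 3 = (n ^ (2 * j + 1)) ^ 3 * w⁻¹ := by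
    rw [hw, ← pow_mul, ← pow_mul, show (2 * j + 1) * 3 = 3 + 6 * j by ring, pow_add,
      mul_inv_cancel_right]
  rw [e]
  exact K.trivQ_mul (K.trivQ_pow (K.trivQ_of_mem hnm) (pow_mem hnt _) 3) hinv (pow_mem (pow_mem hnt _) 3)

end PHyp

end CfsgLib.M12Syl
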