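import Cfsg.Agent.Lib.M12Syl.CentFactor

/-!
Generators of the centraliser of the central involution modulo its core.
-/

set_option autoImplicit false
set_option linter.style.haveILetI false
set_option linter.unusedSectionVars false
set_option maxHeartbeats 1000000

namespace CfsgLib.M12Syl

open CfsgLib.M12Recog

/-- the representatives of the right cosets of the Sylow subgroup in the table -/
noncomputable def sPow (k : ℕ) : ℕ := pw mH sIdx k

theorem sTab : (∀ q ∈ qSub, conjI q 3 ≠ 9) ∧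
    (∀ q ∈ qSub, ∀ e ∈ [0, 1, 2], conjI (mH q (sPow e)) 3 ∈ qSub) ∧
    (∀ q ∈ qSub, ∀ e ∈ [0, 1, 2], ∀ i ∈ qSub, conjI (invI q) (conjI (mH q (sPow e)) i) = conjI (sPow e) i) ∧
    (∀ q ∈ qSub, ∀ e ∈ [0, 1, 2], ∀ i ∈ qSub, conjI (mH q (sPow e)) i ∈ qSub ∧
      conjI q (conjI (sPow e) i) = conjI (mH q (sPow e)) i) ∧
    (∀ i ∈ qSub, conjI (sPow 2) (conjI (sPow 2) i) = conjI (sPow 1) i ∧ conjI sIdx i = conjI (sPow 1) i ∧
      conjI (sPow 0) i = i ∧ conjI sIdx (conjI sIdx i) = conjI (sPow 2) i) := by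
  have h : ((qSub.all fun q => conjI q 3 != 9) &&
    (qSub.all fun q => [0, 1, 2].all fun e => qSub.contains (conjI (mH q (sPow e)) 3) && qSub.all fun i =>
      conjI (invI q) (conjI (mH q (sPow e)) i) == conjI (sPow e) i &&
      qSub.contains (conjI (mH q (sPow e)) i) &&
      conjI q (conjI (sPow e) i) == conjI (mH q (sPow e)) i) &&
    qSub.all fun i => conjI (sPow 2) (conjI (sPow 2) i) == conjI (sPow 1) i &&
      conjI sIdx i == conjI (sPow 1) i && conjI (sPow 0) i == i &&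
      conjI sIdx (conjI sIdx i) == conjI (sPow 2) i) = true := by decide +kernel
  simp only [Bool.and_eq_true, List.all_eq_true, List.contains_iff_mem, beq_iff_eq, bne_iff_ne] at h
  exact ⟨h.1.1, fun q hq e he => (h.1.2 q hq e he).1, fun q hq e he i hi => ((h.1.2 q hq e he).2 i hi).1.1,
    fun q hq e he i hi => ⟨((h.1.2 q hq e he).2 i hi).1.2, ((h.1.2 q hq e he).2 i hi).2⟩,
    fun i hi => ⟨(h.2 i hi).1.1.1, (h.2 i hi).1.1.2, (h.2 i hi).1.2, (h.2 i hi).2⟩⟩

namespace PHyp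

variable {G : Type*} [Group G] {φ : ℕ → G} {S : Subgroup G} (K : PHyp φ S)
include K

theorem conjI_eq {i p : ℕ} (hi : i ∈ sylH) (hp : p ∈ sylH) :
    φ (conjI p i) = φ p * φ i * (φ p)⁻¹ := K.conj_eq hi hp

theorem qSub_norm {p : ℕ} (hp : p ∈ sylH) [Finite G] :
    ∀ y ∈ K.sub qSub, φ p * y * (φ p)⁻¹ ∈ K.sub qSub := fun y hy =>
  conj_of_mem_normalizer (K.sub_norm (l := sylH) (by decide +kernel) qSub_mem.1 qSub_facts.2.2.2.2.1
    ((K.mem_sub (by decide +kernel)).2 ⟨p, hp, rfl⟩)) hy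

theorem theta_inf [Finite G] (hS : SylIn ⊤ S) {x : G} (hx : x ∈ S) (hθ : x ∈ K.theta) : x = 1 := by
  haveI := Fact.mk Nat.prime_two
  exact PSolvable.eq_one_of_mem_of_mem hS.two
    (Signalizer.coprime_centralizerPPrimeCore (φ 128)) hx hθ

theorem IsL.sq_mem {L : Subgroup G} (hL : K.IsL L) {x : G} (hx : x ∈ K.cT) : x * x ∈ L := by
  have h5 : φ 5 ∈ K.cT := K.mem_cT.2 (K.t_central (K.mem 5 (heads_ok 5 (by simp))))
  have h55 : φ 5 * φ 5 = 1 := by
    rw [← K.mul _ (heads_ok 5 (by simp)) _ (heads_ok 5 (by simp)), sylH_sq_ok 5 (by simp), K.one]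
  rcases hL.cover x hx with h | h
  · exact mul_mem h h
  · have h' := mul_mem h (hL.conj _ h5 _ h)
    rwa [show x * φ 5 * (φ 5 * (x * φ 5) * (φ 5)⁻¹) = x * (φ 5 * φ 5) * x by group, h55, mul_one] at h'

theorem IsL.odd_mem {L : Subgroup G} (hL : K.IsL L) {x : G} (hx : x ∈ K.cT) (ho : ¬ 2 ∣ orderOf x) :
    x ∈ L := by
  obtain ⟨k, hk⟩ : ∃ k, orderOf x = 2 * k + 1 := ⟨orderOf x / 2, by omega⟩
  have e : x = (x * x) ^ (k + 1) := by
    rw [← pow_two, ← pow_mul, show 2 * (k + 1) = orderOf x + 1 by omega, pow_succ, pow_orderOf_eq_one,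
      one_mul]
  rw [e]
  exact pow_mem (hL.sq_mem K hx) _

theorem IsL.theta_le [Finite G] {L : Subgroup G} (hL : K.IsL L) : K.theta ≤ L := fun x hx => by
  refine hL.odd_mem K (K.theta_le hx) fun hd => K.theta_odd (hd.trans ?_)
  rw [← Subgroup.orderOf_mk x hx]
  exact orderOf_dvd_natCard _

/-- An element moving `φ u` to `φ 128` and `φ 128` to `φ 9`. -/
theorem exists_move [Finite G] (hS : SylIn ⊤ S) {u k : ℕ} (hu : u ∈ sylH) (hu1 : u ≠ 128)
    (hk : k ∈ centL u) (hk2 : mH k k = 128) (hc : IsConj (φ 128) (φ u)) :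
    ∃ g : G, g * φ u * g⁻¹ = φ 128 ∧ g * φ 128 * g⁻¹ = φ 9 := by
  obtain ⟨g₀, hg₀, hgS⟩ := K.exists_to_t hS hu hc
  obtain ⟨hks, -⟩ := mem_centL.1 hk
  obtain ⟨m, hm, em⟩ := K.surj _ (hgS k hk)
  have hy : φ (mH m m) = g₀ * φ 128 * g₀⁻¹ := by
    rw [K.mul m hm m hm, em, ← hk2, K.mul k hks k hks]; group
  have hsq' : ∀ j ∈ sylH, mH j j = 0 ∨ mH j j = 128 ∨ mH j j ∈ [9, 121] ∨
      mH (mH j j) (mH j j) ≠ 0 := by
    have h : (sylH.all fun j => mH j j == 0 || mH j j == 128 || [9, 121].contains (mH j j) ||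
      mH (mH j j) (mH j j) != 0) = true := by decide +kernel
    simp only [List.all_eq_true, Bool.or_eq_true, beq_iff_eq, List.contains_iff_mem, bne_iff_ne] at h
    intro j hj
    rcases h j hj with ((e | e) | e) | e
    exacts [.inl e, .inr (.inl e), .inr (.inr (.inl e)), .inr (.inr (.inr e))]
  have ho := orderOf_of_isConj K.t_order (isConj_iff.2 ⟨g₀, hy.symm⟩)
  have hmm := syl_closed m hm m hm
  have h9s : (9 : ℕ) ∈ sylH := heads_ok 9 (by simp)
  rcases hsq' m hm with e | e | e | e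
  · rw [e, K.one, orderOf_one] at ho; omega
  · rw [e] at hy
    exact absurd ((K.eq_iff hu z_central.1).1 (mul_left_cancel (mul_right_cancel (hg₀.trans hy)))) hu1
  · obtain ⟨-, hcl⟩ := classesL_ok.1 (9, [9, 121]) (by simp [classesL])
    obtain ⟨p, hp, ep⟩ := hcl _ e
    refine ⟨(φ p)⁻¹ * g₀, ?_, ?_⟩
    · rw [show (φ p)⁻¹ * g₀ * φ u * ((φ p)⁻¹ * g₀)⁻¹ = (φ p)⁻¹ * (g₀ * φ u * g₀⁻¹) * φ p by group,
        hg₀, mul_assoc, ← K.t_central (K.mem p hp)]
      group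
    · rw [show (φ p)⁻¹ * g₀ * φ 128 * ((φ p)⁻¹ * g₀)⁻¹ = (φ p)⁻¹ * (g₀ * φ 128 * g₀⁻¹) * φ p by group,
        ← hy, ← ep, K.conj_eq h9s hp]
      group
  · exact absurd ((K.eq_one_iff (syl_closed _ hmm _ hmm)).1 (by
      rw [K.mul _ hmm _ hmm, ← pow_two, ← ho, pow_orderOf_eq_one])) e

/-- the element acting on `qSub` as the element of order three of the table -/
def ActS (_ : PHyp φ S) (g : G) : Prop :=
  ∀ i ∈ qSub, φ (conjI sIdx i) = g * φ i * g⁻¹

theorem exists_actS [Finite G] (hS : SylIn ⊤ S) (F : Fus φ) {L : Subgroup G} (hL : K.IsL L) :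
    ∃ g ∈ L, (∀ y ∈ K.sub qSub, g * y * g⁻¹ ∈ K.sub qSub) ∧ K.ActS g := by
  obtain ⟨hok, hqs, hgs, h128⟩ := qSub_mem
  obtain ⟨hne3, -, hinvq, hmem, hpow⟩ := sTab
  obtain ⟨g1, g19, g1t, -⟩ := K.exists_swap hS F.nine
  have f : (3 : ℕ) ∈ qSub ∧ (9 : ℕ) ∈ qSub ∧ (∃ k ∈ centL 3, mH k k = 128) ∧
      conjI 5 9 = 9 := by
    refine ⟨mem_dec (by decide +kernel), mem_dec (by decide +kernel), ?_, by decide +kernel⟩
    have h : ((centL 3).any fun k => mH k k == 128) = true := by decide +kernel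
    simpa using h
  obtain ⟨h3, h9, ⟨k, hk, hk2⟩, h59⟩ := f
  obtain ⟨g0, g03, g0t⟩ := K.exists_move hS (hqs 3 h3) (by norm_num) hk hk2 F.three
  set d := g1 * g0 with hd
  have hd3 : d * φ 3 * d⁻¹ = φ 9 := by
    rw [hd, show g1 * g0 * φ 3 * (g1 * g0)⁻¹ = g1 * (g0 * φ 3 * g0⁻¹) * g1⁻¹ by group, g03, g1t]
  have hdt : d ∈ K.cT := K.mem_cT.2 (mul_inv_eq_iff_eq_mul.1 (by
    rw [hd, show g1 * g0 * φ 128 * (g1 * g0)⁻¹ = g1 * (g0 * φ 128 * g0⁻¹) * g1⁻¹ by group, g0t, g19]))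
  have CF := K.cent_fac hS F
  obtain ⟨o, ho, n, hn, hnQ, e⟩ := CF.factor d hdt
  have hn3 : n * φ 3 * n⁻¹ = φ 9 := by
    have hmemS : (φ 9)⁻¹ * (n * φ 3 * n⁻¹) ∈ S :=
      mul_mem (inv_mem (K.mem 9 (hqs 9 h9))) (K.sub_le hok (hnQ _ ((K.mem_sub hok).2 ⟨3, h3, rfl⟩)))
    have h9c : φ 9 ∈ K.cT := K.mem_cT.2 (K.t_central (K.mem 9 (hqs 9 h9)))
    have hθ : (φ 9)⁻¹ * (n * φ 3 * n⁻¹) ∈ K.theta := by
      have e' : (φ 9)⁻¹ * (n * φ 3 * n⁻¹) = (φ 9)⁻¹ * o⁻¹ * φ 9 * o := by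
        rw [mul_assoc ((φ 9)⁻¹ * o⁻¹), mul_assoc (φ 9)⁻¹, ← hd3, e]; group
      rw [e']
      have := K.theta_conj (inv_mem h9c) (inv_mem ho)
      rw [inv_inv] at this
      exact mul_mem this ho
    have := K.theta_inf hS hmemS hθ
    rw [inv_mul_eq_one] at this
    exact this.symm
  have h5s := heads_ok 5 (by simp)
  have h5 : φ 5 ∈ K.cT := K.mem_cT.2 (K.t_central (K.mem 5 h5s))
  obtain ⟨n', hn'L, hn'Q, hn'3⟩ : ∃ n' ∈ L, (∀ y ∈ K.sub qSub, n' * y * n'⁻¹ ∈ K.sub qSub) ∧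
      n' * φ 3 * n'⁻¹ = φ 9 := by
    rcases hL.cover n hn with h | h
    · exact ⟨n, h, hnQ, hn3⟩
    refine ⟨φ 5 * n, ?_, fun y hy => ?_, ?_⟩
    · have := hL.conj _ h5 _ h
      rwa [show φ 5 * (n * φ 5) * (φ 5)⁻¹ = φ 5 * n by group] at this
    · rw [show φ 5 * n * y * (φ 5 * n)⁻¹ = φ 5 * (n * y * n⁻¹) * (φ 5)⁻¹ by group]
      exact K.qSub_norm h5s _ (hnQ y hy)
    · rw [show φ 5 * n * φ 3 * (φ 5 * n)⁻¹ = φ 5 * (n * φ 3 * n⁻¹) * (φ 5)⁻¹ by group, hn3,
        ← K.conjI_eq (hqs 9 h9) h5s, h59]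
  obtain ⟨q, hq, e', he', hact⟩ :=
    (K.auto_cases F (hL.le hn'L) hn'Q).2 (K.trivQ_three hL hS F hn'L hn'Q)
  have he3 : e' ∈ [0, 1, 2] := by simp; omega
  have hLS := hL.sylIn K hS
  have hqQ : φ q ∈ K.sub qSub := (K.mem_sub hok).2 ⟨q, hq, rfl⟩
  set g := (φ q)⁻¹ * n' with hg
  have hgL : g ∈ L := mul_mem (inv_mem (hLS.le hqQ)) hn'L
  have hgQ : ∀ y ∈ K.sub qSub, g * y * g⁻¹ ∈ K.sub qSub := fun y hy => by
    rw [hg, show (φ q)⁻¹ * n' * y * ((φ q)⁻¹ * n')⁻¹ = (φ q)⁻¹ * (n' * y * n'⁻¹) * φ q by group]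
    exact mul_mem (mul_mem (inv_mem hqQ) (hn'Q y hy)) hqQ
  have hga : ∀ i ∈ qSub, φ (conjI (sPow e') i) = g * φ i * g⁻¹ := by
    intro i hi
    rw [← hinvq q hq e' he3 i hi, K.conjI_eq (hqs _ (hmem q hq e' he3 i hi).1) (invI_spec (hqs q hq)).1,
      K.inv_eq (hqs q hq), sPow, hact i hi, hg]
    group
  rcases e' with _ | _ | _ | e'
  · exfalso
    refine hne3 q hq (K.inj _ ?_ 9 (hqs 9 h9) ?_)
    · exact syl_closed _ (syl_closed q (hqs q hq) 3 (hqs 3 h3)) _ (invI_spec (hqs q hq)).1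
    · rw [← hn'3, ← hact 3 h3]
      have e0 := (hmem q hq 0 (by simp) 3 h3).2
      rw [(hpow 3 h3).2.2.1] at e0
      exact congrArg φ e0
  · exact ⟨g, hgL, hgQ, fun i hi => by rw [(hpow i hi).2.1]; exact hga i hi⟩
  · refine ⟨g * g, mul_mem hgL hgL, fun y hy => ?_, fun i hi => ?_⟩
    · rw [show g * g * y * (g * g)⁻¹ = g * (g * y * g⁻¹) * g⁻¹ by group]; exact hgQ _ (hgQ y hy)
    · obtain ⟨j, hj, ej⟩ := (K.mem_sub hok).1 (hgQ _ ((K.mem_sub hok).2 ⟨i, hi, rfl⟩))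
      have hjI : conjI (sPow 2) i = j := by
        refine K.inj _ ?_ j (hqs j hj) (by rw [hga i hi, ej])
        have h' : (qSub.all fun i => sylH.contains (conjI (sPow 2) i)) = true := by decide +kernel
        simp only [List.all_eq_true, List.contains_iff_mem] at h'
        exact h' i hi
      rw [(hpow i hi).2.1, ← (hpow i hi).1, hjI, hga j hj, ej]
      group
  · omega

/-- The elements of `L` normalising `qSub`. -/
theorem exists_qg [Finite G] (hS : SylIn ⊤ S) (F : Fus φ) {L : Subgroup G} (hL : K.IsL L) {g : G}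
    (hg : g ∈ L) (hgQ : ∀ y ∈ K.sub qSub, g * y * g⁻¹ ∈ K.sub qSub) (ha : K.ActS g) {n : G} (hn : n ∈ L)
    (hnQ : ∀ y ∈ K.sub qSub, n * y * n⁻¹ ∈ K.sub qSub) :
    ∃ o ∈ K.theta, ∃ q ∈ qSub, ∃ e < 3, n = o * φ q * g ^ e := by
  obtain ⟨hok, hqs, hgs, h128⟩ := qSub_mem
  obtain ⟨-, -, -, hmem, hpow⟩ := sTab
  obtain ⟨q, hq, e, he, hact⟩ := (K.auto_cases F (hL.le hn) hnQ).2 (K.trivQ_three hL hS F hn hnQ)
  have hLS := hL.sylIn K hS
  have he3 : e ∈ [0, 1, 2] := by simp; omega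
  have hqQ : φ q ∈ K.sub qSub := (K.mem_sub hok).2 ⟨q, hq, rfl⟩
  have hnorm : ∀ {a : G}, (∀ y ∈ K.sub qSub, a * y * a⁻¹ ∈ K.sub qSub) →
      a ∈ Subgroup.normalizer (K.sub qSub : Set G) := fun h => mem_normalizer_of_forall h
  set b := n * (φ q * g ^ e)⁻¹ with hb
  have hcl : ∀ i ∈ qSub, conjI sIdx i ∈ qSub := by
    have h' : (qSub.all fun i => qSub.contains (conjI sIdx i)) = true := by decide +kernel
    simp only [List.all_eq_true, List.contains_iff_mem] at h'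
    exact h'
  have hge : ∀ i ∈ qSub, φ (conjI (sPow e) i) = g ^ e * φ i * (g ^ e)⁻¹ := by
    intro i hi
    rcases e with _ | _ | _ | e
    · rw [(hpow i hi).2.2.1]; simp
    · rw [← (hpow i hi).2.1, pow_one]; exact ha i hi
    · rw [← (hpow i hi).2.2.2, ha _ (hcl i hi), ha i hi, pow_two]; group
    · omega
  have hbact : ∀ i ∈ qSub, φ q * g ^ e * φ i * (φ q * g ^ e)⁻¹ = n * φ i * n⁻¹ := by
    intro i hi
    have hci : conjI (sPow e) i ∈ qSub := by
      have h' : ([0, 1, 2].all fun e => qSub.all fun i => qSub.contains (conjI (sPow e) i)) = true := by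
        decide +kernel
      simp only [List.all_eq_true, List.contains_iff_mem] at h'
      exact h' e he3 i hi
    rw [← hact i hi, ← sPow, ← (hmem q hq e he3 i hi).2, K.conjI_eq (hqs _ hci) (hqs q hq), hge i hi]
    group
  have hbQ : b ∈ Subgroup.normalizer (K.sub qSub : Set G) :=
    mul_mem (hnorm hnQ) (inv_mem (mul_mem (Subgroup.le_normalizer hqQ) (pow_mem (hnorm hgQ) e)))
  have hfix : ∀ i ∈ qSub, b * φ i * b⁻¹ = φ i := by
    intro i hi
    obtain ⟨j, hj, ej⟩ := (K.mem_sub hok).1 (conj_of_mem_normalizer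
      (inv_mem (mul_mem (Subgroup.le_normalizer hqQ) (pow_mem (hnorm hgQ) e)))
      ((K.mem_sub hok).2 ⟨i, hi, rfl⟩))
    calc b * φ i * b⁻¹ = n * ((φ q * g ^ e)⁻¹ * φ i * (φ q * g ^ e)⁻¹⁻¹) * n⁻¹ := by rw [hb]; group
      _ = φ q * g ^ e * φ j * (φ q * g ^ e)⁻¹ := by rw [← ej, hbact j hj]
      _ = φ i := by rw [ej]; group
  have hbL : b ∈ L := mul_mem hn (inv_mem (mul_mem (hLS.le hqQ) (pow_mem hg e)))
  obtain ⟨o, ho, r, hr, e'⟩ := (K.cent_fac hS F).triv hL b hbL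
    (fun y hy => conj_of_mem_normalizer hbQ hy) fun i hi => .inl (hfix i hi)
  obtain ⟨r', hr', rfl⟩ := (K.mem_sub hok).1 hr
  refine ⟨o, ho, mH r' q, ?_, e, he, ?_⟩
  · have h := hok
    simp only [lOK, Bool.and_eq_true, List.all_eq_true, List.contains_iff_mem] at h
    exact (h.2 r' hr').2 q hq
  · rw [K.mul r' (hqs r' hr') q (hqs q hq), ← mul_assoc o, ← e', hb]
    group

/-- Every element of the centraliser of `φ 128`, as a product. -/
theorem cT_factor [Finite G] (hS : SylIn ⊤ S) (F : Fus φ) {L : Subgroup G} (hL : K.IsL L) {g : G}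
    (hg : g ∈ L) (hgQ : ∀ y ∈ K.sub qSub, g * y * g⁻¹ ∈ K.sub qSub) (ha : K.ActS g) {x : G}
    (hx : x ∈ K.cT) :
    ∃ o ∈ K.theta, ∃ q ∈ qSub, ∃ e < 3, x = o * φ q * g ^ e ∨ x = o * φ q * g ^ e * φ 5 := by
  obtain ⟨o, ho, n, hn, hnQ, rfl⟩ := (K.cent_fac hS F).factor x hx
  rcases hL.cover n hn with h | h
  · obtain ⟨o', ho', q, hq, e, he, rfl⟩ := K.exists_qg hS F hL hg hgQ ha h hnQ
    exact ⟨o * o', mul_mem ho ho', q, hq, e, he, .inl (by group)⟩
  · have h5s := heads_ok 5 (by simp)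
    obtain ⟨o', ho', q, hq, e, he, he'⟩ := K.exists_qg hS F hL hg hgQ ha h fun y hy => by
      rw [show n * φ 5 * y * (n * φ 5)⁻¹ = n * (φ 5 * y * (φ 5)⁻¹) * n⁻¹ by group]
      exact hnQ _ (K.qSub_norm h5s y hy)
    refine ⟨o * o', mul_mem ho ho', q, hq, e, he, .inr ?_⟩
    have h55 : φ 5 * φ 5 = 1 := by
      rw [← K.mul _ h5s _ h5s, sylH_sq_ok 5 (by simp), K.one]
    calc o * n = o * (n * φ 5) * φ 5 := by rw [mul_assoc o, mul_assoc n, h55, mul_one]
      _ = _ := by rw [he']; group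

theorem theta_qsub_pow [Finite G] {o y : G} (ho : o ∈ K.theta) (hy : y ∈ K.cT) :
    ∀ N : ℕ, (o * y) ^ N * (y ^ N)⁻¹ ∈ K.theta
  | 0 => by simp
  | N + 1 => by
    have h := theta_qsub_pow ho hy N
    have e : (o * y) ^ (N + 1) * (y ^ (N + 1))⁻¹ =
        o * (y * ((o * y) ^ N * (y ^ N)⁻¹) * y⁻¹) := by rw [pow_succ', pow_succ']; group
    rw [e]
    exact mul_mem ho (K.theta_conj hy h)

/-- An element of odd order commuting with a non-central involution is in the core. -/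
theorem cent_odd [Finite G] (hS : SylIn ⊤ S) (F : Fus φ) {x s : G} (hx : x ∈ K.cT) (ho : ¬ 2 ∣ orderOf x)
    (hs : orderOf s = 2) (hsc : s ∈ K.cT) (hst : s ≠ φ 128) (hxs : x * s = s * x) : x ∈ K.theta := by
  obtain ⟨hok, hqs, hgs, h128⟩ := qSub_mem
  obtain ⟨L, hL⟩ := K.exists_L hS
  have hD := K.sylIn_cT hS
  obtain ⟨d, hd, hdS⟩ := hD.absorb (Subgroup.zpowers s) (Subgroup.zpowers_le.2 hsc)
    (IsPGroup.of_card (n := 1) (by rw [Nat.card_zpowers, hs]; rfl))
  obtain ⟨i, hi, ei, hi2, hi0⟩ :=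
    K.idx_invol (orderOf_of_isConj hs (isConj_iff.2 ⟨d, rfl⟩)) (hdS s (Subgroup.mem_zpowers s))
  set y := d * x * d⁻¹ with hy
  suffices hyθ : y ∈ K.theta by
    have := K.theta_conj (inv_mem hd) hyθ
    rwa [hy, show d⁻¹ * (d * x * d⁻¹) * d⁻¹⁻¹ = x by group] at this
  have hyc : y ∈ K.cT := mul_mem (mul_mem hd hx) (inv_mem hd)
  have hyo : ¬ 2 ∣ orderOf y := by rwa [hy, ← MulAut.conj_apply, MulEquiv.orderOf_eq]
  have hyi : y * φ i = φ i * y := by rw [hy, ei]; exact conj_comm hxs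
  have hi128 : i ≠ 128 := by
    rintro rfl
    refine hst ?_
    calc s = d⁻¹ * (d * s * d⁻¹) * d := by group
      _ = φ 128 := by rw [← ei, mul_assoc, ← K.mem_cT.1 hd]; group
  have hic : φ i ∈ K.cT := K.mem_cT.2 (K.t_central (K.mem i hi))
  obtain ⟨o, hoθ, n, hn, hnQ, e⟩ := (K.cent_fac hS F).factor y hyc
  have hnL : n ∈ L := by
    have h := mul_mem (inv_mem (hL.theta_le K hoθ)) (hL.odd_mem K hyc hyo)
    rwa [e, inv_mul_cancel_left] at h
  have hz : n * φ i * n⁻¹ * (φ i)⁻¹ ∈ K.theta := by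
    have e' : n * φ i * n⁻¹ * (φ i)⁻¹ = o⁻¹ * (φ i * o * (φ i)⁻¹) := by
      have h' : o * n * φ i = φ i * (o * n) := by rw [← e]; exact hyi
      calc n * φ i * n⁻¹ * (φ i)⁻¹ = o⁻¹ * (o * n * φ i) * n⁻¹ * (φ i)⁻¹ := by group
        _ = _ := by rw [h']; group
    rw [e']
    exact mul_mem (inv_mem hoθ) (K.theta_conj hic hoθ)
  have htriv : K.TrivQ n := by
    rcases qSub_facts.2.2.1 i hi hi2 hi0 with hiQ | hi5
    · have hmemS : n * φ i * n⁻¹ * (φ i)⁻¹ ∈ S :=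
        mul_mem (K.sub_le hok (hnQ _ ((K.mem_sub hok).2 ⟨i, hiQ, rfl⟩))) (inv_mem (K.mem i hi))
      have h1 := K.theta_inf hS hmemS hz
      refine K.free_Q F hn hnQ (K.trivQ_three hL hS F hnL hnQ) hiQ (by simp [hi0, hi128]) (.inl ?_)
      exact mul_inv_eq_one.1 h1
    · set z := n * φ i * n⁻¹ * (φ i)⁻¹ with hzd
      have hni : ∀ w ∈ K.sub qSub, φ i * w * (φ i)⁻¹ ∈ K.sub qSub := K.qSub_norm hi
      have hzN : z ∈ Subgroup.normalizer (K.sub qSub : Set G) :=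
        mul_mem (mul_mem (mul_mem (mem_normalizer_of_forall hnQ) (mem_normalizer_of_forall hni))
          (inv_mem (mem_normalizer_of_forall hnQ))) (inv_mem (mem_normalizer_of_forall hni))
      have hzc : ∀ w ∈ K.sub qSub, z * w = w * z := by
        intro w hw
        have h1 : z * w * z⁻¹ * w⁻¹ ∈ S :=
          K.sub_le hok (mul_mem (conj_of_mem_normalizer hzN hw) (inv_mem hw))
        have h2 : z * w * z⁻¹ * w⁻¹ ∈ K.theta := by
          rw [show z * w * z⁻¹ * w⁻¹ = z * (w * z⁻¹ * w⁻¹) by group]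
          exact mul_mem hz (K.theta_conj (K.mem_cT.2 (K.t_central (K.sub_le hok hw))) (inv_mem hz))
        exact mul_inv_eq_iff_eq_mul.1 (mul_inv_eq_one.1 (K.theta_inf hS h1 h2))
      obtain ⟨u, hu, eu⟩ := (K.mem_sub hok).1 (hnQ _ ((K.mem_sub hok).2 ⟨9, mem_dec (by decide +kernel), rfl⟩))
      have h9s := heads_ok 9 (by simp)
      have hk : ∀ i ∈ c5, conjI i 9 ∈ [9, 121] ∧
          ∀ u ∈ qSub, mH u u = 0 → eqT (conjI i u) u = true → u ∈ [9, 121] ∨ u ∈ [0, 128] ∨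
            u ∈ c25 ++ c26 ++ c107 := by
        have h : (c5.all fun i => [9, 121].contains (conjI i 9) && qSub.all fun u => mH u u != 0 ||
            !eqT (conjI i u) u || [9, 121].contains u || [0, 128].contains u ||
            (c25 ++ c26 ++ c107).contains u) = true := by decide +kernel
        simp only [List.all_eq_true, Bool.and_eq_true, Bool.or_eq_true, bne_iff_ne, List.contains_iff_mem,
          Bool.not_eq_true', ← Bool.not_eq_true] at h
        refine fun i hi => ⟨(h i hi).1, fun u hu h2 he => ?_⟩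
        rcases (h i hi).2 u hu with (((e | e) | e) | e) | e
        exacts [absurd h2 e, absurd he e, .inl e, .inr (.inl e), .inr (.inr e)]
      obtain ⟨hk9, hku⟩ := hk i hi5
      have hus := hqs u hu
      have hu2 : mH u u = 0 := (K.eq_one_iff (syl_closed u hus u hus)).1 (by
        rw [K.mul u hus u hus, eu, conj_sq, ← K.mul 9 h9s 9 h9s, sylH_sq_ok 9 (by simp), K.one]; group)
      have h121 : φ 121 = φ 9 * φ 128 := by
        rw [← K.mul 9 h9s 128 z_central.1, show mH 9 128 = 121 by decide +kernel]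
      have hnt : n * φ 128 * n⁻¹ = φ 128 := by rw [K.mem_cT.1 hn]; group
      have hfixc : eqT (conjI i u) u = true := by
        refine (K.eqT_iff (syl_closed _ (syl_closed i hi u hus) _ (invI_spec hi).1) hus).2 ?_
        set v := conjI i 9 with hv
        have hvv : φ i * φ 9 * (φ i)⁻¹ = φ v := (K.conjI_eq h9s hi).symm
        have e1 : φ (conjI i u) = z⁻¹ * (n * φ v * n⁻¹) * z := by
          rw [K.conjI_eq hus hi, eu, ← hvv, hzd]; group
        obtain ⟨v', hv', ev'⟩ := (K.mem_sub hok).1 (hnQ (φ v) ((K.mem_sub hok).2 ⟨v, by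
          simp only [List.mem_cons, List.not_mem_nil, or_false] at hk9
          rcases hk9 with h | h <;> rw [h] <;> exact mem_dec (by decide +kernel), rfl⟩))
        have e2 : φ (conjI i u) = φ v' := by
          rw [e1, ← ev', mul_assoc, ← hzc _ ((K.mem_sub hok).2 ⟨v', hv', rfl⟩), inv_mul_cancel_left]
        show φ (conjI i u) = φ u ∨ φ (conjI i u) = φ u * φ 128
        rw [e2, ev']
        simp only [List.mem_cons, List.not_mem_nil, or_false] at hk9
        rcases hk9 with h | h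
        · exact .inl (by rw [h, eu])
        · refine .inr ?_
          rw [h, h121, eu, show n * (φ 9 * φ 128) * n⁻¹ = n * φ 9 * n⁻¹ * (n * φ 128 * n⁻¹) by group, hnt]
      rcases hku u hu hu2 hfixc with h | h | h
      · refine K.free_Q F hn hnQ (K.trivQ_three hL hS F hnL hnQ) (i := 9) (mem_dec (by decide +kernel))
          (by simp) ?_
        rw [← eu]
        simp only [List.mem_cons, List.not_mem_nil, or_false] at h
        rcases h with rfl | rfl
        · exact .inl rfl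
        · exact .inr h121
      · simp only [List.mem_cons, List.not_mem_nil, or_false] at h
        rcases h with rfl | rfl
        · rw [K.one, eq_comm, conj_eq_one_iff] at eu
          exact absurd ((K.eq_one_iff h9s).1 eu) (by norm_num)
        · exact absurd ((K.eq_iff h9s z_central.1).1 (mul_left_cancel (mul_right_cancel (eu.symm.trans hnt.symm))))
            (by norm_num)
      · refine absurd (F.nine.trans (isConj_iff.2 ⟨n, eu.symm⟩ : IsConj (φ 9) (φ u))) fun hh => F.z (hh.trans ?_)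
        rcases List.mem_append.1 h with h | h
        · rcases List.mem_append.1 h with h | h
          · exact (K.isConj_class (c := (25, c25)) (by simp [classesL]) h).symm
          · exact (F.z26.trans (K.isConj_class (c := (26, c26)) (by simp [classesL]) h)).symm
        · exact (F.z107.trans (K.isConj_class (c := (107, c107)) (by simp [classesL]) h)).symm
  obtain ⟨o', ho', w, hw, e'⟩ := (K.cent_fac hS F).triv hL n hnL hnQ htriv
  subst e'
  have hwc : w ∈ K.cT := K.mem_cT.2 (K.t_central (K.sub_le hok hw))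
  have hpow := K.theta_qsub_pow (mul_mem hoθ ho') hwc (orderOf y)
  rw [show o * o' * w = y by rw [e]; group, pow_orderOf_eq_one, one_mul] at hpow
  have hwN := K.theta_inf hS (pow_mem (K.sub_le hok hw) _) (inv_mem_iff.1 hpow)
  obtain ⟨j, hj⟩ := hS.two ⟨w, K.sub_le hok hw⟩
  have hwj : w ^ 2 ^ j = 1 := congrArg Subtype.val hj
  have hw1 : w = 1 := orderOf_eq_one_iff.1 (Nat.eq_one_of_dvd_coprimes
    (((Nat.prime_two.coprime_iff_not_dvd).2 hyo).pow_left j)
    (orderOf_dvd_of_pow_eq_one hwj) (orderOf_dvd_of_pow_eq_one hwN))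
  rw [e, hw1, mul_one]
  exact mul_mem hoθ ho'

/-- The centraliser of the central involution is solvable. -/
theorem cT_solvable [Finite G] (hS : SylIn ⊤ S) (F : Fus φ) : Group.IsSolvable K.cT := by
  haveI := Fact.mk Nat.prime_two
  obtain ⟨L, hL⟩ := K.exists_L hS
  obtain ⟨g, hg, hgQ, ha⟩ := K.exists_actS hS F hL
  obtain ⟨hok, hqs, hgs, h128⟩ := qSub_mem
  have hcyc : ∀ z : G, Group.IsSolvable (Subgroup.zpowers z) := fun z =>
    Group.isSolvable_of_comm fun u v => mul_comm' u v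
  have h1 : Group.IsSolvable K.theta :=
    OddOrder.odd_order_solvable (Nat.odd_iff.2 (Nat.two_dvd_ne_zero.1 K.theta_odd))
  have h2 : Group.IsSolvable (K.sub qSub) := by
    haveI := (hS.two.to_le (K.sub_le hok)).isNilpotent
    infer_instance
  have hθn : ∀ x ∈ K.cT, x ∈ Subgroup.normalizer (K.theta : Set G) := fun x hx =>
    Signalizer.centralizerPPrimeCore_normalized (φ 128) hx
  have hQc : K.sub qSub ≤ K.cT := fun x hx => K.mem_cT.2 (K.t_central (K.sub_le hok hx))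
  have h5 : φ 5 ∈ K.cT := K.mem_cT.2 (K.t_central (K.mem 5 (heads_ok 5 (by simp))))
  have s1 := Coprime.isSolvable_sup_of_le_normalizer h1 h2 fun x hx => hθn x (hQc hx)
  set T := K.theta ⊔ K.sub qSub
  have hTn : ∀ x ∈ K.cT, (∀ y ∈ K.sub qSub, x * y * x⁻¹ ∈ K.sub qSub) →
      x ∈ Subgroup.normalizer (T : Set G) := by
    intro x hx hxQ
    refine mem_normalizer_of_forall fun y hy => ?_
    have : T.map (MulAut.conj x).toMonoidHom ≤ T := by
      rw [Subgroup.map_sup]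
      refine sup_le ?_ ?_
      · rintro _ ⟨u, hu, rfl⟩; exact Subgroup.mem_sup_left (K.theta_conj hx hu)
      · rintro _ ⟨u, hu, rfl⟩; exact Subgroup.mem_sup_right (hxQ u hu)
    exact this ⟨y, hy, rfl⟩
  have s2 := Coprime.isSolvable_sup_of_le_normalizer s1 (hcyc g)
    (Subgroup.zpowers_le.2 (hTn g (hL.le hg) hgQ))
  have hLe : L ≤ T ⊔ Subgroup.zpowers g := by
    intro x hx
    obtain ⟨o, ho, q, hq, e, -, h | h⟩ := K.cT_factor hS F hL hg hgQ ha (hL.le hx)
    · rw [h]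
      exact mul_mem (Subgroup.mem_sup_left (mul_mem (Subgroup.mem_sup_left ho)
        (Subgroup.mem_sup_right ((K.mem_sub hok).2 ⟨q, hq, rfl⟩))))
        (Subgroup.mem_sup_right (Subgroup.npow_mem_zpowers g e))
    · exfalso
      have hoqg : o * φ q * g ^ e ∈ L := mul_mem (mul_mem (hL.theta_le K ho)
        ((hL.sylIn K hS).le ((K.mem_sub hok).2 ⟨q, hq, rfl⟩))) (pow_mem hg e)
      have h5L : φ 5 ∈ L := by
        have := mul_mem (inv_mem hoqg) hx
        rwa [h, inv_mul_cancel_left] at this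
      obtain ⟨j, hj, ej⟩ := (K.mem_sub hok).1 ((hL.inter _ (K.mem 5 (heads_ok 5 (by simp)))).1 h5L)
      exact five_notin (K.inj j (hqs j hj) 5 (heads_ok 5 (by simp)) ej ▸ hj)
  have sL := Coprime.isSolvable_of_le hLe s2
  have s3 := Coprime.isSolvable_sup_of_le_normalizer sL (hcyc (φ 5))
    (Subgroup.zpowers_le.2 (mem_normalizer_of_forall fun y hy => hL.conj _ h5 y hy))
  refine Coprime.isSolvable_of_le (fun x hx => ?_) s3
  rcases hL.cover x hx with h | h
  · exact Subgroup.mem_sup_left h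
  · have := mul_mem (Subgroup.mem_sup_left (T := Subgroup.zpowers (φ 5)) h)
      (inv_mem (Subgroup.mem_sup_right (Subgroup.mem_zpowers (φ 5))))
    rwa [mul_inv_cancel_right] at this

end PHyp

end CfsgLib.M12Syl
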