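import Cfsg.Agent.Lib.M12Syl.Fusion

/-!
The two classes of involutions.
-/

set_option autoImplicit false
set_option linter.style.haveILetI false
set_option linter.unusedSectionVars false

namespace CfsgLib.M12Syl

open CfsgLib.M12Recog

/-- the fusion pattern of the involutions -/
structure Fus {G : Type*} [Group G] (φ : ℕ → G) : Prop where
  nine : IsConj (φ 128) (φ 9)
  three : IsConj (φ 128) (φ 3)
  z : ¬ IsConj (φ 128) (φ 25)
  z26 : IsConj (φ 25) (φ 26)
  z107 : IsConj (φ 25) (φ 107)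
  cover : ∀ x : G, orderOf x = 2 → IsConj (φ 128) x ∨ IsConj (φ 25) x

theorem heads_ok : ∀ i ∈ [0, 3, 5, 9, 25, 26, 107, 121, 128], i ∈ sylH := by
  have h : ([0, 3, 5, 9, 25, 26, 107, 121, 128].all fun i => sylH.contains i) = true := by decide +kernel
  simp only [List.all_eq_true, List.contains_iff_mem] at h
  exact h

theorem sylH_sq_ok : ∀ i ∈ [3, 5, 9, 25, 26, 107, 121, 128], mH i i = 0 := by
  have h : ([3, 5, 9, 25, 26, 107, 121, 128].all fun i => mH i i == 0) = true := by decide +kernel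
  simp only [List.all_eq_true, beq_iff_eq] at h
  exact h

theorem maxes_ok : ∀ l ∈ [kSub, qSub, m1Sub, m4Sub, m6Sub],
    lOK l = true ∧ l.Nodup ∧ l.length = 32 := by
  simp only [List.forall_mem_cons]
  refine ⟨⟨?_, ?_, ?_⟩, ⟨?_, ?_, ?_⟩, ⟨?_, ?_, ?_⟩, ⟨?_, ?_, ?_⟩, ⟨?_, ?_, ?_⟩, by simp⟩ <;>
    decide +kernel

theorem invol_in (l : List ℕ) (ok : List ℕ)
    (h : (l.all fun i => mH i i != 0 || i == 0 || ok.contains i) = true) :
    ∀ i ∈ l, mH i i = 0 → i ≠ 0 → i ∈ ok := by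
  simp only [List.all_eq_true, Bool.or_eq_true, bne_iff_ne, beq_iff_eq, List.contains_iff_mem] at h
  intro i hi h2 h0
  rcases h i hi with (e | e) | e
  exacts [absurd h2 e, absurd e h0, e]

namespace PHyp

variable {G : Type*} [Group G] {φ : ℕ → G} {S : Subgroup G} (K : PHyp φ S)
include K

theorem exists_idx [Finite G] (hS : SylIn ⊤ S) {x : G} (hx : orderOf x = 2) :
    ∃ i ∈ sylH, IsConj x (φ i) ∧ mH i i = 0 ∧ i ≠ 0 := by
  obtain ⟨d, -, hd⟩ := hS.absorb (Subgroup.zpowers x) le_top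
    (IsPGroup.of_card (n := 1) (by rw [Nat.card_zpowers, hx]; rfl))
  have hc : IsConj x (d * x * d⁻¹) := isConj_iff.2 ⟨d, rfl⟩
  obtain ⟨i, hi, e, h⟩ := K.idx_invol (orderOf_of_isConj hx hc) (hd x (Subgroup.mem_zpowers x))
  exact ⟨i, hi, e ▸ hc, h⟩

/-- Each class of involutions meets each maximal subgroup of `S`. -/
theorem meet [Finite G] [IsSimpleGroup G] (hna : ¬ IsMulCommutative G) (P : Sylow 2 G)
    (hP : (P : Subgroup G) = S) {l : List ℕ} (hl : l ∈ [kSub, qSub, m1Sub, m4Sub, m6Sub]) {x : G}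
    (hx : orderOf x = 2) : ∃ i ∈ l, IsConj x (φ i) ∧ mH i i = 0 ∧ i ≠ 0 := by
  obtain ⟨hok, hnd, hlen⟩ := maxes_ok l hl
  obtain ⟨j, hj, hxj, hj2, hj0⟩ := K.exists_idx (hP ▸ sylIn_top P) hx
  by_cases hjl : j ∈ l
  · exact ⟨j, hjl, hxj, hj2, hj0⟩
  have hle : K.sub l ≤ S := K.sub_le hok
  have hrel : (K.sub l).relIndex (P : Subgroup G) = 2 := by
    rw [hP]
    have h := Subgroup.card_mul_index ((K.sub l).subgroupOf S)
    rw [Nat.card_congr (Subgroup.subgroupOfEquivOfLe hle).toEquiv, K.card_sub hok hnd, hlen,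
      K.card_eq] at h
    rw [Subgroup.relIndex]
    omega
  have hu : φ j * φ j = 1 := by rw [← K.mul j hj j hj, hj2, K.one]
  rcases Transfer.thompson_transfer P hrel hu (hP ▸ K.mem j hj) (fun h => hjl (by
      obtain ⟨i, hi, e⟩ := (K.mem_sub hok).1 h
      have his : i ∈ sylH := by
        simp only [lOK, Bool.and_eq_true, List.all_eq_true, List.contains_iff_mem] at hok
        exact (hok.2 i hi).1.1
      rwa [K.inj i his j hj e] at hi)) with ⟨M, hMn, h2, -⟩ | ⟨g, -, hg⟩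
  · exact (no_index_two hna M hMn h2).elim
  obtain ⟨i, hi, e⟩ := (K.mem_sub hok).1 hg
  have hc : IsConj x (φ i) := hxj.trans (isConj_iff.2 ⟨g, e.symm⟩)
  obtain ⟨i', hi', e', h2', h0'⟩ := K.idx_invol (orderOf_of_isConj hx hc) (hle (e ▸ hg))
  have his : i ∈ sylH := by
    simp only [lOK, Bool.and_eq_true, List.all_eq_true, List.contains_iff_mem] at hok
    exact (hok.2 i hi).1.1
  obtain rfl := K.inj i' hi' i his e'
  exact ⟨i', hi, hc, h2', h0'⟩

/-- An element exchanging `φ 9` and `φ 128` and fixing their joint centraliser in `S`. -/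
theorem exists_swap [Finite G] (hS : SylIn ⊤ S) (h9 : IsConj (φ 128) (φ 9)) :
    ∃ g : G, g * φ 9 * g⁻¹ = φ 128 ∧ g * φ 128 * g⁻¹ = φ 9 ∧
      ∀ i ∈ kSub, ∃ j ∈ kSub, φ j = g * φ i * g⁻¹ := by
  have hk : (∀ i ∈ centL 9, i ∈ kSub) ∧ (∀ i ∈ kSub, i ∈ centL 9) := by
    have h : ((centL 9).all (fun i => kSub.contains i) && kSub.all fun i => (centL 9).contains i)
        = true := by decide +kernel
    simp only [Bool.and_eq_true, List.all_eq_true, List.contains_iff_mem] at h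
    exact h
  have h9s : (9 : ℕ) ∈ sylH := heads_ok 9 (by simp)
  have h128 := z_central.1
  obtain ⟨g₀, hg₀, hgS⟩ := K.exists_to_t hS h9s h9
  have hsq : ∃ k ∈ kSub, mH k k = 128 := by
    have h : (kSub.any fun k => mH k k == 128) = true := by decide +kernel
    simpa using h
  obtain ⟨k, hk1, hk2⟩ := hsq
  obtain ⟨hks, -⟩ := mem_centL.1 (hk.2 k hk1)
  obtain ⟨m, hm, em⟩ := K.surj _ (hgS k (hk.2 k hk1))
  have hy : φ (mH m m) = g₀ * φ 128 * g₀⁻¹ := by
    rw [K.mul m hm m hm, em, ← hk2, K.mul k hks k hks]; group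
  have hsq' : ∀ j ∈ sylH, mH j j = 0 ∨ mH j j = 128 ∨ mH j j ∈ [9, 121] ∨
      mH (mH j j) (mH j j) ≠ 0 := by
    have h : (sylH.all fun j => mH j j == 0 || mH j j == 128 || [9, 121].contains (mH j j) ||
      mH (mH j j) (mH j j) != 0) = true := by decide +kernel
    simp only [List.all_eq_true, Bool.or_eq_true, beq_iff_eq, List.contains_iff_mem, bne_iff_ne] at h
    intro j hj
    rcases h j hj with ((e | e) | e) | e
    exacts [.inl e, .inr (.inl e), .inr (.inr (.inl e)), .inr (.inr (.inr e))]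
  have ho := orderOf_of_isConj K.t_order (isConj_iff.2 ⟨g₀, hy.symm⟩)
  have hmm := syl_closed m hm m hm
  have hy9 : mH m m ∈ [9, 121] := by
    rcases hsq' m hm with e | e | e | e
    · rw [e, K.one, orderOf_one] at ho; omega
    · rw [e] at hy
      have : φ 9 = φ 128 := mul_left_cancel (mul_right_cancel (hg₀.trans hy))
      exact absurd ((K.eq_iff h9s h128).1 this) (by norm_num)
    · exact e
    · exact absurd ((K.eq_one_iff (syl_closed _ hmm _ hmm)).1 (by
        rw [K.mul _ hmm _ hmm, ← pow_two, ← ho, pow_orderOf_eq_one])) e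
  obtain ⟨-, hcl⟩ := classesL_ok.1 (9, [9, 121]) (by simp [classesL])
  obtain ⟨p, hp, ep⟩ := hcl _ hy9
  set g := (φ p)⁻¹ * g₀ with hg
  have g1 : g * φ 9 * g⁻¹ = φ 128 := by
    rw [hg, show (φ p)⁻¹ * g₀ * φ 9 * ((φ p)⁻¹ * g₀)⁻¹ = (φ p)⁻¹ * (g₀ * φ 9 * g₀⁻¹) * φ p by group,
      hg₀, mul_assoc, ← K.t_central (K.mem p hp)]
    group
  have g2 : g * φ 128 * g⁻¹ = φ 9 := by
    rw [hg, show (φ p)⁻¹ * g₀ * φ 128 * ((φ p)⁻¹ * g₀)⁻¹ = (φ p)⁻¹ * (g₀ * φ 128 * g₀⁻¹) * φ p by group,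
      ← hy, ← ep, K.conj_eq h9s hp]
    group
  refine ⟨g, g1, g2, fun i hi => ?_⟩
  have hic := hk.2 i hi
  obtain ⟨his, -⟩ := mem_centL.1 hic
  have hmem : g * φ i * g⁻¹ ∈ S := by
    rw [hg, show (φ p)⁻¹ * g₀ * φ i * ((φ p)⁻¹ * g₀)⁻¹ = (φ p)⁻¹ * (g₀ * φ i * g₀⁻¹) * φ p by group]
    exact mul_mem (mul_mem (inv_mem (K.mem p hp)) (hgS i hic)) (K.mem p hp)
  obtain ⟨j, hj, ej⟩ := K.surj _ hmem
  refine ⟨j, hk.1 j (mem_centL.2 ⟨hj, (K.comm_iff hj h9s).1 ?_⟩), ej⟩
  rw [ej, ← g2]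
  exact conj_comm (K.t_central (K.mem i his))

/-- An element exchanging `φ 9` and `φ 128` moves the class of `φ 5` partly out of itself. -/
theorem five_move {g : G} (g2 : g * φ 128 * g⁻¹ = φ 9)
    (hK : ∀ i ∈ kSub, ∃ j ∈ kSub, φ j = g * φ i * g⁻¹) :
    ∃ i ∈ c5, ∃ z ∈ c3 ++ c107, φ z = g * φ i * g⁻¹ := by
  have f : 5 ∈ kSub ∧ 100 ∈ kSub ∧ 5 ∈ c5 ∧ 100 ∈ c5 ∧ 5 ∈ sylH ∧ 100 ∈ sylH ∧
      mH (mH 5 100) (mH 5 100) = 128 ∧ mH 5 5 = 0 ∧ mH 100 100 = 0 :=
    ⟨mem_dec (by decide +kernel), mem_dec (by decide +kernel), mem_dec (by decide +kernel),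
      mem_dec (by decide +kernel), mem_dec (by decide +kernel), mem_dec (by decide +kernel),
      by decide +kernel, by decide +kernel, by decide +kernel⟩
  obtain ⟨a1, a2, a3, a4, a5, a6, hc, b5, b100⟩ := f
  have hcases : ∀ x ∈ kSub, mH x x = 0 → ∀ y ∈ kSub, mH y y = 0 → x ∈ c3 ++ c107 ∨
      y ∈ c3 ++ c107 ∨ mH (mH x y) (mH x y) ≠ 9 := by
    have h : (kSub.all fun x => mH x x != 0 || kSub.all fun y => mH y y != 0 ||
        (c3 ++ c107).contains x || (c3 ++ c107).contains y || mH (mH x y) (mH x y) != 9) = true := by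
      decide +kernel
    simp only [List.all_eq_true, Bool.or_eq_true, bne_iff_ne, List.contains_iff_mem] at h
    intro x hx hx2 y hy hy2
    rcases (h x hx).resolve_left (fun e => e hx2) y hy with ((e | e) | e) | e
    exacts [absurd hy2 e, .inl e, .inr (.inl e), .inr (.inr e)]
  have hsub : ∀ i ∈ kSub, i ∈ sylH := by
    have h : (kSub.all fun i => sylH.contains i) = true := by decide +kernel
    simp only [List.all_eq_true, List.contains_iff_mem] at h
    exact h
  obtain ⟨x, hx, ex⟩ := hK 5 a1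
  obtain ⟨y, hy, ey⟩ := hK 100 a2
  have hxs := hsub x hx
  have hys := hsub y hy
  have sq0 : ∀ {z i : ℕ}, z ∈ sylH → i ∈ sylH → mH i i = 0 → φ z = g * φ i * g⁻¹ → mH z z = 0 := by
    intro z i hz hi hi2 e
    refine (K.eq_one_iff (syl_closed z hz z hz)).1 ?_
    rw [K.mul z hz z hz, e, conj_sq, ← K.mul i hi i hi, hi2, K.one]; group
  have hxy : φ (mH (mH x y) (mH x y)) = φ 9 := by
    rw [K.mul _ (syl_closed x hxs y hys) _ (syl_closed x hxs y hys), K.mul x hxs y hys, ex, ey,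
      ← g2, ← hc, K.mul _ (syl_closed 5 a5 100 a6) _ (syl_closed 5 a5 100 a6), K.mul 5 a5 100 a6]
    group
  rcases hcases x hx (sq0 hxs a5 b5 ex) y hy (sq0 hys a6 b100 ey) with h | h | h
  · exact ⟨5, a3, x, h, ex⟩
  · exact ⟨100, a4, y, h, ey⟩
  · exact absurd ((K.eq_iff (syl_closed _ (syl_closed x hxs y hys) _ (syl_closed x hxs y hys))
      (heads_ok 9 (by simp))).1 hxy) h

/-- `φ 5` is conjugate to `φ 3` or to `φ 107`. -/
theorem five_conj [Finite G] (hS : SylIn ⊤ S) (h9 : IsConj (φ 128) (φ 9)) :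
    IsConj (φ 5) (φ 3) ∨ IsConj (φ 5) (φ 107) := by
  obtain ⟨g, g1, g2, hK⟩ := K.exists_swap hS h9
  obtain ⟨i, hi, z, hz, e⟩ := K.five_move g2 hK
  have h5i : IsConj (φ 5) (φ z) := (K.isConj_class (c := (5, c5)) (by simp [classesL]) hi).trans
    (isConj_iff.2 ⟨g, e.symm⟩)
  rcases List.mem_append.1 hz with h | h
  · exact .inl (h5i.trans (K.isConj_class (c := (3, c3)) (by simp [classesL]) h).symm)
  · exact .inr (h5i.trans (K.isConj_class (c := (107, c107)) (by simp [classesL]) h).symm)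

/-- Conjugates in `S` with many involutions of the other classes in their centralisers. -/
theorem not_all [Finite G] (hS : SylIn ⊤ S) (hcov : ∀ i ∈ sylH, mH i i = 0 → i ≠ 0 →
      (i ∈ [9, 121, 128] ∧ IsConj (φ 128) (φ i)) ∨ (i ∉ [9, 121, 128] ∧ IsConj (φ 25) (φ i)))
    (hz : ¬ IsConj (φ 128) (φ 25)) : False := by
  obtain ⟨w, hwS, d, -, hd, hext⟩ := hS.extremal (x := φ 25) (Subgroup.mem_top _)
    (IsPGroup.of_card (n := 1) (by
      rw [Nat.card_zpowers, K.orderOf_two (heads_ok 25 (by simp)) (sylH_sq_ok 25 (by simp))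
        (by norm_num)]
      rfl))
  have hcw : IsConj (φ 25) w := isConj_iff.2 ⟨d, hd⟩
  obtain ⟨i, hi, ei, hi2, hi0⟩ := K.idx_invol (orderOf_of_isConj (K.orderOf_two (heads_ok 25 (by simp))
    (sylH_sq_ok 25 (by simp)) (by norm_num)) hcw) hwS
  have hiX : i ∉ [9, 121, 128] := fun h => by
    rcases hcov i hi hi2 hi0 with ⟨-, h'⟩ | ⟨h', -⟩
    · exact hz (h'.trans (ei ▸ hcw).symm)
    · exact h' h
  let cnt : ℕ → Bool → List ℕ := fun u b => (centL u).filter fun j =>
    mH j j == 0 && j != 0 && ([9, 121, 128].contains j == b)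
  have hbound : ∀ u ∈ [3, 25], ∀ b, (cnt u b).length ≤ (cnt i b).length := by
    intro u hu b
    have hus : u ∈ sylH ∧ mH u u = 0 ∧ u ≠ 0 ∧ u ∉ [9, 121, 128] := by
      simp only [List.mem_cons, List.not_mem_nil, or_false] at hu
      rcases hu with rfl | rfl <;>
        exact ⟨heads_ok _ (by simp), sylH_sq_ok _ (by simp), by norm_num, by simp⟩
    obtain ⟨hus, hu2, hu0, huX⟩ := hus
    have hcu : IsConj (φ 25) (φ u) := by
      rcases hcov u hus hu2 hu0 with ⟨h, -⟩ | ⟨-, h⟩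
      exacts [absurd h huX, h]
    obtain ⟨c, hc⟩ := isConj_iff.1 (hcu.symm.trans hcw)
    obtain ⟨g, -, hg, hgY⟩ := hext (φ u) (Subgroup.mem_top _) ⟨c, Subgroup.mem_top c, hc⟩
      (K.centS u) le_top (hS.two.to_le inf_le_left)
      (fun y hy => Subgroup.mem_centralizer_singleton_iff.1 (Subgroup.mem_inf.1 hy).2)
    have himg : ∀ j ∈ cnt u b, ∃ k ∈ cnt i b, φ k = g * φ j * g⁻¹ := by
      intro j hj
      simp only [cnt, List.mem_filter, Bool.and_eq_true, beq_iff_eq, bne_iff_ne] at hj ⊢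
      obtain ⟨hjc, ⟨hj2, hj0⟩, hjb⟩ := hj
      obtain ⟨hjs, hju⟩ := mem_centL.1 hjc
      obtain ⟨k, hk, ek, hk2, hk0⟩ := K.idx_conj_invol hjs hj2 hj0
        (hgY _ ((K.mem_centS hus).2 ⟨j, hjc, rfl⟩))
      refine ⟨k, ⟨mem_centL.2 ⟨hk, (K.comm_iff hk hi).1 ?_⟩, ⟨hk2, hk0⟩, ?_⟩, ek⟩
      · rw [ek, ei, ← hg]
        exact conj_comm ((K.comm_iff hjs hus).2 hju)
      · rw [← hjb]
        have hjk : IsConj (φ j) (φ k) := isConj_iff.2 ⟨g, ek.symm⟩
        rcases hcov j hjs hj2 hj0 with ⟨a, a'⟩ | ⟨a, a'⟩ <;>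
          rcases hcov k hk hk2 hk0 with ⟨b, b'⟩ | ⟨b, b'⟩
        · rw [List.contains_iff_mem.2 a, List.contains_iff_mem.2 b]
        · exact absurd (a'.trans (hjk.trans b'.symm)) hz
        · exact absurd (b'.trans (hjk.symm.trans a'.symm)) hz
        · rw [Bool.eq_false_iff.2 (fun e => a (List.contains_iff_mem.1 e)),
            Bool.eq_false_iff.2 (fun e => b (List.contains_iff_mem.1 e))]
    choose! F hF hF' using himg
    have hnd : (cnt u b).Nodup := (((show sylH.Nodup by decide +kernel)).filter _).filter _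
    have hsub : ((cnt u b).map F).Subperm (cnt i b) := by
      refine List.Nodup.subperm (hnd.map_on fun x hx y hy e => ?_) ?_
      · have hxs := (mem_centL.1 (List.mem_filter.1 hx).1).1
        have hys := (mem_centL.1 (List.mem_filter.1 hy).1).1
        have e' : g * φ x * g⁻¹ = g * φ y * g⁻¹ := by rw [← hF' x hx, ← hF' y hy, e]
        exact K.inj x hxs y hys (mul_left_cancel (mul_right_cancel e'))
      · intro k hk
        obtain ⟨j, hj, rfl⟩ := List.mem_map.1 hk
        exact hF j hj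
    simpa using hsub.length_le
  have hfin : ∀ w ∈ sylH, mH w w = 0 → w ≠ 0 → w ∈ [9, 121, 128] ∨
      (cnt w true).length < (cnt 3 true).length ∨ (cnt w false).length < (cnt 25 false).length := by
    have h : (sylH.all fun w => mH w w != 0 || w == 0 || [9, 121, 128].contains w ||
        Nat.blt (cnt w true).length (cnt 3 true).length ||
        Nat.blt (cnt w false).length (cnt 25 false).length) = true := by
      simp only [cnt, centL]
      decide +kernel
    simp only [List.all_eq_true, Bool.or_eq_true, bne_iff_ne, beq_iff_eq, List.contains_iff_mem,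
      Nat.blt_eq] at h
    intro w hw h2 h0
    rcases h w hw with (((e | e) | e) | e) | e
    exacts [absurd h2 e, absurd e h0, .inl e, .inr (.inl e), .inr (.inr e)]
  rcases hfin i hi hi2 hi0 with h | h | h
  · exact hiX h
  · exact absurd (hbound 3 (by simp) true) (not_le.2 h)
  · exact absurd (hbound 25 (by simp) false) (not_le.2 h)

/-- After renaming the elements of `S`, the fusion pattern is as in M12. -/
theorem exists_fus [Finite G] [IsSimpleGroup G] (hna : ¬ IsMulCommutative G) (P : Sylow 2 G)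
    (hP : (P : Subgroup G) = S)
    (htwo : ∃ a b : G, orderOf a = 2 ∧ orderOf b = 2 ∧ ¬ IsConj a b) :
    ∃ ψ : ℕ → G, PHyp ψ S ∧ Fus ψ := by
  have hS : SylIn ⊤ S := hP ▸ sylIn_top P
  have h9 := K.nine_conj hna P hP
  have hc : ∀ {r : ℕ} {l : List ℕ} {i : ℕ}, (r, l) ∈ classesL → i ∈ l → IsConj (φ r) (φ i) :=
    fun h hi => K.isConj_class h hi
  have hother : ∀ x : G, orderOf x = 2 → ¬ IsConj (φ 128) x → IsConj (φ 25) x ∧ IsConj (φ 26) x := by
    intro x hx hxt
    have hok4 := invol_in m4Sub ([9, 121, 128] ++ c26) (by decide +kernel)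
    have hok6 := invol_in m6Sub ([9, 121, 128] ++ c25) (by decide +kernel)
    have hbad : ∀ i ∈ [9, 121, 128], ¬ IsConj x (φ i) := by
      intro i hi h
      simp only [List.mem_cons, List.not_mem_nil, or_false] at hi
      rcases hi with rfl | rfl | rfl
      · exact hxt (h9.trans h.symm)
      · exact hxt (h9.trans ((hc (r := 9) (l := [9, 121]) (by simp [classesL]) (by simp)).trans h.symm))
      · exact hxt h.symm
    obtain ⟨i, hi, hxi, hi2, hi0⟩ := K.meet hna P hP (l := m4Sub) (by simp) hx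
    obtain ⟨j, hj, hxj, hj2, hj0⟩ := K.meet hna P hP (l := m6Sub) (by simp) hx
    refine ⟨?_, ?_⟩
    · rcases List.mem_append.1 (hok6 j hj hj2 hj0) with h | h
      · exact absurd hxj (hbad j h)
      · exact (hc (r := 25) (l := c25) (by simp [classesL]) h).trans hxj.symm
    · rcases List.mem_append.1 (hok4 i hi hi2 hi0) with h | h
      · exact absurd hxi (hbad i h)
      · exact (hc (r := 26) (l := c26) (by simp [classesL]) h).trans hxi.symm
  obtain ⟨x, hx, hxt⟩ : ∃ x : G, orderOf x = 2 ∧ ¬ IsConj (φ 128) x := by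
    obtain ⟨a, b, ha, hb, hab⟩ := htwo
    by_cases h : IsConj (φ 128) a
    · exact ⟨b, hb, fun h' => hab (h.symm.trans h')⟩
    · exact ⟨a, ha, h⟩
  obtain ⟨hx25, hx26⟩ := hother x hx hxt
  have hz : ¬ IsConj (φ 128) (φ 25) := fun h => hxt (h.trans hx25)
  have h2526 : IsConj (φ 25) (φ 26) := hx25.trans hx26.symm
  have cov : ∀ y : G, orderOf y = 2 → IsConj (φ 128) y ∨ IsConj (φ 25) y := fun y hy =>
    or_iff_not_imp_left.2 fun h => (hother y hy h).1
  have cov' : ∀ i ∈ [3, 5, 107], IsConj (φ 128) (φ i) ∨ IsConj (φ 25) (φ i) := by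
    intro i hi
    simp only [List.mem_cons, List.not_mem_nil, or_false] at hi
    refine cov _ (K.orderOf_two ?_ ?_ ?_) <;> rcases hi with rfl | rfl | rfl <;>
      first
      | exact heads_ok _ (by simp)
      | exact sylH_sq_ok _ (by simp)
      | norm_num
  have hmeet : ¬ (IsConj (φ 128) (φ 3) ∧ IsConj (φ 128) (φ 107)) := by
    rintro ⟨h3, h107⟩
    obtain ⟨i, hi, hxi, hi2, hi0⟩ := K.meet hna P hP (l := m1Sub) (by simp) hx
    have hok := invol_in m1Sub ([9, 121, 128] ++ c3 ++ c107) (by decide +kernel) i hi hi2 hi0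
    refine hxt (IsConj.trans ?_ hxi.symm)
    simp only [List.mem_append, List.mem_cons, List.not_mem_nil, or_false] at hok
    rcases hok with ((rfl | rfl | rfl) | h) | h
    · exact h9
    · exact h9.trans (hc (r := 9) (l := [9, 121]) (by simp [classesL]) (by simp))
    · exact IsConj.refl _
    · exact h3.trans (hc (r := 3) (l := c3) (by simp [classesL]) h)
    · exact h107.trans (hc (r := 107) (l := c107) (by simp [classesL]) h)
  have hall : ¬ (IsConj (φ 25) (φ 3) ∧ IsConj (φ 25) (φ 5) ∧ IsConj (φ 25) (φ 107)) := by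
    rintro ⟨h3, h5, h107⟩
    refine K.not_all hS (fun i hi h2 h0 => ?_) hz
    obtain ⟨c, hcm, hic, hci⟩ := K.head_of hi h2 h0
    simp only [classesL, List.mem_cons, List.not_mem_nil, or_false] at hcm
    have hn : ∀ l ∈ [c3, c5, c25, c26, c107], ∀ k ∈ l, k ∉ [9, 121, 128] := by decide +kernel
    rcases hcm with rfl | rfl | rfl | rfl | rfl | rfl | rfl
    · simp only [List.mem_singleton] at hic
      subst hic
      exact .inl ⟨by simp, IsConj.refl _⟩
    · refine .inl ⟨?_, h9.trans hci⟩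
      simp only [List.mem_cons, List.not_mem_nil, or_false] at hic ⊢
      tauto
    · exact .inr ⟨hn c3 (by simp) i hic, h3.trans hci⟩
    · exact .inr ⟨hn c5 (by simp) i hic, h5.trans hci⟩
    · exact .inr ⟨hn c25 (by simp) i hic, hci⟩
    · exact .inr ⟨hn c26 (by simp) i hic, h2526.trans hci⟩
    · exact .inr ⟨hn c107 (by simp) i hic, h107.trans hci⟩
  have hs : sig 128 = 128 ∧ sig 9 = 9 ∧ sig 3 = 107 ∧ sig 25 ∈ c25 ∧ sig 26 ∈ c26 ∧ sig 107 = 3 := by
    decide +kernel
  obtain ⟨s1, s2, s3, s4, s5, s6⟩ := hs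
  have s25 := hc (r := 25) (l := c25) (by simp [classesL]) s4
  have s26 := hc (r := 26) (l := c26) (by simp [classesL]) s5
  rcases cov' 3 (by simp) with h3 | h3
  · refine ⟨φ, K, h9, h3, hz, h2526, (cov' 107 (by simp)).resolve_left fun h => hmeet ⟨h3, h⟩, cov⟩
  rcases cov' 107 (by simp) with h107 | h107
  · refine ⟨φ ∘ sig, K.twist, ?_, ?_, ?_, ?_, ?_, fun y hy => ?_⟩ <;>
      simp only [Function.comp_apply, s1, s2, s3, s6]
    · exact h9
    · exact h107
    · exact fun h => hz (h.trans s25.symm)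
    · exact s25.symm.trans (h2526.trans s26)
    · exact s25.symm.trans h3
    · exact (cov y hy).imp_right s25.symm.trans
  · refine (hall ⟨h3, ?_, h107⟩).elim
    rcases K.five_conj hS h9 with h | h
    · exact h3.trans h.symm
    · exact h107.trans h.symm

end PHyp

end CfsgLib.M12Syl
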