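import Cfsg.Agent.Lib.M12Syl.XCent
import Cfsg.Agent.Lib.Invol.StronglyEmbedded

/-!
The cores of the centralisers of the involutions of the first class are trivial.
-/

set_option autoImplicit false
set_option linter.style.haveILetI false
set_option linter.unusedSectionVars false
set_option maxHeartbeats 1000000

namespace CfsgLib.M12Syl

open CfsgLib.M12Recog

theorem sq_ne_xList : ∀ i ∈ xList, ∀ k ∈ centL i, mH k k ≠ i := by
  have h : (xList.all fun i => (centL i).all fun k => mH k k != i) = true := by decide +kernel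
  simp only [List.all_eq_true, bne_iff_ne] at h
  exact h

namespace PHyp

variable {G : Type*} [Group G] {φ : ℕ → G} {S : Subgroup G} (K : PHyp φ S)
include K

theorem x_cent [Finite G] (hS : SylIn ⊤ S) (F : Fus φ) {U : Subgroup G} (D : K.MData U) {r : G}
    (hr : r ∈ Subgroup.normalizer (U : Set G)) (hc : IsConj (φ 25) r) :
    U ⊓ Subgroup.centralizer ({r} : Set G) = Cfsg.centralizerPPrimeCore 2 r := by
  haveI := Fact.mk Nat.prime_two
  obtain ⟨m, hm, i, hiX, hmr, hR⟩ := K.x_reduce hS F D hr hc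
  have h := K.x_cent_core hS F D hiX hR
  rw [← hmr, Signalizer.centralizerPPrimeCore_conj] at h
  ext x
  constructor
  · intro hx
    obtain ⟨y, hy, e⟩ := h ▸ Subgroup.mem_inf.2 (⟨conj_of_mem_normalizer hm (Subgroup.mem_inf.1 hx).1,
      Subgroup.mem_centralizer_singleton_iff.2
        (conj_comm (Subgroup.mem_centralizer_singleton_iff.1 (Subgroup.mem_inf.1 hx).2))⟩ :
      m * x * m⁻¹ ∈ U ∧ m * x * m⁻¹ ∈ Subgroup.centralizer ({m * r * m⁻¹} : Set G))
    have : y = x := mul_left_cancel (mul_right_cancel (e : m * y * m⁻¹ = m * x * m⁻¹))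
    exact this ▸ hy
  · intro hx
    have h1 := Subgroup.mem_inf.1 (h.ge ⟨x, hx, rfl⟩)
    refine Subgroup.mem_inf.2 ⟨?_, Subgroup.map_subtype_le _ hx⟩
    have := conj_of_mem_normalizer (inv_mem hm) (show m * x * m⁻¹ ∈ U from h1.1)
    rwa [show m⁻¹ * (m * x * m⁻¹) * m⁻¹⁻¹ = x by group] at this

theorem cores_bot [Finite G] [IsSimpleGroup G] (hS : SylIn ⊤ S) (F : Fus φ) {U : Subgroup G}
    (D : K.MData U) : U = ⊥ := by
  classical
  haveI := Fact.mk Nat.prime_two
  by_contra hne
  set M := Subgroup.normalizer (U : Set G) with hM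
  have hMS := D.sylIn K hS
  have hMtop : M ≠ ⊤ := fun h => by
    haveI : U.Normal := Subgroup.normalizer_eq_top_iff.1 h
    refine D.odd ?_
    rw [((Subgroup.Normal.eq_bot_or_eq_top inferInstance).resolve_left hne : U = ⊤), Subgroup.card_top,
      ← K.t_order]
    exact orderOf_dvd_natCard _
  have h128 : φ 128 ∈ M := D.cT_le (K.mem_cT.2 rfl)
  obtain ⟨s, hsM, hcs, hCM⟩ : ∃ s ∈ M, IsConj (φ 25) s ∧
      ¬ Subgroup.centralizer ({s} : Set G) ≤ M := by
    by_contra hno
    push Not at hno
    have hse : Cfsg.IsStronglyEmbedded M := by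
      refine ⟨hMtop, even_iff_two_dvd.2 (by
        rw [← K.t_order, ← Subgroup.orderOf_mk (H := M) (φ 128) h128]; exact orderOf_dvd_natCard _),
        fun g hg => ?_⟩
      by_contra h2
      obtain ⟨a, ha⟩ := exists_prime_orderOf_dvd_card' (G := ↥(M ⊓ M.map (MulAut.conj g).toMonoidHom)) 2
        (even_iff_two_dvd.1 (Nat.not_odd_iff_even.1 h2))
      rw [← Subgroup.orderOf_coe] at ha
      obtain ⟨haM, b, hb, hba⟩ := Subgroup.mem_inf.1 a.2
      have hba' : g * b * g⁻¹ = (a : G) := hba
      have hb2 : orderOf b = 2 := by rw [← ha, ← hba']; exact (MulEquiv.orderOf_eq (MulAut.conj g) b).symm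
      refine hg ?_
      rcases F.cover b hb2 with hT | hX
      · exact D.tmove hb hT (hba' ▸ haM)
      obtain ⟨m, hm, i, hiX, hmb, -⟩ := K.x_reduce hS F D hb hX
      obtain ⟨his, -, -, -⟩ := xList_spec i hiX
      have hmz : ∀ z : G, z * φ i = φ i * z → m⁻¹ * z * m * b = b * (m⁻¹ * z * m) := by
        intro z hz
        have := conj_comm (g := m⁻¹) hz
        rwa [← hmb, show m⁻¹ * (m * b * m⁻¹) * m⁻¹⁻¹ = b by group, inv_inv] at this
      refine D.tmove (v := m⁻¹ * φ 128 * m) (mul_mem (mul_mem (inv_mem hm) h128) hm)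
        (isConj_iff.2 ⟨m⁻¹, by rw [inv_inv]⟩) (hno _ haM (hX.trans (isConj_iff.2 ⟨g, hba'⟩)) ?_)
      rw [Subgroup.mem_centralizer_singleton_iff, ← hba']
      exact conj_comm (hmz _ (K.t_central (K.mem i his)).symm)
    exact F.z (Invol.strongly_isConj hse K.t_order
      (K.orderOf_two (heads_ok 25 (by simp)) (sylH_sq_ok 25 (by simp)) (by norm_num)))
  obtain ⟨m, hm, i, hiX, hms, hR⟩ := K.x_reduce hS F D hsM hcs
  obtain ⟨his, hi2, hi0, j, u, hok⟩ := xList_spec i hiX
  have X := xFacts_of hok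
  set C := Subgroup.centralizer ({φ i} : Set G) with hC
  have hCM' : ¬ C ≤ M := fun h => hCM fun x hx => by
    have hx' : m * x * m⁻¹ ∈ C := Subgroup.mem_centralizer_singleton_iff.2 (by
      rw [← hms]; exact conj_comm (Subgroup.mem_centralizer_singleton_iff.1 hx))
    have := mul_mem (mul_mem (inv_mem hm) (h hx')) hm
    rwa [show m⁻¹ * (m * x * m⁻¹) * m = x by group] at this
  have hR16 : K.centS i ≤ M := inf_le_left.trans hMS.le
  set sC : C := ⟨φ i, Subgroup.mem_centralizer_singleton_iff.2 rfl⟩ with hsC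
  set Z := Subgroup.zpowers sC with hZ
  haveI : Z.Normal := ⟨fun x hx g => by
    obtain ⟨k, rfl⟩ := Subgroup.mem_zpowers_iff.1 hx
    rw [(show Commute g (sC ^ k) from (show Commute g sC from Subtype.ext
      (Subgroup.mem_centralizer_singleton_iff.1 g.2)).zpow_right k).eq, mul_inv_cancel_right]
    exact Subgroup.zpow_mem_zpowers _ _⟩
  have hss : φ i * φ i = 1 := by rw [← K.mul i his i his, hi2, K.one]
  have hZel : ∀ {x : C}, x ∈ Z → (x : G) = 1 ∨ (x : G) = φ i := by
    intro x hx
    obtain ⟨k, rfl⟩ := Subgroup.mem_zpowers_iff.1 hx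
    rw [SubgroupClass.coe_zpow]
    rcases Int.even_or_odd k with ⟨r, rfl⟩ | ⟨r, rfl⟩
    · exact .inl (show φ i ^ (r + r) = 1 by rw [← two_mul, zpow_mul, zpow_two, hss, one_zpow])
    · exact .inr (show φ i ^ (2 * r + 1) = φ i by
        rw [zpow_add, zpow_mul, zpow_two, hss, one_zpow, one_mul, zpow_one])
  set π := QuotientGroup.mk' Z with hπ
  have hπs : Function.Surjective π := QuotientGroup.mk'_surjective _
  set H := (M.subgroupOf C).map π with hH
  have hiM : φ i ∈ M := hMS.le (K.mem i his)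
  have hmemH : ∀ k : C, π k ∈ H ↔ (k : G) ∈ M := fun k => by
    refine ⟨?_, fun h => ⟨k, h, rfl⟩⟩
    rintro ⟨a, ha, e⟩
    rw [hπ, QuotientGroup.mk'_apply, QuotientGroup.mk'_apply, QuotientGroup.eq] at e
    rcases hZel e with e' | e' <;> rw [Subgroup.coe_mul, InvMemClass.coe_inv, inv_mul_eq_iff_eq_mul] at e'
    · rw [e', mul_one]; exact ha
    · rw [e']; exact mul_mem ha hiM
  have hconj : ∀ g : G, g ∈ C → ∀ a : G, a ∈ M → a ∈ C → a ≠ 1 → a ≠ φ i → a * a = 1 →
      g⁻¹ * a * g ∈ M → g ∈ M := by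
    intro g hg a haM haC ha1 has ha2 hga
    have hsa : a * φ i = φ i * a := Subgroup.mem_centralizer_singleton_iff.1 haC
    have hga' : g⁻¹ * φ i * g = φ i := by
      rw [mul_assoc, ← Subgroup.mem_centralizer_singleton_iff.1 hg]; group
    have hasM : a * φ i ∈ M := mul_mem haM hiM
    have has2 : a * φ i * (a * φ i) = 1 := by
      rw [show a * φ i * (a * φ i) = a * (φ i * a) * φ i by group, ← hsa]
      calc a * (a * φ i) * φ i = a * a * (φ i * φ i) := by group
        _ = 1 := by rw [ha2, hss, mul_one]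
    have hasne : a * φ i ≠ 1 := fun e => has (by
      rw [← mul_one a, ← hss, ← mul_assoc, e, one_mul])
    have hgas : g⁻¹ * (a * φ i) * g ∈ M := by
      rw [show g⁻¹ * (a * φ i) * g = g⁻¹ * a * g * (g⁻¹ * φ i * g) by group, hga']
      exact mul_mem hga hiM
    have hT : ∀ r ∈ M, g⁻¹ * r * g ∈ M → IsConj (φ 128) r → g ∈ M := fun r hr hgr hT => by
      have := D.tmove (g := g) hgr (hT.trans (isConj_iff.2 ⟨g⁻¹, by group⟩))
        (by rw [show g * (g⁻¹ * r * g) * g⁻¹ = r by group]; exact hr)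
      exact this
    rcases F.cover a (Invol.orderOf_two_of_mul_self ha2 ha1) with h | haX
    · exact hT a haM hga h
    rcases F.cover _ (Invol.orderOf_two_of_mul_self has2 hasne) with h | hasX
    · exact hT _ hasM hgas h
    by_contra hgM
    have hiX' : IsConj (φ 25) (φ i) := K.not_T_of_xList F hiX
    -- the four-group
    let R : Subgroup G :=
      { carrier := {x | x = 1 ∨ x = φ i ∨ x = a ∨ x = a * φ i}
        one_mem' := .inl rfl
        mul_mem' := fun {x y} hx hy => by
          have e1 : a * φ i * φ i = a := by rw [mul_assoc, hss, mul_one]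
          have e2 : a * (a * φ i) = φ i := by rw [← mul_assoc, ha2, one_mul]
          have e3 : φ i * (a * φ i) = a := by rw [← mul_assoc, ← hsa, e1]
          have e4 : a * φ i * a = φ i := by rw [mul_assoc, ← hsa, e2]
          rcases hx with rfl | rfl | rfl | rfl <;> rcases hy with rfl | rfl | rfl | rfl <;>
            simp [hss, ha2, ← hsa, has2, e1, e2, e3, e4]
        inv_mem' := fun {x} hx => by
          rcases hx with rfl | rfl | rfl | rfl
          · exact .inl inv_one
          · exact .inr (.inl (inv_eq_of_mul_eq_one_right hss))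
          · exact .inr (.inr (.inl (inv_eq_of_mul_eq_one_right ha2)))
          · exact .inr (.inr (.inr (inv_eq_of_mul_eq_one_right has2))) }
    haveI : IsMulCommutative R := ⟨⟨fun x y => Subtype.ext (by
      have e1 : a * φ i * φ i = a := by rw [mul_assoc, hss, mul_one]
      have e2 : a * (a * φ i) = φ i := by rw [← mul_assoc, ha2, one_mul]
      have e3 : φ i * (a * φ i) = a := by rw [← mul_assoc, ← hsa, e1]
      have e4 : a * φ i * a = φ i := by rw [mul_assoc, ← hsa, e2]
      obtain ⟨x, hx⟩ := x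
      obtain ⟨y, hy⟩ := y
      rcases hx with rfl | rfl | rfl | rfl <;> rcases hy with rfl | rfl | rfl | rfl <;>
        simp [hss, ha2, ← hsa, e1, e2, e3, e4])⟩⟩
    have hRM : R ≤ M := fun x hx => by
      rcases hx with rfl | rfl | rfl | rfl
      exacts [one_mem _, hiM, haM, hasM]
    set U' := U.map (MulAut.conj g).toMonoidHom with hU'
    have hel : ∀ x ∈ R, x ≠ 1 → IsConj (φ 25) x ∧ g⁻¹ * x * g ∈ M := fun x hx hx1 => by
      rcases hx with rfl | rfl | rfl | rfl
      · exact absurd rfl hx1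
      · exact ⟨hiX', hga'.symm ▸ hiM⟩
      · exact ⟨haX, hga⟩
      · exact ⟨hasX, hgas⟩
    have hRU' : R ≤ Subgroup.normalizer (U' : Set G) := fun x hx => by
      have hxM : g⁻¹ * x * g ∈ M := by
        by_cases hx1 : x = 1
        · rw [hx1, mul_one, inv_mul_cancel]; exact one_mem M
        · exact (hel x hx hx1).2
      refine mem_normalizer_of_forall fun y hy => ?_
      obtain ⟨z, hz, rfl⟩ := hy
      refine ⟨_, conj_of_mem_normalizer hxM hz, ?_⟩
      show g * (g⁻¹ * x * g * z * (g⁻¹ * x * g)⁻¹) * g⁻¹ = x * (g * z * g⁻¹) * x⁻¹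
      group
    have hRc : ¬ IsCyclic R := by
      refine Coprime.not_isCyclic_of_exponent (fun x hx => ?_) two_pos ?_
      · rcases hx with rfl | rfl | rfl | rfl <;> rw [pow_two] <;> simp [hss, ha2, has2]
      · by_contra hle
        push Not at hle
        have h3 : Nat.card ({1, φ i, a} : Finset G) ≤ Nat.card R := by
          refine Nat.card_le_card_of_injective (fun x => (⟨x.1, by
            rcases x with ⟨x, hx⟩
            simp only [Finset.mem_insert, Finset.mem_singleton] at hx
            rcases hx with rfl | rfl | rfl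
            exacts [.inl rfl, .inr (.inl rfl), .inr (.inr (.inl rfl))]⟩ : R)) fun x y e =>
            Subtype.ext (congrArg Subtype.val e :)
        rw [Nat.card_eq_finsetCard] at h3
        have hi1 : φ i ≠ 1 := fun e => hi0 ((K.eq_one_iff his).1 e)
        rw [Finset.card_insert_of_notMem (by simp [hi1.symm, ha1.symm]),
          Finset.card_pair (Ne.symm has)] at h3
        omega
    have hR2 : IsPGroup 2 R := fun x => ⟨1, Subtype.ext (by
      show (x : G) ^ 2 ^ 1 = 1
      rw [pow_one, pow_two]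
      rcases x.2 with e | e | e | e <;> rw [e] <;> simp [hss, ha2, has2])⟩
    obtain ⟨n, hn⟩ := IsPGroup.iff_card.1 hR2
    have hU'c : Nat.card U' = Nat.card U := Subgroup.card_map_of_injective (MulEquiv.injective _)
    have hco : (Nat.card R).Coprime (Nat.card U) := by
      rw [hn]; exact ((Nat.prime_two.coprime_iff_not_dvd).2 D.odd).pow_left n
    have hθ' : ∀ x ∈ R, x ≠ 1 → U' ⊓ Subgroup.centralizer ({x} : Set G) =
        Cfsg.centralizerPPrimeCore 2 x := fun x hx hx1 => by
      obtain ⟨hxX, hxM⟩ := hel x hx hx1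
      have h := K.x_cent hS F D hxM (hxX.trans (isConj_iff.2 ⟨g⁻¹, by group⟩))
      have e : x = g * (g⁻¹ * x * g) * g⁻¹ := by group
      conv_rhs => rw [e, Signalizer.centralizerPPrimeCore_conj, ← h]
      rw [hU', Subgroup.map_inf _ _ _ (MulEquiv.injective _)]
      congr 1
      ext y
      rw [Subgroup.mem_centralizer_singleton_iff]
      constructor
      · intro hy
        refine ⟨g⁻¹ * y * g, Subgroup.mem_centralizer_singleton_iff.2 ?_, by
          show g * (g⁻¹ * y * g) * g⁻¹ = y; group⟩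
        have := conj_comm (g := g⁻¹) hy
        rwa [inv_inv] at this
      · rintro ⟨z, hz, rfl⟩
        show g * z * g⁻¹ * x = x * (g * z * g⁻¹)
        conv_lhs => rw [e]
        conv_rhs => rw [e]
        exact conj_comm (Subgroup.mem_centralizer_singleton_iff.1 hz)
    have hle : U ≤ U' := Coprime.le_of_centralizer_le (A := R) hRc hRM hco fun x hx hx1 => by
      rw [K.x_cent hS F D (hRM hx) (hel x hx hx1).1, ← hθ' x hx hx1]
      exact inf_le_left
    refine hgM (mem_normalizer_of_forall fun y hy => ?_)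
    rw [Subgroup.eq_of_le_of_card_ge hle hU'c.le]
    exact ⟨y, hy, rfl⟩
  have hHse : Cfsg.IsStronglyEmbedded H := by
    refine ⟨fun h => hCM' fun x hx => (hmemH ⟨x, hx⟩).1 (h ▸ Subgroup.mem_top _), ?_, fun q hq => ?_⟩
    · rw [even_iff_two_dvd]
      have h8 : (2 : ℕ) ∣ orderOf (π ⟨φ 128, Subgroup.mem_centralizer_singleton_iff.2
          (K.t_central (K.mem i his)).symm⟩) := by
        rw [orderOf_eq_prime (p := 2)]
        · rw [← map_pow, pow_two]
          rw [show (⟨φ 128, _⟩ * ⟨φ 128, _⟩ : C) = 1 from Subtype.ext (mul_self_of K.t_order), map_one]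
        · intro e
          rw [hπ, QuotientGroup.mk'_apply, QuotientGroup.eq_one_iff] at e
          rcases hZel e with e' | e'
          · exact absurd ((K.eq_one_iff z_central.1).1 e') (by norm_num)
          · exact F.z ((show φ 128 = φ i from e') ▸ (K.not_T_of_xList F hiX)).symm
      refine h8.trans ?_
      rw [← Subgroup.orderOf_mk (H := H) _ ((hmemH _).2 h128)]
      exact orderOf_dvd_natCard _
    by_contra h2
    obtain ⟨a, ha⟩ := exists_prime_orderOf_dvd_card' (G := ↥(H ⊓ H.map (MulAut.conj q).toMonoidHom)) 2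
      (even_iff_two_dvd.1 (Nat.not_odd_iff_even.1 h2))
    rw [← Subgroup.orderOf_coe] at ha
    obtain ⟨haM, b, hb, hba⟩ := Subgroup.mem_inf.1 a.2
    obtain ⟨x, hx⟩ := hπs (a : C ⧸ Z)
    obtain ⟨g, rfl⟩ := hπs q
    have hxM : (x : G) ∈ M := (hmemH x).1 (hx ▸ haM)
    have hgx : (g : G)⁻¹ * (x : G) * (g : G) ∈ M := by
      have : π (g⁻¹ * x * g) ∈ H := by
        rw [map_mul, map_mul, map_inv, hx]
        exact (show π g * b * (π g)⁻¹ = (a : C ⧸ Z) from hba) ▸ (by group; exact hb)
      simpa using (hmemH _).1 this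
    have hx1 : x ∉ Z := fun h => by
      rw [← hx, hπ, QuotientGroup.mk'_apply, (QuotientGroup.eq_one_iff x).2 h, orderOf_one] at ha
      omega
    have hxsq : (x : G) * x = 1 := by
      have h := pow_orderOf_eq_one (a : C ⧸ Z)
      rw [ha, ← hx, ← map_pow, hπ, QuotientGroup.mk'_apply, QuotientGroup.eq_one_iff] at h
      rcases hZel h with e | e
      · rwa [SubgroupClass.coe_pow, pow_two] at e
      exfalso
      rw [SubgroupClass.coe_pow, pow_two] at e
      obtain ⟨d, hd, hdx⟩ := hR.absorb (Subgroup.zpowers (x : G)) (Subgroup.zpowers_le.2 x.2)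
        (IsPGroup.of_card (n := 2) (by
          rw [Nat.card_zpowers, orderOf_eq_prime_pow (p := 2) (n := 1)
            (by rw [pow_one, pow_two, e]; exact fun e' => hi0 ((K.eq_one_iff his).1 e'))
            (by rw [show (2 : ℕ) ^ (1 + 1) = 2 + 2 from rfl, pow_add, pow_two, e, hss])]))
      obtain ⟨k, hk, ek⟩ := (K.mem_centS his).1 (hdx _ (Subgroup.mem_zpowers _))
      refine sq_ne_xList i hiX k hk (K.inj _ (syl_closed k (mem_centL.1 hk).1 k (mem_centL.1 hk).1) i his ?_)
      rw [K.mul k (mem_centL.1 hk).1 k (mem_centL.1 hk).1, ek, conj_sq, e,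
        show d * φ i * d⁻¹ = φ i * (d * d⁻¹) by
          rw [Subgroup.mem_centralizer_singleton_iff.1 hd, mul_assoc],
        mul_inv_cancel, mul_one]
    refine hq ((hmemH g).2 (hconj g g.2 x hxM x.2 ?_ ?_ hxsq hgx))
    · exact fun e => hx1 ((show x = 1 from Subtype.ext e) ▸ one_mem Z)
    · exact fun e => hx1 ((show x = sC from Subtype.ext e) ▸ Subgroup.mem_zpowers sC)
  have hus := (mem_centL.1 X.u_mem).1
  set tC : C := ⟨φ 128, Subgroup.mem_centralizer_singleton_iff.2 (K.t_central (K.mem i his)).symm⟩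
  set uC : C := ⟨φ u, Subgroup.mem_centralizer_singleton_iff.2
    ((K.comm_iff hus his).2 (mem_centL.1 X.u_mem).2)⟩
  have hord : ∀ z : C, (z : G) * z = 1 → (z : G) ≠ 1 → (z : G) ≠ φ i → orderOf (π z) = 2 := by
    intro z h2 h1 hs'
    refine Invol.orderOf_two_of_mul_self ?_ fun e => ?_
    · rw [← map_mul, show z * z = 1 from Subtype.ext h2, map_one]
    · rw [hπ, QuotientGroup.mk'_apply, QuotientGroup.eq_one_iff] at e
      exact (hZel e).elim h1 hs'
  have hXu : ∀ k ∈ xList, ¬ IsConj (φ 128) (φ k) := fun k hk h =>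
    F.z (h.trans (K.not_T_of_xList F hk).symm)
  obtain ⟨c, hc⟩ := isConj_iff.1 (Invol.strongly_isConj hHse
    (hord tC (mul_self_of K.t_order) (fun e => absurd ((K.eq_one_iff z_central.1).1 e) (by norm_num))
      (fun e => hXu i hiX (e ▸ IsConj.refl _)))
    (hord uC (show φ u * φ u = 1 by rw [← K.mul u hus u hus, X.u_sq, K.one])
      (fun e => X.u_ne.1 ((K.eq_one_iff hus).1 e))
      (fun e => X.u_ne.2.1 (K.inj u hus i his e))))
  obtain ⟨k, rfl⟩ := hπs c
  rw [← map_inv, ← map_mul, ← map_mul, hπ, QuotientGroup.mk'_apply, QuotientGroup.mk'_apply,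
    QuotientGroup.eq] at hc
  have hkT : IsConj (φ 128) ((k : G) * φ 128 * (k : G)⁻¹) := isConj_iff.2 ⟨(k : G), rfl⟩
  rcases hZel hc with e | e <;>
    simp only [Subgroup.coe_mul, InvMemClass.coe_inv, inv_mul_eq_iff_eq_mul] at e
  · exact hXu u X.u_x.1 (by
      rw [show φ u = (k : G) * φ 128 * (k : G)⁻¹ from e.trans (mul_one _)]; exact hkT)
  · refine hXu _ X.u_x.2 ?_
    rw [K.mul u hus i his, show φ u = (k : G) * φ 128 * (k : G)⁻¹ * φ i from e, mul_assoc, hss, mul_one]
    exact hkT

theorem theta_bot [Finite G] [IsSimpleGroup G] (hS : SylIn ⊤ S) (F : Fus φ) : K.theta = ⊥ := by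
  obtain ⟨U, D⟩ := K.exists_mdata hS F
  have h := (D.cent (D.cT_le (K.mem_cT.2 rfl)) (IsConj.refl _)).1
  rw [K.cores_bot hS F D] at h
  exact le_bot_iff.1 h

end PHyp

end CfsgLib.M12Syl
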