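import Cfsg.Agent.Lib.M12Syl.CentStruct
import Cfsg.Agent.Lib.PSolvable.Core

/-!
The subgroup generated by the cores of the centralisers of the involutions conjugate to the central one.
-/

set_option autoImplicit false
set_option linter.style.haveILetI false
set_option linter.unusedSectionVars false
set_option maxHeartbeats 1000000

namespace CfsgLib.M12Syl

open CfsgLib.M12Recog

theorem wSub_facts : lOK wSub = true ∧ normBy sylH wSub = true ∧
    (∀ i ∈ wSub, i = 0 ∨ i = 128 ∨ i ∈ [9, 121] ∨ i ∈ c3) ∧ (∀ i ∈ wSub, conjI sIdx i ∈ wSub) ∧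
    (∀ i ∈ wSub, mH i i = 0 ∧ ∀ j ∈ wSub, mH i j = mH j i) ∧
    ∀ i ∈ c3, ∃ e ∈ [1, 2], conjI (sPow e) i ∈ [9, 121] := by
  have h : ((wSub.all fun i => (i == 0 || i == 128 || [9, 121].contains i || c3.contains i) &&
      wSub.contains (conjI sIdx i) && mH i i == 0 && wSub.all fun j => mH i j == mH j i) &&
      c3.all fun i => [1, 2].any fun e => [9, 121].contains (conjI (sPow e) i)) = true := by
    decide +kernel
  simp only [Bool.and_eq_true, List.all_eq_true, Bool.or_eq_true, List.any_eq_true,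
    List.contains_iff_mem, beq_iff_eq] at h
  refine ⟨by decide +kernel, by decide +kernel, fun i hi => ?_, fun i hi => (h.1 i hi).1.1.2,
    fun i hi => ⟨(h.1 i hi).1.2, (h.1 i hi).2⟩, h.2⟩
  rcases (h.1 i hi).1.1.1 with ((e | e) | e) | e
  exacts [.inl e, .inr (.inl e), .inr (.inr (.inl e)), .inr (.inr (.inr e))]

theorem isConj_of_comm {G : Type*} [Group G] {a b : G} (h : IsConj a b) :
    ∃ g : G, g * a * g⁻¹ = b := isConj_iff.1 h

namespace PHyp

variable {G : Type*} [Group G] {φ : ℕ → G} {S : Subgroup G} (K : PHyp φ S)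
include K

/-- The centralisers of the conjugates of the central involution are constrained. -/
theorem constrained [Finite G] (hS : SylIn ⊤ S) (F : Fus φ) {v : G} (hv : IsConj (φ 128) v) :
    Cfsg.IsPConstrained 2 ↥(Subgroup.centralizer ({v} : Set G)) := by
  haveI := Fact.mk Nat.prime_two
  haveI := K.cT_solvable hS F
  obtain ⟨g, rfl⟩ := isConj_iff.1 hv
  refine PSolvable.isPConstrained_of_isPSolvable (PSolvable.isPSolvable_of_isSolvable ?_)
  let e : K.cT →* ↥(Subgroup.centralizer ({g * φ 128 * g⁻¹} : Set G)) :=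
    { toFun := fun x => ⟨g * x * g⁻¹, Subgroup.mem_centralizer_singleton_iff.2
        (conj_comm (K.mem_cT.1 x.2))⟩
      map_one' := Subtype.ext (by simp)
      map_mul' := fun a b => Subtype.ext (by simp [mul_assoc]) }
  refine Group.isSolvable_of_surjective (f := e) fun y => ⟨⟨g⁻¹ * y * g, K.mem_cT.2 ?_⟩, ?_⟩
  · have h := conj_comm (g := g⁻¹) (Subgroup.mem_centralizer_singleton_iff.1 y.2)
    rw [show g⁻¹ * (g * φ 128 * g⁻¹) * g⁻¹⁻¹ = φ 128 by group, inv_inv] at h
    exact h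
  · exact Subtype.ext (by show g * (g⁻¹ * y * g) * g⁻¹ = y; group)

theorem balance [Finite G] (hS : SylIn ⊤ S) (F : Fus φ) {a b : G} (hab : a * b = b * a) (ha : a * a = 1)
    (hb : IsConj (φ 128) b) :
    Cfsg.centralizerPPrimeCore 2 a ⊓ Subgroup.centralizer ({b} : Set G) ≤
      Cfsg.centralizerPPrimeCore 2 b := by
  haveI := Fact.mk Nat.prime_two
  exact Signalizer.centralizerPPrimeCore_balance hab (by rw [pow_two, ha]) (K.constrained hS F hb)

/-- the properties of the subgroup generated by the cores -/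
structure MData (U : Subgroup G) : Prop where
  odd : ¬ 2 ∣ Nat.card U
  cT_le : K.cT ≤ Subgroup.normalizer (U : Set G)
  tmove : ∀ {v g : G}, v ∈ Subgroup.normalizer (U : Set G) → IsConj (φ 128) v →
    g * v * g⁻¹ ∈ Subgroup.normalizer (U : Set G) → g ∈ Subgroup.normalizer (U : Set G)
  cent : ∀ {v : G}, v ∈ Subgroup.normalizer (U : Set G) → IsConj (φ 128) v →
    Cfsg.centralizerPPrimeCore 2 v ≤ U ∧
      U ⊓ Subgroup.centralizer ({v} : Set G) ≤ Cfsg.centralizerPPrimeCore 2 v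

theorem exists_mdata [Finite G] (hS : SylIn ⊤ S) (F : Fus φ) : ∃ U : Subgroup G, K.MData U := by
  classical
  haveI := Fact.mk Nat.prime_two
  obtain ⟨hok, hnW, hWel, hWs, hWab, h3e⟩ := wSub_facts
  obtain ⟨hqok, hqs, -, -⟩ := qSub_mem
  set W := K.sub wSub with hW
  have hws : ∀ i ∈ wSub, i ∈ sylH := by
    have h := hok
    simp only [lOK, Bool.and_eq_true, List.all_eq_true, List.contains_iff_mem] at h
    exact fun i hi => (h.2 i hi).1.1
  have hWc : ∀ a ∈ W, ∀ b ∈ W, a * b = b * a := by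
    intro a ha b hb
    obtain ⟨i, hi, rfl⟩ := (K.mem_sub hok).1 ha
    obtain ⟨j, hj, rfl⟩ := (K.mem_sub hok).1 hb
    exact (K.comm_iff (hws i hi) (hws j hj)).2 ((hWab i hi).2 j hj)
  have hW2 : ∀ a ∈ W, a * a = 1 := by
    intro a ha
    obtain ⟨i, hi, rfl⟩ := (K.mem_sub hok).1 ha
    rw [← K.mul i (hws i hi) i (hws i hi), (hWab i hi).1, K.one]
  have hWT : ∀ a ∈ W, a ≠ 1 → IsConj (φ 128) a := by
    intro a ha ha1
    obtain ⟨i, hi, rfl⟩ := (K.mem_sub hok).1 ha
    rcases hWel i hi with rfl | rfl | h | h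
    · exact absurd K.one ha1
    · exact IsConj.refl _
    · exact F.nine.trans (K.isConj_class (c := (9, [9, 121])) (by simp [classesL]) h)
    · exact F.three.trans (K.isConj_class (c := (3, c3)) (by simp [classesL]) h)
  have hel : Cfsg.IsElementaryAbelian 2 W :=
    ⟨⟨⟨fun a b => Subtype.ext (hWc a a.2 b b.2)⟩⟩, fun a ha => by rw [pow_two]; exact hW2 a ha⟩
  have hodd : ∀ a : G, ¬ 2 ∣ Nat.card (Cfsg.centralizerPPrimeCore 2 a) := fun a hd =>
    Nat.prime_two.ne_one (Nat.eq_one_of_dvd_coprimes (Signalizer.coprime_centralizerPPrimeCore a) hd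
      (dvd_refl 2))
  have hθ : Cfsg.IsSolvableSignalizerFunctor 2 W (Cfsg.centralizerPPrimeCore 2) := by
    refine ⟨⟨fun a _ _ => Subgroup.map_subtype_le _, fun a _ _ => hodd a,
      fun a ha _ b hb x hx => conj_of_mem_normalizer (Signalizer.centralizerPPrimeCore_normalized a
        (Subgroup.mem_centralizer_singleton_iff.2 (hWc b hb a ha))) hx,
      fun a ha _ b hb hb1 => K.balance hS F (hWc a ha b hb) (hW2 a ha) (hWT b hb hb1)⟩,
      fun a _ _ => OddOrder.odd_order_solvable (Nat.odd_iff.2 (Nat.two_dvd_ne_zero.1 (hodd a)))⟩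
  have hcard : Nat.card W = 8 := by
    rw [hW, K.card_sub hok (by decide +kernel)]; rfl
  obtain ⟨W₀, -, hW₀, hWU⟩ := Signalizer.hasCover hel (by rw [hcard]; norm_num) hθ
  set U : Subgroup G := ⨆ b : {b : G // b ∈ W ∧ b ≠ 1}, Cfsg.centralizerPPrimeCore 2 (b : G) with hU
  have hle : ∀ a ∈ W, a ≠ 1 → Cfsg.centralizerPPrimeCore 2 a ≤ U := fun a ha ha1 =>
    le_iSup (fun b : {b : G // b ∈ W ∧ b ≠ 1} => Cfsg.centralizerPPrimeCore 2 (b : G)) ⟨a, ha, ha1⟩
  have hUodd : ¬ 2 ∣ Nat.card U := fun hd => hW₀ (hd.trans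
    (Subgroup.card_dvd_of_le (iSup_le fun b => (hWU b b.2.1 b.2.2).1)))
  set V := K.sub [0, 9, 121, 128] with hV
  have hVok : lOK [0, 9, 121, 128] = true := by decide +kernel
  have hVW : V ≤ W := by
    intro x hx
    obtain ⟨i, hi, rfl⟩ := (K.mem_sub hVok).1 hx
    refine (K.mem_sub hok).2 ⟨i, ?_, rfl⟩
    have h : ([0, 9, 121, 128].all fun i => wSub.contains i) = true := by decide +kernel
    simp only [List.all_eq_true, List.contains_iff_mem] at h
    exact h i hi
  have hWnU : W ≤ Subgroup.normalizer (U : Set G) := Signalizer.le_normalizer_iSup fun b => fun x hx =>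
    Signalizer.centralizerPPrimeCore_normalized (b : G)
      (Subgroup.mem_centralizer_singleton_iff.2 (hWc x hx b b.2.1))
  have hgenV : U ≤ ⨆ b : {b : G // b ∈ V ∧ b ≠ 1}, Cfsg.centralizerPPrimeCore 2 (b : G) := by
    haveI : IsMulCommutative V := ⟨⟨fun a b => Subtype.ext (hWc a (hVW a.2) b (hVW b.2))⟩⟩
    have hVc : Nat.card V = 4 := by rw [hV, K.card_sub hVok (by decide +kernel)]; rfl
    refine Coprime.le_of_centralizer_le (A := V) (Coprime.not_isCyclic_of_exponent
      (fun a ha => by rw [pow_two]; exact hW2 a (hVW ha)) two_pos (by omega)) (hVW.trans hWnU) ?_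
      fun g hg hg1 => ((hWU g (hVW hg) hg1).2).trans
        (le_iSup (fun b : {b : G // b ∈ V ∧ b ≠ 1} => Cfsg.centralizerPPrimeCore 2 (b : G)) ⟨g, hg, hg1⟩)
    rw [hVc]
    exact ((Nat.prime_two.coprime_iff_not_dvd).2 hUodd).pow_left 2
  have hVle : ∀ b ∈ V, b ≠ 1 → Cfsg.centralizerPPrimeCore 2 b ≤ U := fun b hb => hle b (hVW hb)
  have permW : ∀ x : G, (∀ a ∈ W, x * a * x⁻¹ ∈ W) → x ∈ Subgroup.normalizer (U : Set G) := by
    intro x hx
    refine mem_normalizer_of_forall fun u hu => ?_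
    have hmap : U.map (MulAut.conj x).toMonoidHom ≤ U := by
      rw [hU, Subgroup.map_iSup]
      refine iSup_le fun b => ?_
      rw [← Signalizer.centralizerPPrimeCore_conj]
      exact hle _ (hx b b.2.1) fun e => b.2.2 (conj_eq_one_iff.1 e)
    exact hmap ⟨u, hu, rfl⟩
  have permV : ∀ x : G, (∀ a ∈ V, x * a * x⁻¹ ∈ V) → x ∈ Subgroup.normalizer (U : Set G) := by
    intro x hx
    refine mem_normalizer_of_forall fun u hu => ?_
    have hmap : U.map (MulAut.conj x).toMonoidHom ≤ U := by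
      refine (Subgroup.map_mono hgenV).trans ?_
      rw [Subgroup.map_iSup]
      refine iSup_le fun b => ?_
      rw [← Signalizer.centralizerPPrimeCore_conj]
      exact hVle _ (hx b b.2.1) fun e => b.2.2 (conj_eq_one_iff.1 e)
    exact hmap ⟨u, hu, rfl⟩
  -- the centraliser of the central involution
  obtain ⟨L, hL⟩ := K.exists_L hS
  obtain ⟨g, hg, hgQ, hga⟩ := K.exists_actS hS F hL
  set M := Subgroup.normalizer (U : Set G) with hM
  have h128W : φ 128 ∈ W := (K.mem_sub hok).2 ⟨128, mem_dec (by decide +kernel), rfl⟩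
  have ht1 : φ 128 ≠ 1 := fun e => by
    exact absurd ((K.eq_one_iff z_central.1).1 e) (by norm_num)
  have hθt : K.theta ≤ U := hle _ h128W ht1
  have hSW : ∀ x ∈ S, x ∈ M := fun x hx => permW x fun a ha => conj_of_mem_normalizer
    (K.sub_norm (l := sylH) (by decide +kernel) hok hnW
      ((K.mem_sub (by decide +kernel)).2 (K.surj x hx))) ha
  have hwq : ∀ i ∈ wSub, i ∈ qSub := by
    have h : (wSub.all fun i => qSub.contains i) = true := by decide +kernel
    simp only [List.all_eq_true, List.contains_iff_mem] at h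
    exact h
  have hgM : g ∈ M := permW g fun a ha => by
    obtain ⟨i, hi, rfl⟩ := (K.mem_sub hok).1 ha
    exact (K.mem_sub hok).2 ⟨conjI sIdx i, hWs i hi, hga i (hwq i hi)⟩
  have hcT : K.cT ≤ M := by
    intro x hx
    obtain ⟨o, ho, q, hq, e, -, h | h⟩ := K.cT_factor hS F hL hg hgQ hga hx <;> rw [h]
    · exact mul_mem (mul_mem (Subgroup.le_normalizer (hθt ho)) (hSW _ (K.mem q (hqs q hq)))) (pow_mem hgM e)
    · exact mul_mem (mul_mem (mul_mem (Subgroup.le_normalizer (hθt ho)) (hSW _ (K.mem q (hqs q hq))))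
        (pow_mem hgM e)) (hSW _ (K.mem 5 (heads_ok 5 (by simp))))
  obtain ⟨g1, g19, g1t, g1K⟩ := K.exists_swap hS F.nine
  have hg1M : g1 ∈ M := permV g1 fun a ha => by
    obtain ⟨i, hi, rfl⟩ := (K.mem_sub hVok).1 ha
    simp only [List.mem_cons, List.not_mem_nil, or_false] at hi
    refine (K.mem_sub hVok).2 ?_
    rcases hi with rfl | rfl | rfl | rfl
    · exact ⟨0, by simp, by rw [K.one]; group⟩
    · exact ⟨128, by simp, g19.symm⟩
    · refine ⟨121, by simp, ?_⟩
      have h9s := heads_ok 9 (by simp)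
      rw [show (121 : ℕ) = mH 9 128 by decide +kernel, K.mul 9 h9s 128 z_central.1,
        show g1 * (φ 9 * φ 128) * g1⁻¹ = g1 * φ 9 * g1⁻¹ * (g1 * φ 128 * g1⁻¹) by group, g19, g1t,
        K.t_central (K.mem 9 h9s)]
    · exact ⟨9, by simp, g1t.symm⟩
  have hMS : SylIn M S := by
    obtain ⟨S', hS', hSS'⟩ := sylIn_exists M S (fun x hx => hSW x hx) hS.two
    exact hS'.card_eq_sylow hSS' (hS.card_le le_top hS'.two)
  -- conjugates in `M` are conjugate in `M`
  have h9M : ∀ i ∈ [9, 121], ∃ m ∈ M, m * φ i * m⁻¹ = φ 128 := by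
    intro i hi
    obtain ⟨-, hcl⟩ := classesL_ok.1 (9, [9, 121]) (by simp [classesL])
    obtain ⟨p, hp, ep⟩ := hcl i hi
    refine ⟨g1 * (φ p)⁻¹, mul_mem hg1M (inv_mem (hSW _ (K.mem p hp))), ?_⟩
    rw [← ep, K.conj_eq (heads_ok 9 (by simp)) hp, ← g19]
    group
  have h3M : ∀ i ∈ c3, ∃ m ∈ M, m * φ i * m⁻¹ = φ 128 := by
    intro i hi
    obtain ⟨e, he, hj⟩ := h3e i hi
    have hiQ : i ∈ qSub := by
      have h : (c3.all fun i => qSub.contains i) = true := by decide +kernel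
      simp only [List.all_eq_true, List.contains_iff_mem] at h
      exact h i hi
    obtain ⟨m, hm, hm'⟩ := h9M _ hj
    have hge : φ (conjI (sPow e) i) = g ^ e * φ i * (g ^ e)⁻¹ := by
      have hsIdx : conjI sIdx i ∈ qSub := by
        have h : (c3.all fun i => qSub.contains (conjI sIdx i)) = true := by decide +kernel
        simp only [List.all_eq_true, List.contains_iff_mem] at h
        exact h i hi
      simp only [List.mem_cons, List.not_mem_nil, or_false] at he
      rcases he with rfl | rfl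
      · rw [← (sTab.2.2.2.2 i hiQ).2.1, pow_one]; exact hga i hiQ
      · rw [← (sTab.2.2.2.2 i hiQ).2.2.2, hga _ hsIdx, hga i hiQ, pow_two]; group
    refine ⟨m * g ^ e, mul_mem hm (pow_mem hgM e), ?_⟩
    rw [← hm', hge]; group
  have h5T : ∀ i ∈ c5, IsConj (φ 128) (φ i) → ∃ m ∈ M, m * φ i * m⁻¹ = φ 128 := by
    intro i hi hc
    obtain ⟨j, hj, z, hz, ez⟩ := K.five_move g1t g1K
    obtain ⟨-, hcl⟩ := classesL_ok.1 (5, c5) (by simp [classesL])
    obtain ⟨p, hp, ep⟩ := hcl i hi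
    obtain ⟨p', hp', ep'⟩ := hcl j hj
    have hz3 : z ∈ c3 := by
      refine (List.mem_append.1 hz).resolve_right fun h => F.z ?_
      have h1 : IsConj (φ 128) (φ z) := hc.trans
        ((K.isConj_class (c := (5, c5)) (by simp [classesL]) hi).symm.trans
          ((K.isConj_class (c := (5, c5)) (by simp [classesL]) hj).trans (isConj_iff.2 ⟨g1, ez.symm⟩)))
      exact h1.trans ((K.isConj_class (c := (107, c107)) (by simp [classesL]) h).symm.trans F.z107.symm)
    obtain ⟨m, hm, hm'⟩ := h3M z hz3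
    refine ⟨m * g1 * φ p' * (φ p)⁻¹, mul_mem (mul_mem (mul_mem hm hg1M) (hSW _ (K.mem p' hp')))
      (inv_mem (hSW _ (K.mem p hp))), ?_⟩
    have h5s := heads_ok 5 (by simp)
    calc m * g1 * φ p' * (φ p)⁻¹ * φ i * (m * g1 * φ p' * (φ p)⁻¹)⁻¹
        = m * (g1 * (φ p' * φ 5 * (φ p')⁻¹) * g1⁻¹) * m⁻¹ := by rw [← ep, K.conj_eq h5s hp]; group
      _ = φ 128 := by rw [← K.conj_eq h5s hp', ep', ← ez, hm']
  have hTM : ∀ v ∈ M, IsConj (φ 128) v → ∃ m ∈ M, m * v * m⁻¹ = φ 128 := by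
    intro v hv hc
    have hv2 : orderOf v = 2 := orderOf_of_isConj K.t_order hc
    obtain ⟨d, hd, hdS⟩ := hMS.absorb (Subgroup.zpowers v) (Subgroup.zpowers_le.2 hv)
      (IsPGroup.of_card (n := 1) (by rw [Nat.card_zpowers, hv2]; rfl))
    obtain ⟨i, hi, ei, hi2, hi0⟩ :=
      K.idx_invol (orderOf_of_isConj hv2 (isConj_iff.2 ⟨d, rfl⟩)) (hdS v (Subgroup.mem_zpowers v))
    have hci : IsConj (φ 128) (φ i) := hc.trans (isConj_iff.2 ⟨d, ei.symm⟩)
    obtain ⟨c, hcm, hic, hcc⟩ := K.head_of hi hi2 hi0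
    suffices ∃ m ∈ M, m * φ i * m⁻¹ = φ 128 by
      obtain ⟨m, hm, e⟩ := this
      exact ⟨m * d, mul_mem hm hd, by rw [← e, ei]; group⟩
    simp only [classesL, List.mem_cons, List.not_mem_nil, or_false] at hcm
    rcases hcm with rfl | rfl | rfl | rfl | rfl | rfl | rfl
    · simp only [List.mem_singleton] at hic
      exact ⟨1, one_mem M, by rw [hic]; simp⟩
    · exact h9M i hic
    · exact h3M i hic
    · exact h5T i hic hci
    · exact (F.z (hci.trans hcc.symm)).elim
    · exact (F.z (hci.trans (hcc.symm.trans F.z26.symm))).elim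
    · exact (F.z (hci.trans (hcc.symm.trans F.z107.symm))).elim
  refine ⟨U, hUodd, hcT, fun {v g} hv hc hgv => ?_, fun {v} hv hc => ?_⟩
  · obtain ⟨m, hm, hmv⟩ := hTM v hv hc
    obtain ⟨m', hm', hmv'⟩ := hTM _ hgv (hc.trans (isConj_iff.2 ⟨g, rfl⟩))
    have hmem : m' * g * m⁻¹ ∈ K.cT := K.mem_cT.2 (mul_inv_eq_iff_eq_mul.1 (by
      calc m' * g * m⁻¹ * φ 128 * (m' * g * m⁻¹)⁻¹ = m' * (g * (m⁻¹ * φ 128 * m) * g⁻¹) * m'⁻¹ := by group
        _ = φ 128 := by rw [← hmv, show m⁻¹ * (m * v * m⁻¹) * m = v by group, hmv', hmv]))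
    have := mul_mem (mul_mem (inv_mem hm') (hcT hmem)) hm
    rwa [show m'⁻¹ * (m' * g * m⁻¹) * m = g by group] at this
  · obtain ⟨m, hm, hmv⟩ := hTM v hv hc
    have hθc : Cfsg.centralizerPPrimeCore 2 v =
        (Cfsg.centralizerPPrimeCore 2 (φ 128)).map (MulAut.conj m⁻¹).toMonoidHom := by
      rw [← Signalizer.centralizerPPrimeCore_conj, ← hmv]
      exact congrArg _ (by group)
    refine ⟨?_, fun x hx => ?_⟩
    · rw [hθc]
      rintro _ ⟨y, hy, rfl⟩
      exact conj_of_mem_normalizer (inv_mem hm) (hθt hy)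
    · obtain ⟨hxU, hxv⟩ := Subgroup.mem_inf.1 hx
      have h1 : m * x * m⁻¹ ∈ Cfsg.centralizerPPrimeCore 2 (φ 128) := by
        refine (hWU _ h128W ht1).2 (Subgroup.mem_inf.2 ⟨conj_of_mem_normalizer hm hxU,
          Subgroup.mem_centralizer_singleton_iff.2 ?_⟩)
        rw [← hmv]
        exact conj_comm (Subgroup.mem_centralizer_singleton_iff.1 hxv)
      rw [hθc]
      exact ⟨_, h1, by show m⁻¹ * (m * x * m⁻¹) * m⁻¹⁻¹ = x; group⟩

end PHyp

end CfsgLib.M12Syl
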