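import Cfsg.Agent.Lib.M12Recog.Model
import Cfsg.Agent.Lib.M12Syl.SylIn

/-!
Data of the Sylow 2-subgroup of M12, as a part of the table of an involution centraliser.
-/

set_option autoImplicit false
set_option linter.style.longLine false

namespace CfsgLib.M12Syl

/-- a class of four involutions -/
def c3 : List ℕ := [3, 10, 122, 131]

/-- the class of eight involutions -/
def c5 : List ℕ := [5, 20, 100, 109, 124, 141, 149, 156]

/-- a class of four involutions -/
def c25 : List ℕ := [25, 61, 85, 189]

/-- a class of four involutions -/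
def c26 : List ℕ := [26, 71, 86, 183]

/-- a class of four involutions -/
def c107 : List ℕ := [107, 118, 154, 167]

/-- the centraliser of `iA` -/
def kSub : List ℕ := [0, 3, 5, 7, 9, 10, 20, 22, 100, 102, 104, 107, 109, 111, 117, 118, 121, 122, 124, 126, 128, 131, 141, 143, 149, 151, 153, 154, 156, 158, 164, 167]

/-- the extraspecial subgroup of order 32 -/
def qSub : List ℕ := [0, 3, 9, 10, 25, 26, 36, 39, 61, 62, 68, 71, 72, 75, 85, 86, 104, 107, 117, 118, 121, 122, 128, 131, 153, 154, 164, 167, 180, 183, 189, 190]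

/-- a maximal subgroup -/
def m4Sub : List ℕ := [0, 7, 9, 22, 26, 33, 39, 40, 48, 62, 65, 71, 75, 80, 86, 89, 102, 104, 111, 117, 121, 126, 128, 143, 151, 153, 158, 164, 169, 183, 184, 190]

/-- a maximal subgroup -/
def m6Sub : List ℕ := [0, 7, 9, 22, 25, 35, 36, 42, 50, 61, 67, 68, 72, 82, 85, 91, 102, 104, 111, 117, 121, 126, 128, 143, 151, 153, 158, 164, 171, 180, 186, 189]

/-- a maximal subgroup -/
def m1Sub : List ℕ := [0, 3, 9, 10, 33, 35, 40, 42, 48, 50, 65, 67, 80, 82, 89, 91, 104, 107, 117, 118, 121, 122, 128, 131, 153, 154, 164, 167, 169, 171, 184, 186]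

/-- the elementary abelian subgroup in one class -/
def wSub : List ℕ := [0, 3, 9, 10, 121, 122, 128, 131]

/-- the values of an automorphism -/
def sigL : List ℕ := [0, 107, 100, 22, 9, 118, 109, 7, 61, 26, 40, 50, 68, 39, 33, 67, 169, 35, 25, 190, 184, 42, 36, 183, 180, 75, 89, 171, 189, 86, 80, 186, 5, 151, 164, 3, 20, 158, 153, 10, 121, 154, 149, 143, 128, 167, 156, 126, 124, 102, 117, 122, 141, 111, 104, 131, 48, 82, 72, 71, 65, 91, 85, 62]

end CfsgLib.M12Syl
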