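import Cfsg.Agent.Lib.M12Syl.Base
import Cfsg.Agent.Lib.M12Recog.Local
import Cfsg.Agent.Lib.Transfer.Thompson

/-!
Fusion of involutions in a simple group with this Sylow 2-subgroup and more than one class.
-/

set_option autoImplicit false
set_option linter.style.haveILetI false
set_option linter.unusedSectionVars false

namespace CfsgLib.M12Syl

open CfsgLib.M12Recog

/-- the involutions with a head -/
def classesL : List (ℕ × List ℕ) :=
  [(128, [128]), (9, [9, 121]), (3, c3), (5, c5), (25, c25), (26, c26), (107, c107)]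

theorem classesL_ok :
    (∀ c ∈ classesL, c.1 ∈ sylH ∧ ∀ i ∈ c.2, ∃ p ∈ sylH, mH (mH p c.1) (invI p) = i) ∧
    ∀ i ∈ sylH, mH i i = 0 → i ≠ 0 → ∃ c ∈ classesL, i ∈ c.2 := by
  have h : ((classesL.all fun c => sylH.contains c.1 &&
      c.2.all fun i => sylH.any fun p => mH (mH p c.1) (invI p) == i) &&
    sylH.all fun i => mH i i != 0 || i == 0 || classesL.any fun c => c.2.contains i) = true := by
    decide +kernel
  simp only [Bool.and_eq_true, List.all_eq_true, List.any_eq_true, List.contains_iff_mem,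
    beq_iff_eq, Bool.or_eq_true, bne_iff_ne] at h
  refine ⟨h.1, fun i hi h2 h0 => ?_⟩
  rcases h.2 i hi with (e | e) | e
  exacts [absurd h2 e, absurd e h0, e]

theorem z_central : 128 ∈ sylH ∧ mH 128 128 = 0 ∧ ∀ i ∈ sylH, mH i 128 = mH 128 i := by
  have h : (sylH.contains 128 && (mH 128 128 == 0) && sylH.all fun i => mH i 128 == mH 128 i) = true := by
    decide +kernel
  simp only [Bool.and_eq_true, List.all_eq_true, List.contains_iff_mem, beq_iff_eq] at h
  exact ⟨h.1.1, h.1.2, h.2⟩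

namespace PHyp

variable {G : Type*} [Group G] {φ : ℕ → G} {S : Subgroup G} (K : PHyp φ S)
include K

theorem isConj_class {c : ℕ × List ℕ} (hc : c ∈ classesL) {i : ℕ} (hi : i ∈ c.2) :
    IsConj (φ c.1) (φ i) := by
  obtain ⟨hr, h⟩ := classesL_ok.1 c hc
  obtain ⟨p, hp, e⟩ := h i hi
  exact isConj_iff.2 ⟨φ p, by rw [← K.conj_eq hr hp, e]⟩

/-- Any involution index has the head of its list as a conjugate. -/
theorem head_of {i : ℕ} (hi : i ∈ sylH) (h2 : mH i i = 0) (h0 : i ≠ 0) :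
    ∃ c ∈ classesL, i ∈ c.2 ∧ IsConj (φ c.1) (φ i) := by
  obtain ⟨c, hc, hic⟩ := classesL_ok.2 i hi h2 h0
  exact ⟨c, hc, hic, K.isConj_class hc hic⟩

theorem t_central {x : G} (hx : x ∈ S) : x * φ 128 = φ 128 * x := by
  obtain ⟨i, hi, rfl⟩ := K.surj x hx
  exact (K.comm_iff hi z_central.1).2 (z_central.2.2 i hi)

theorem t_order : orderOf (φ 128) = 2 := K.orderOf_two z_central.1 z_central.2.1 (by norm_num)

/-- the subgroup of the elements of `S` commuting with `φ u` -/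
def centS (_ : PHyp φ S) (u : ℕ) : Subgroup G := S ⊓ Subgroup.centralizer ({φ u} : Set G)

theorem mem_centS {u : ℕ} (hu : u ∈ sylH) {x : G} : x ∈ K.centS u ↔ ∃ i ∈ centL u, φ i = x := by
  simp only [centS, Subgroup.mem_inf, Subgroup.mem_centralizer_singleton_iff]
  refine ⟨fun ⟨hx, hc⟩ => ?_, ?_⟩
  · obtain ⟨i, hi, rfl⟩ := K.surj x hx
    exact ⟨i, mem_centL.2 ⟨hi, (K.comm_iff hi hu).1 hc⟩, rfl⟩
  · rintro ⟨i, hi, rfl⟩
    obtain ⟨hi, hc⟩ := mem_centL.1 hi
    exact ⟨K.mem i hi, (K.comm_iff hi hu).2 hc⟩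

/-- An element moving `φ u` to `φ 128` and its centraliser in `S` into `S`. -/
theorem exists_to_t [Finite G] (hS : SylIn ⊤ S) {u : ℕ} (hu : u ∈ sylH)
    (hc : IsConj (φ 128) (φ u)) :
    ∃ g : G, g * φ u * g⁻¹ = φ 128 ∧ ∀ i ∈ centL u, g * φ i * g⁻¹ ∈ S := by
  obtain ⟨c, hc⟩ := isConj_iff.1 hc.symm
  obtain ⟨g, -, hg, hgY⟩ := hS.to_center (fun s hs => K.t_central hs) ⟨c, Subgroup.mem_top c, hc⟩
    (Y := K.centS u) le_top (hS.two.to_le inf_le_left)
    (fun y hy => Subgroup.mem_centralizer_singleton_iff.1 (Subgroup.mem_inf.1 hy).2)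
  exact ⟨g, hg, fun i hi => hgY _ ((K.mem_centS hu).2 ⟨i, hi, rfl⟩)⟩

theorem idx_conj_invol {u : ℕ} (hu : u ∈ sylH) (h2 : mH u u = 0) (h0 : u ≠ 0) {g : G}
    (hg : g * φ u * g⁻¹ ∈ S) :
    ∃ j ∈ sylH, φ j = g * φ u * g⁻¹ ∧ mH j j = 0 ∧ j ≠ 0 :=
  K.idx_invol (orderOf_of_isConj (K.orderOf_two hu h2 h0) (isConj_iff.2 ⟨g, rfl⟩)) hg

theorem nine_of_square [Finite G] (hS : SylIn ⊤ S) {u : ℕ} (hu : u ∈ [3, 25, 26, 107])
    (hc : IsConj (φ 128) (φ u)) : IsConj (φ 128) (φ 9) := by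
  have h : ([3, 25, 26, 107].all fun u => sylH.contains u && (mH u u == 0) && u != 128 &&
      sylH.any fun k => mH k u == mH u k && mH k k == 128) = true := by decide +kernel
  simp only [List.all_eq_true, Bool.and_eq_true, List.any_eq_true, List.contains_iff_mem,
    beq_iff_eq, bne_iff_ne] at h
  obtain ⟨⟨⟨hu', -⟩, hune⟩, k, hk, hku, hk2⟩ := h u hu
  obtain ⟨g, hg, hgS⟩ := K.exists_to_t hS hu' hc
  obtain ⟨j, hj, ej⟩ := K.surj _ (hgS k (mem_centL.2 ⟨hk, hku⟩))
  have hsq : φ (mH j j) = g * φ 128 * g⁻¹ := by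
    rw [K.mul j hj j hj, ej, ← hk2, K.mul k hk k hk]; group
  have hsq' : ∀ j ∈ sylH, mH j j = 0 ∨ mH j j = 128 ∨ mH j j ∈ [9, 121] ∨ mH (mH j j) (mH j j) ≠ 0 := by
    have h : (sylH.all fun j => mH j j == 0 || mH j j == 128 || [9, 121].contains (mH j j) ||
      mH (mH j j) (mH j j) != 0) = true := by decide +kernel
    simp only [List.all_eq_true, Bool.or_eq_true, beq_iff_eq, List.contains_iff_mem, bne_iff_ne] at h
    intro j hj
    rcases h j hj with ((e | e) | e) | e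
    exacts [.inl e, .inr (.inl e), .inr (.inr (.inl e)), .inr (.inr (.inr e))]
  have hjj := syl_closed j hj j hj
  have hsq2 := orderOf_of_isConj K.t_order (isConj_iff.2 ⟨g, hsq.symm⟩)
  rcases hsq' j hj with e | e | e | e
  · rw [e, K.one, orderOf_one] at hsq2; omega
  · rw [e] at hsq
    have : φ u = φ 128 := by
      have h1 : g⁻¹ * φ 128 * g = φ 128 := by
        conv_lhs => arg 1; arg 2; rw [hsq]
        group
      rw [← hg] at h1
      calc φ u = g⁻¹ * (g * φ u * g⁻¹) * g := by group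
        _ = φ 128 := by rw [h1, hg]
    exact absurd ((K.eq_iff hu' z_central.1).1 this) hune
  · exact (show IsConj (φ 128) (φ (mH j j)) from isConj_iff.2 ⟨g, hsq.symm⟩).trans
      (K.isConj_class (c := (9, [9, 121])) (by simp [classesL]) e).symm
  · exact absurd ((K.eq_one_iff (syl_closed _ hjj _ hjj)).1 (by
      rw [K.mul _ hjj _ hjj, ← pow_two, ← hsq2, pow_orderOf_eq_one])) e

theorem nine_of_five (htc : IsConj (φ 128) (φ 5)) (g : G) (hg5 : g * φ 5 * g⁻¹ = φ 128)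
    (hgS : ∀ i ∈ centL 5, g * φ i * g⁻¹ ∈ S) {y : ℕ} (hy : y ∈ sylH) (hyd : y ∈ c5)
    (ey : φ y = g * φ 128 * g⁻¹) : IsConj (φ 128) (φ 9) := by
  have h5 : (5 : ℕ) ∈ sylH := mem_dec (by decide +kernel)
  obtain ⟨-, h⟩ := classesL_ok.1 (5, c5) (by simp [classesL])
  obtain ⟨p, hp, ep⟩ := h y hyd
  set g' := (φ p)⁻¹ * g with hg'
  have g1 : g' * φ 5 * g'⁻¹ = φ 128 := by
    rw [hg', show (φ p)⁻¹ * g * φ 5 * ((φ p)⁻¹ * g)⁻¹ = (φ p)⁻¹ * (g * φ 5 * g⁻¹) * φ p by group,
      hg5, mul_assoc, ← K.t_central (K.mem p hp)]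
    group
  have g2 : g' * φ 128 * g'⁻¹ = φ 5 := by
    rw [hg', show (φ p)⁻¹ * g * φ 128 * ((φ p)⁻¹ * g)⁻¹ = (φ p)⁻¹ * (g * φ 128 * g⁻¹) * φ p by group,
      ← ey, ← ep, K.conj_eq h5 hp]
    group
  have hE : centL 5 = centL 5 ∧ (9 : ℕ) ∈ centL 5 ∧ mH 9 128 ∈ sylH ∧ mH 9 128 = 121 ∧
      ∀ k ∈ centL 5, k ∈ [0, 5, 128] ∨ k ∈ c5 ∨ k ∈ [9, 121] ∧ mH k 5 ∈ c5 := by
    refine ⟨rfl, mem_dec (by decide +kernel), mem_dec (by decide +kernel), by decide +kernel, ?_⟩
    have h : ((centL 5).all fun k => [0, 5, 128].contains k || c5.contains k ||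
        ([9, 121].contains k && c5.contains (mH k 5))) = true := by decide +kernel
    simp only [List.all_eq_true, Bool.or_eq_true, Bool.and_eq_true, List.contains_iff_mem] at h
    exact fun k hk => or_assoc.1 (h k hk)
  obtain ⟨-, h9, h121, e121, hall⟩ := hE
  have hmem : g' * φ 9 * g'⁻¹ ∈ S := by
    rw [hg', show (φ p)⁻¹ * g * φ 9 * ((φ p)⁻¹ * g)⁻¹ = (φ p)⁻¹ * (g * φ 9 * g⁻¹) * φ p by group]
    exact mul_mem (mul_mem (inv_mem (K.mem p hp)) (hgS 9 h9)) (K.mem p hp)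
  obtain ⟨k, hk, ek⟩ := K.surj _ hmem
  have h9s := (mem_centL.1 h9).1
  have hk5 : mH k 5 = mH 5 k := (K.comm_iff hk h5).1 (by
    rw [ek, ← g2]
    exact conj_comm (K.t_central (K.mem 9 h9s)))
  have inj : ∀ i ∈ sylH, g' * φ i * g'⁻¹ = φ k → i = 9 := fun i hi e =>
    K.inj i hi 9 h9s (mul_left_cancel (mul_right_cancel (e.trans ek)))
  rcases hall k (mem_centL.2 ⟨hk, hk5⟩) with h | h | ⟨-, h⟩
  · simp only [List.mem_cons, List.not_mem_nil, or_false] at h
    rcases h with rfl | rfl | rfl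
    · exact absurd (inj 0 zero_syl (by rw [K.one]; group)) (by norm_num)
    · exact absurd (inj 128 z_central.1 g2) (by norm_num)
    · exact absurd (inj 5 h5 g1) (by norm_num)
  · exact htc.trans ((K.isConj_class (c := (5, c5)) (by simp [classesL]) h).trans
      (isConj_iff.2 ⟨g'⁻¹, by rw [ek]; group⟩))
  · have e : φ (mH k 5) = g' * φ 121 * g'⁻¹ := by
      rw [K.mul k hk 5 h5, ek, ← g2, ← e121, K.mul 9 h9s 128 z_central.1]; group
    have h1 : IsConj (φ 5) (φ 121) := (K.isConj_class (c := (5, c5)) (by simp [classesL]) h).trans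
      (isConj_iff.2 ⟨g'⁻¹, by rw [e]; group⟩)
    exact htc.trans (h1.trans (K.isConj_class (c := (9, [9, 121])) (by simp [classesL]) (by simp)).symm)

/-- The central involution is conjugate to `φ 9`. -/
theorem nine_conj [Finite G] [IsSimpleGroup G] (hna : ¬ IsMulCommutative G) (P : Sylow 2 G)
    (hP : (P : Subgroup G) = S) : IsConj (φ 128) (φ 9) := by
  have hS : SylIn ⊤ S := hP ▸ sylIn_top P
  have htP : φ 128 ∈ P := by
    show φ 128 ∈ (P : Subgroup G)
    rw [hP]; exact K.mem _ z_central.1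
  obtain ⟨g, hg, hne⟩ := not_isolated hna P K.t_order htP
  obtain ⟨w, hw, ew, hw2, hw0⟩ := K.idx_conj_invol z_central.1 z_central.2.1 (by norm_num)
    (show g * φ 128 * g⁻¹ ∈ S by rw [← hP]; exact hg)
  have htw : IsConj (φ 128) (φ w) := isConj_iff.2 ⟨g, ew.symm⟩
  obtain ⟨c, hc, hwc, hcw⟩ := K.head_of hw hw2 hw0
  have htc : IsConj (φ 128) (φ c.1) := htw.trans hcw.symm
  simp only [classesL, List.mem_cons, List.not_mem_nil, or_false] at hc
  rcases hc with rfl | rfl | rfl | rfl | rfl | rfl | rfl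
  · simp only [List.mem_singleton] at hwc
    rw [hwc] at ew
    exact absurd ew.symm hne
  · exact htc
  · exact K.nine_of_square hS (by simp) htc
  · obtain ⟨g, hg5, hgS⟩ := K.exists_to_t hS (u := 5) (mem_dec (by decide +kernel)) htc
    obtain ⟨y, hy, ey, hy2, hy0⟩ := K.idx_conj_invol z_central.1 z_central.2.1 (by norm_num)
      (hgS 128 (mem_centL.2 ⟨z_central.1, (z_central.2.2 5 (mem_dec (by decide +kernel))).symm⟩))
    have hty : IsConj (φ 128) (φ y) := isConj_iff.2 ⟨g, ey.symm⟩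
    obtain ⟨d, hd, hyd, hdy⟩ := K.head_of hy hy2 hy0
    have htd : IsConj (φ 128) (φ d.1) := hty.trans hdy.symm
    simp only [classesL, List.mem_cons, List.not_mem_nil, or_false] at hd
    rcases hd with rfl | rfl | rfl | rfl | rfl | rfl | rfl
    · simp only [List.mem_singleton] at hyd
      subst hyd
      have : φ 5 = φ 128 := by
        have h1 : g * φ 5 * g⁻¹ = g * φ 128 * g⁻¹ := hg5.trans ey
        exact mul_left_cancel (mul_right_cancel h1)
      exact absurd ((K.eq_iff (mem_dec (by decide +kernel)) z_central.1).1 this) (by norm_num)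
    · exact htd
    · exact K.nine_of_square hS (by simp) htd
    · exact K.nine_of_five htc g hg5 hgS hy hyd ey
    · exact K.nine_of_square hS (by simp) htd
    · exact K.nine_of_square hS (by simp) htd
    · exact K.nine_of_square hS (by simp) htd
  · exact K.nine_of_square hS (by simp) htc
  · exact K.nine_of_square hS (by simp) htc
  · exact K.nine_of_square hS (by simp) htc

end PHyp

end CfsgLib.M12Syl
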