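import Cfsg.Agent.Lib.M12Syl.PModel
import Cfsg.Agent.Lib.M12Syl.SylIn
import Cfsg.Agent.Lib.M12Recog.Local

/-!
All but one of these tables cannot occur as the Sylow 2-subgroup of a simple group.
-/

set_option autoImplicit false
set_option linter.style.haveILetI false
set_option linter.unusedSectionVars false
set_option maxHeartbeats 1000000

namespace CfsgLib.M12Syl

open CfsgLib.M12Recog

/-- the involutions of the table -/
def qInv (M : ℕ → ℕ → ℕ) : List ℕ := (List.range 64).filter fun n => n != 0 && M n n == 0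

/-- the centraliser of an index -/
def qCent (M : ℕ → ℕ → ℕ) (u : ℕ) : List ℕ := (List.range 64).filter fun j => M u j == M j u

/-- the number of square roots in a list -/
def qRoots (M : ℕ → ℕ → ℕ) (l : List ℕ) (w : ℕ) : ℕ := (l.filter fun j => M j j == w).length

/-- the indices with few square roots, apart from the exceptions -/
def qFew (M : ℕ → ℕ → ℕ) (exc : List ℕ) (u : ℕ) : Bool :=
  (qInv M).all fun w => exc.contains w || Nat.blt (qRoots M (List.range 64) w) (qRoots M (qCent M u) 4)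

/-- an involution with elementary centraliser -/
def qElem (M : ℕ → ℕ → ℕ) (u : ℕ) : Bool :=
  (qCent M u).all (fun j => M j j == 0 && (qCent M u).all fun l => M j l == M l j && (qCent M u).contains (M j l)) &&
    (qCent M u).any (fun j => !([0, 4, u, M u 4].contains j)) &&
    (qCent M u).all fun j => [0, 4, 8, 12].contains j || (List.range 64).any fun p => M p u == M j p

/-- the elementary subgroups of order 8 containing the central involution contain `8` -/
def qSpan (M : ℕ → ℕ → ℕ) : Bool :=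
  (qInv M).all fun w => w == 4 || (qInv M).all fun b => [4, w, M 4 w].contains b || M w b != M b w ||
    [M 4 w, w, b, M 4 b, M w b, M 4 (M w b)].contains 8

/-- the conditions under which the table cannot occur -/
def killOK (M : ℕ → ℕ → ℕ) : Bool :=
  M 4 4 == 0 && ([0, 4, 8, 12].all fun v => [0, 4, 8, 12].all fun w => [0, 4, 8, 12].contains (M v w)) &&
    (List.range 64).all (fun j => M 4 j == M j 4) && M 8 4 == 12 && (qInv M).contains 8 &&
    (qInv M).contains 12 && qFew M [4] 8 && qFew M [4] 12 &&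
    (qInv M).all fun u => [4, 8, 12].contains u || qFew M [4, 8, 12] u || (qElem M u && qSpan M)

namespace QHyp

variable {G : Type*} [Group G] {a m k : ℕ} {φ : ℕ → G} {S : Subgroup G} (Q : QHyp a m k φ S)
include Q

local notation "M" => mP a m k

theorem idx {x : G} (hx : x ∈ S) (hx2 : orderOf x = 2) : ∃ w ∈ qInv M, φ w = x ∧ w < 64 := by
  obtain ⟨w, hw, rfl⟩ := Q.surj x hx
  refine ⟨w, List.mem_filter.2 ⟨List.mem_range.2 hw, ?_⟩, rfl, hw⟩
  simp only [Bool.and_eq_true, bne_iff_ne, beq_iff_eq]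
  refine ⟨?_, ?_⟩
  · rintro rfl
    rw [Q.one, orderOf_one] at hx2
    omega
  · refine Q.inj _ (mP_lt a m k w w hw) 0 (by norm_num) ?_
    rw [Q.mul, Q.one, mul_self_of hx2]

theorem kill [Finite G] [IsSimpleGroup G] (hna : ¬ IsMulCommutative G) (P : Sylow 2 G)
    (hP : (P : Subgroup G) = S) (hk : killOK M = true) : False := by
  classical
  haveI := Fact.mk Nat.prime_two
  have hS : SylIn ⊤ S := hP ▸ sylIn_top P
  simp only [killOK, Bool.and_eq_true, beq_iff_eq, List.all_eq_true, List.mem_range, Bool.or_eq_true,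
    List.contains_iff_mem] at hk
  obtain ⟨⟨⟨⟨⟨⟨⟨⟨h44, hVcl⟩, hcen⟩, h84⟩, h8⟩, h12⟩, hf8⟩, hf12⟩, hall⟩ := hk
  have hz2 : orderOf (φ 4) = 2 := orderOf_eq_prime (by rw [pow_two, ← Q.mul, h44, Q.one]) fun e => by
    have := Q.inj 4 (by norm_num) 0 (by norm_num) (e.trans Q.one.symm)
    omega
  have hzc : ∀ y ∈ S, y * φ 4 = φ 4 * y := fun y hy => by
    obtain ⟨j, hj, rfl⟩ := Q.surj y hy
    rw [← Q.mul, ← Q.mul, hcen j hj]
  have hlt : ∀ {u : ℕ}, u ∈ qInv M → u < 64 := fun h => List.mem_range.1 (List.mem_filter.1 h).1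
  have hcl : ∀ {u j : ℕ}, u < 64 → (j ∈ qCent M u ↔ j < 64 ∧ φ j * φ u = φ u * φ j) := fun {u j} hu => by
    simp only [qCent, List.mem_filter, List.mem_range, beq_iff_eq, ← Q.mul]
    refine and_congr_right fun hj => ⟨fun h => congrArg φ h.symm, fun h => ?_⟩
    exact (Q.inj _ (mP_lt a m k j u hu) _ (mP_lt a m k u j hj) h).symm
  -- moving the centraliser of a conjugate of the central involution
  have hmove : ∀ u ∈ qInv M, IsConj (φ 4) (φ u) → u ≠ 4 → ∃ F : ℕ → ℕ, F u = 4 ∧ F 4 ∈ qInv M ∧ F 4 ≠ 4 ∧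
      IsConj (φ 4) (φ (F 4)) ∧ (∀ j ∈ qCent M u, F j < 64 ∧ IsConj (φ j) (φ (F j))) ∧
      (∀ i ∈ qCent M u, ∀ j ∈ qCent M u, (F i = F j → i = j) ∧
        (mP a m k i j ∈ qCent M u → F (mP a m k i j) = mP a m k (F i) (F j))) := by
    intro u hu hc hu4
    have hul := hlt hu
    obtain ⟨c, hc⟩ := isConj_iff.1 hc.symm
    let Y := S ⊓ Subgroup.centralizer ({φ u} : Set G)
    obtain ⟨g, -, hgu, hgY⟩ := hS.to_center hzc (u := φ u) ⟨c, Subgroup.mem_top _, hc⟩ (Y := Y) le_top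
      (hS.two.to_le inf_le_left)
      fun y hy => Subgroup.mem_centralizer_singleton_iff.1 (Subgroup.mem_inf.1 hy).2
    have himg : ∀ j ∈ qCent M u, ∃ l < 64, φ l = g * φ j * g⁻¹ := fun j hj => Q.surj _ (hgY _
      (Subgroup.mem_inf.2 ⟨Q.mem j ((hcl hul).1 hj).1,
        Subgroup.mem_centralizer_singleton_iff.2 ((hcl hul).1 hj).2⟩))
    choose! F hF hF' using himg
    have hu_c : u ∈ qCent M u := (hcl hul).2 ⟨hul, rfl⟩
    have h4_c : 4 ∈ qCent M u := (hcl hul).2 ⟨by norm_num, (hzc _ (Q.mem u hul)).symm⟩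
    have hFu : F u = 4 := Q.inj _ (hF u hu_c) 4 (by norm_num) ((hF' u hu_c).trans hgu)
    have hF4 : φ (F 4) = g * φ 4 * g⁻¹ := hF' 4 h4_c
    have hc4 : IsConj (φ 4) (φ (F 4)) := isConj_iff.2 ⟨g, hF4.symm⟩
    obtain ⟨w, hw, ew, -⟩ := Q.idx (Q.mem _ (hF 4 h4_c)) (orderOf_of_isConj hz2 hc4)
    refine ⟨F, hFu, (Q.inj w (hlt hw) _ (hF 4 h4_c) ew) ▸ hw, fun e => hu4 ?_, hc4,
      fun j hj => ⟨hF j hj, isConj_iff.2 ⟨g, (hF' j hj).symm⟩⟩, fun i hi j hj => ⟨fun e => ?_, fun hij => ?_⟩⟩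
    · rw [e] at hF4
      exact Q.inj u hul 4 (by norm_num) (mul_left_cancel (mul_right_cancel (hgu.trans hF4)))
    · have e' := congrArg φ e
      rw [hF' i hi, hF' j hj] at e'
      exact Q.inj i ((hcl hul).1 hi).1 j ((hcl hul).1 hj).1 (mul_left_cancel (mul_right_cancel e'))
    · refine Q.inj _ (hF _ hij) _ (mP_lt a m k _ _ (hF j hj)) ?_
      rw [hF' _ hij, Q.mul, Q.mul, hF' i hi, hF' j hj]
      group
  -- counting square roots
  have hfew : ∀ exc : List ℕ, ∀ u ∈ qInv M, IsConj (φ 4) (φ u) → u ≠ 4 → qFew M exc u = true →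
      ∃ w ∈ exc, w ≠ 4 ∧ IsConj (φ 4) (φ w) := by
    intro exc u hu hc hu4 hq
    obtain ⟨F, -, hw, hw4, hcw, hFj, hFmul⟩ := hmove u hu hc hu4
    refine ⟨F 4, ?_, hw4, hcw⟩
    simp only [qFew, List.all_eq_true, Bool.or_eq_true, List.contains_iff_mem, Nat.blt_eq] at hq
    refine (hq _ hw).resolve_right (not_lt.2 ?_)
    unfold qRoots
    have hsub : (((qCent M u).filter fun j => M j j == 4).map F).Subperm
        ((List.range 64).filter fun j => M j j == F 4) := by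
      refine List.Nodup.subperm (((List.Nodup.filter _ (List.Nodup.filter _ List.nodup_range))).map_on
        fun i hi j hj e => (hFmul i (List.mem_filter.1 hi).1 j (List.mem_filter.1 hj).1).1 e) ?_
      intro l hl
      obtain ⟨j, hj, rfl⟩ := List.mem_map.1 hl
      obtain ⟨hjc, hj4⟩ := List.mem_filter.1 hj
      rw [beq_iff_eq] at hj4
      refine List.mem_filter.2 ⟨List.mem_range.2 (hFj j hjc).1, beq_iff_eq.2 ?_⟩
      rw [← hj4]
      refine ((hFmul j hjc j hjc).2 ?_).symm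
      rw [hj4]
      exact (hcl (hlt hu)).2 ⟨by norm_num, (hzc _ (Q.mem u (hlt hu))).symm⟩
    simpa using hsub.length_le
  have hnot : ∀ u ∈ [8, 12], ¬ IsConj (φ 4) (φ u) := by
    intro u hu hc
    simp only [List.mem_cons, List.not_mem_nil, or_false] at hu
    obtain ⟨w, hw, hw4, -⟩ : ∃ w ∈ [4], w ≠ 4 ∧ IsConj (φ 4) (φ w) := by
      rcases hu with rfl | rfl
      · exact hfew [4] 8 h8 hc (by norm_num) hf8
      · exact hfew [4] 12 h12 hc (by norm_num) hf12
    simp at hw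
    exact hw4 hw
  obtain ⟨g, hg, hne⟩ := not_isolated hna P hz2 (show φ 4 ∈ (P : Subgroup G) from hP ▸ Q.mem 4 (by norm_num))
  obtain ⟨u, hu, eu, hu64⟩ := Q.idx (x := g * φ 4 * g⁻¹) (hP ▸ hg) (orderOf_of_isConj hz2 (isConj_iff.2 ⟨g, rfl⟩))
  have hc : IsConj (φ 4) (φ u) := isConj_iff.2 ⟨g, eu.symm⟩
  have hu4 : u ≠ 4 := by rintro rfl; exact hne eu.symm
  have huV : u ∉ [8, 12] := fun h => hnot u h hc
  rcases hall u hu with (h | h) | ⟨hel, hspan⟩
  · simp only [List.mem_cons, List.not_mem_nil, or_false] at h huV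
    omega
  · obtain ⟨w, hw, hw4, hcw⟩ := hfew [4, 8, 12] u hu hc hu4 h
    exact hnot w (by simpa [hw4] using hw) hcw
  obtain ⟨F, hFu, hw, hw4, hcw, hFj, hFmul⟩ := hmove u hu hc hu4
  simp only [qElem, Bool.and_eq_true, List.all_eq_true, List.any_eq_true, Bool.or_eq_true, beq_iff_eq,
    List.contains_iff_mem, Bool.not_eq_true', ← Bool.not_eq_true, List.mem_range] at hel
  obtain ⟨⟨hab, ⟨j, hj, hjn⟩⟩, hconj⟩ := hel
  have hu_c : u ∈ qCent M u := (hcl hu64).2 ⟨hu64, rfl⟩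
  have h4_c : 4 ∈ qCent M u := (hcl hu64).2 ⟨by norm_num, (hzc _ (Q.mem u hu64)).symm⟩
  have h0_c : 0 ∈ qCent M u := (hcl hu64).2 ⟨by norm_num, by rw [Q.one, one_mul, mul_one]⟩
  have hmul : ∀ {i l : ℕ}, i ∈ qCent M u → l ∈ qCent M u →
      mP a m k i l ∈ qCent M u ∧ F (mP a m k i l) = mP a m k (F i) (F l) := fun {i l} hi hl =>
    ⟨((hab i hi).2 l hl).2, (hFmul i hi l hl).2 ((hab i hi).2 l hl).2⟩
  have hF0 : F 0 = 0 := by
    obtain ⟨-, e⟩ := hmul h0_c h0_c
    obtain ⟨h1, h2⟩ := hFj 0 h0_c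
    refine Q.inj _ h1 0 (by norm_num) ?_
    rw [Q.one] at h2 ⊢
    exact (isConj_one_right.1 h2)
  have hjb : F j ∈ qInv M := by
    refine List.mem_filter.2 ⟨List.mem_range.2 (hFj j hj).1, ?_⟩
    simp only [Bool.and_eq_true, bne_iff_ne, beq_iff_eq]
    refine ⟨fun e => hjn ?_, ?_⟩
    · rw [← hF0] at e
      rw [(hFmul j hj 0 h0_c).1 e]
      simp
    · obtain ⟨-, e⟩ := hmul hj hj
      rw [(hab j hj).1, hF0] at e
      exact e.symm
  simp only [qSpan, List.all_eq_true, Bool.or_eq_true, beq_iff_eq, bne_iff_ne, List.contains_iff_mem] at hspan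
  have h4u := hmul h4_c hu_c
  have hj4u : mP a m k 4 u = mP a m k u 4 := ((hab 4 h4_c).2 u hu_c).1
  have himage : ∃ j₀ ∈ qCent M u, F j₀ = 8 := by
    rcases (hspan _ hw).resolve_left hw4 _ hjb with (h | h) | h
    · exfalso
      simp only [List.mem_cons, List.not_mem_nil, or_false] at h
      rcases h with h | h | h
      · rw [← hFu] at h
        exact hjn (by rw [(hFmul j hj u hu_c).1 h]; simp)
      · exact hjn (by rw [(hFmul j hj 4 h4_c).1 h]; simp)
      · rw [show mP a m k 4 (F 4) = F (mP a m k u 4) by rw [(hmul hu_c h4_c).2, hFu]] at h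
        exact hjn (by rw [(hFmul j hj _ (hmul hu_c h4_c).1).1 h]; simp)
    · exact absurd (by rw [← (hmul h4_c hj).2, ← (hmul hj h4_c).2, ((hab 4 h4_c).2 j hj).1]) h
    · simp only [List.mem_cons, List.not_mem_nil, or_false] at h
      rcases h with h | h | h | h | h | h
      · exact ⟨_, (hmul hu_c h4_c).1, by rw [(hmul hu_c h4_c).2, hFu, h]⟩
      · exact ⟨4, h4_c, h.symm⟩
      · exact ⟨j, hj, h.symm⟩
      · exact ⟨_, (hmul hu_c hj).1, by rw [(hmul hu_c hj).2, hFu, h]⟩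
      · exact ⟨_, (hmul h4_c hj).1, by rw [(hmul h4_c hj).2, h]⟩
      · exact ⟨_, (hmul hu_c (hmul h4_c hj).1).1, by
          rw [(hmul hu_c (hmul h4_c hj).1).2, (hmul h4_c hj).2, hFu, h]⟩
  obtain ⟨j₀, hj₀, e₀⟩ := himage
  have hout : ∀ i ∈ qCent M u, ¬ IsConj (φ 4) (φ i) → i ∈ [0, 4, 8, 12] := fun i hi hn => by
    rcases hconj i hi with h | ⟨p, hp, he⟩
    · exact h
    refine absurd (hc.trans (isConj_iff.2 ⟨φ p, mul_inv_eq_iff_eq_mul.2 ?_⟩)) hn
    rw [← Q.mul, ← Q.mul, he]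
  have hj₀' := hout j₀ hj₀ fun h => hnot 8 (by simp) (h.trans (e₀ ▸ (hFj j₀ hj₀).2))
  have hi0 := hmul hj₀ hu_c
  rw [e₀, hFu, h84] at hi0
  have hi' := hout _ hi0.1 fun h => hnot 12 (by simp) (h.trans (hi0.2 ▸ (hFj _ hi0.1).2))
  -- the product of the two is outside
  obtain ⟨huI, hu0⟩ := List.mem_filter.1 hu
  simp only [Bool.and_eq_true, bne_iff_ne, beq_iff_eq] at hu0
  simp only [List.mem_cons, List.not_mem_nil, or_false] at hj₀' hi'
  have hju : φ u = φ (mP a m k j₀ (mP a m k j₀ u)) := by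
    rw [Q.mul, Q.mul, ← mul_assoc, ← Q.mul, (hab j₀ hj₀).1, Q.one, one_mul]
  have hmem := hVcl j₀ (by simpa using hj₀') (mP a m k j₀ u) (by simpa using hi')
  rw [← Q.inj u hu64 _ (mP_lt a m k _ _ (mP_lt a m k _ _ hu64)) hju] at hmem
  simp only [List.mem_cons, List.not_mem_nil, or_false] at hmem huV
  omega

end QHyp

end CfsgLib.M12Syl
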