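import Cfsg.Agent.Lib.M12Syl.PKill
import Cfsg.Agent.Lib.M12Syl.Main

/-!
Recognition of M12 by a self-centralising element of order 8.
-/

set_option autoImplicit false
set_option linter.style.haveILetI false
set_option linter.unusedSectionVars false
set_option maxHeartbeats 1000000

namespace CfsgLib.M12Syl

open CfsgLib.M12Recog

/-- the indices of M12 of the remaining table -/
def qToSyl : List ℕ := [0, 33, 104, 65, 128, 89, 164, 169, 9, 40, 117, 48, 121, 80, 153, 184, 20, 25, 100, 61, 124, 85, 156, 189, 5, 36, 109, 68, 141, 72, 149, 180, 3, 35, 107, 67, 131, 91, 167, 171, 10, 42, 118, 50, 122, 82, 154, 186, 22, 26, 102, 62, 126, 86, 158, 190, 7, 39, 111, 71, 143, 75, 151, 183]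

theorem qToSyl_ok : (∀ n < 64, qToSyl.getD n 0 ∈ sylH) ∧
    (∀ i ∈ sylH, qToSyl.idxOf i < 64 ∧ qToSyl.getD (qToSyl.idxOf i) 0 = i) ∧
    (∀ n < 64, qToSyl.idxOf (qToSyl.getD n 0) = n) ∧
    ∀ i ∈ sylH, ∀ j ∈ sylH, qToSyl.idxOf (mH i j) = mP 0 0 0 (qToSyl.idxOf i) (qToSyl.idxOf j) := by
  have h : (((List.range 64).all fun n =>
      sylH.contains (qToSyl.getD n 0) && qToSyl.idxOf (qToSyl.getD n 0) == n) &&
    sylH.all fun i => Nat.blt (qToSyl.idxOf i) 64 && qToSyl.getD (qToSyl.idxOf i) 0 == i &&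
      sylH.all fun j => qToSyl.idxOf (mH i j) == mP 0 0 0 (qToSyl.idxOf i) (qToSyl.idxOf j)) = true := by
    decide +kernel
  simp only [Bool.and_eq_true, List.all_eq_true, List.mem_range, List.contains_iff_mem, beq_iff_eq,
    Nat.blt_eq] at h
  exact ⟨fun n hn => (h.1 n hn).1, fun i hi => (h.2 i hi).1, fun n hn => (h.1 n hn).2,
    fun i hi j hj => (h.2 i hi).2 j hj⟩

theorem kill_ok : ∀ a < 2, ∀ m < 2, ∀ k, (k = 0 ∨ k = 2) → (a = 0 ∧ m = 0 ∧ k = 0) ∨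
    killOK (mP a m k) = true := by
  have h : ([(0, 0, 2), (0, 1, 0), (0, 1, 2), (1, 0, 0), (1, 0, 2), (1, 1, 0), (1, 1, 2)].all
      fun u : ℕ × ℕ × ℕ => killOK (mP u.1 u.2.1 u.2.2)) = true := by decide +kernel
  simp only [List.all_eq_true] at h
  intro a ha m hm k hk
  rcases hk with rfl | rfl <;> interval_cases a <;> interval_cases m <;>
    first
    | exact .inl ⟨rfl, rfl, rfl⟩
    | exact .inr (h (_, _, _) (by simp))

theorem QHyp.toPHyp {G : Type*} [Group G] {φ : ℕ → G} {S : Subgroup G} (Q : QHyp 0 0 0 φ S) :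
    PHyp (fun i => φ (qToSyl.idxOf i)) S := by
  obtain ⟨h1, h2, h3, h4⟩ := qToSyl_ok
  refine ⟨fun i hi => Q.mem _ (h2 i hi).1, fun x hx => ?_, fun i hi j hj e => ?_, fun i hi j hj => ?_⟩
  · obtain ⟨n, hn, rfl⟩ := Q.surj x hx
    exact ⟨_, h1 n hn, congrArg φ (h3 n hn)⟩
  · rw [← (h2 i hi).2, ← (h2 j hj).2, Q.inj _ (h2 i hi).1 _ (h2 j hj).1 e]
  · show φ (qToSyl.idxOf (mH i j)) = _
    rw [h4 i hi j hj]
    exact Q.mul _ _

/-- **M12 from a self-centralising element of order 8.** -/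
theorem isoM12_of_eight {G : Type*} [Group G] [Finite G] [IsSimpleGroup G] (hna : ¬ IsMulCommutative G)
    (P : Sylow 2 G) (hP : Nat.card (P : Subgroup G) = 64) {f : G} (hfP : f ∈ (P : Subgroup G))
    (hf : orderOf f = 8)
    (hself : ∀ x ∈ (P : Subgroup G), x * f = f * x → x ∈ Subgroup.zpowers f)
    (hodd : ∀ k ∈ ({3, 5, 7} : Set ℕ), ∃ x ∈ (P : Subgroup G), x * f * x⁻¹ = f ^ k)
    (htwo : ∃ s t : G, orderOf s = 2 ∧ orderOf t = 2 ∧ ¬ IsConj s t) : Cfsg.Spor.IsoM12 G := by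
  obtain ⟨a, ha, m, hm, k, hk, φ, Q⟩ := exists_qhyp (P : Subgroup G) hP hfP hf hself hodd
  rcases kill_ok a ha m hm k hk with ⟨rfl, rfl, rfl⟩ | h
  · exact isoM12_of_phyp hna P Q.toPHyp htwo
  · exact (Q.kill hna P rfl h).elim

end CfsgLib.M12Syl
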