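import Cfsg.Agent.Lib.M12Syl.PTab

/-!
The tables cover all groups of order 64 with an element of order 8 fused to all its odd powers.
-/

set_option autoImplicit false
set_option linter.style.haveILetI false
set_option linter.unusedSectionVars false
set_option maxHeartbeats 1000000

namespace CfsgLib.M12Syl

/-- `S` is described by `φ` on `0, ..., 63` with the table `mP a m k`. -/
structure QHyp {G : Type*} [Group G] (a m k : ℕ) (φ : ℕ → G) (S : Subgroup G) : Prop where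
  mem : ∀ i < 64, φ i ∈ S
  surj : ∀ x ∈ S, ∃ i < 64, φ i = x
  inj : ∀ i < 64, ∀ j < 64, φ i = φ j → i = j
  mul : ∀ i j, φ (mP a m k i j) = φ i * φ j
  one : φ 0 = 1

theorem exists_qhyp {G : Type*} [Group G] [Finite G] (P : Subgroup G) (hP : Nat.card P = 64) {f : G}
    (hfP : f ∈ P) (hf : orderOf f = 8)
    (hself : ∀ x ∈ P, x * f = f * x → x ∈ Subgroup.zpowers f)
    (hodd : ∀ k ∈ ({3, 5, 7} : Set ℕ), ∃ x ∈ P, x * f * x⁻¹ = f ^ k) :
    ∃ a < 2, ∃ m < 2, ∃ k, (k = 0 ∨ k = 2) ∧ ∃ φ : ℕ → G, QHyp a m k φ P := by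
  classical
  have hfi : ∀ {i j : ℕ}, f ^ i = f ^ j ↔ i % 8 = j % 8 := fun {i j} => by rw [← hf]; exact pow_inj_mod
  have hf8 : f ^ 8 = 1 := by rw [← hf]; exact pow_orderOf_eq_one f
  have hF : ∀ {w : G}, w ∈ P → w * f * w⁻¹ = f → ∃ i : ℕ, w = f ^ i := fun {w} hw h => by
    obtain ⟨i, hi⟩ := Submonoid.mem_powers_iff w f |>.1
      ((isOfFinOrder_of_finite f).mem_powers_iff_mem_zpowers.2 (hself w hw (mul_inv_eq_iff_eq_mul.1 h)))
    exact ⟨i, hi.symm⟩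
  have hcj : ∀ {w : G} {e : ℕ}, w * f * w⁻¹ = f ^ e → ∀ i : ℕ, w * f ^ i * w⁻¹ = f ^ (e * i) := by
    intro w e h i
    rw [← conj_pow, h, pow_mul]
  have hpush : ∀ {w : G} {e : ℕ}, w * f * w⁻¹ = f ^ e → ∀ i : ℕ, w * f ^ i = f ^ (e * i) * w := fun h i =>
    mul_inv_eq_iff_eq_mul.1 (hcj h i)
  have hodd' : ∀ {w : G} {j : ℕ}, w * f * w⁻¹ = f ^ j → j % 2 = 1 := by
    intro w j h
    by_contra hj
    have h4 := hcj h 4
    rw [hfi.2 (show j * 4 % 8 = 0 % 8 by omega), pow_zero, conj_eq_one_iff, ← pow_zero f, hfi] at h4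
    omega
  -- the generators of the normaliser of `<f>`
  obtain ⟨t, htP, htf, ht2⟩ : ∃ t ∈ P, t * f * t⁻¹ = f ^ 5 ∧ t * t = 1 := by
    obtain ⟨t, htP, ht⟩ := hodd 5 (by simp)
    obtain ⟨b, hb⟩ := hF (mul_mem htP htP) (by
      rw [show t * t * f * (t * t)⁻¹ = t * (t * f * t⁻¹) * t⁻¹ by group, ht, hcj ht 5]
      exact (hfi.2 (show 5 * 5 % 8 = 1 % 8 by norm_num)).trans (pow_one f))
    have hb2 : (5 * b) % 8 = b % 8 := hfi.1 (by rw [← hcj ht b, ← hb]; group)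
    refine ⟨f ^ (b / 2) * t, mul_mem (pow_mem hfP _) htP, ?_, ?_⟩
    · rw [show f ^ (b / 2) * t * f * (f ^ (b / 2) * t)⁻¹ = f ^ (b / 2) * (t * f * t⁻¹) * (f ^ (b / 2))⁻¹ by group,
        ht, mul_inv_eq_iff_eq_mul, ← pow_add, ← pow_add, add_comm]
    · rw [show f ^ (b / 2) * t * (f ^ (b / 2) * t) = f ^ (b / 2) * (t * f ^ (b / 2)) * t by group,
        hpush ht, show f ^ (b / 2) * (f ^ (5 * (b / 2)) * t) * t = f ^ (b / 2) * f ^ (5 * (b / 2)) * (t * t) by group,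
        hb, ← pow_add, ← pow_add, ← pow_zero f, hfi]
      omega
  have hti : t⁻¹ = t := inv_eq_of_mul_eq_one_right ht2
  have htfp := fun i : ℕ => hpush htf i
  obtain ⟨s, a, ha, hsP, hsf, hs2, hst⟩ : ∃ s : G, ∃ a : ℕ, a < 2 ∧ s ∈ P ∧ s * f * s⁻¹ = f ^ 7 ∧
      s * s = f ^ (4 * a) ∧ s * t = t * s := by
    obtain ⟨s, hsP, hs⟩ := hodd 7 (by simp)
    obtain ⟨a, ha⟩ := hF (mul_mem hsP hsP) (by
      rw [show s * s * f * (s * s)⁻¹ = s * (s * f * s⁻¹) * s⁻¹ by group, hs, hcj hs 7]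
      exact (hfi.2 (show 7 * 7 % 8 = 1 % 8 by norm_num)).trans (pow_one f))
    have ha2 : (7 * a) % 8 = a % 8 := hfi.1 (by rw [← hcj hs a, ← ha]; group)
    have hsi : s⁻¹ * f * s = f ^ 7 := by
      have h := hcj hs 7
      rw [hfi.2 (show 7 * 7 % 8 = 1 % 8 by norm_num), pow_one] at h
      calc s⁻¹ * f * s = s⁻¹ * (s * f ^ 7 * s⁻¹) * s := by rw [h]
        _ = f ^ 7 := by group
    obtain ⟨c, hc⟩ := hF (w := s * t * s⁻¹ * t) (mul_mem (mul_mem (mul_mem hsP htP) (inv_mem hsP)) htP) (by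
      calc s * t * s⁻¹ * t * f * (s * t * s⁻¹ * t)⁻¹
          = s * (t * (s⁻¹ * (t * f * t⁻¹) * s) * t⁻¹) * s⁻¹ := by group
        _ = f := by
          rw [htf, show s⁻¹ * f ^ 5 * s = (s⁻¹ * f * s) ^ 5 by rw [show s⁻¹ * f * s = s⁻¹ * f * s⁻¹⁻¹ by group, conj_pow, inv_inv],
            hsi, ← pow_mul, hcj htf, hcj hs]
          exact (hfi.2 (show 7 * (5 * (7 * 5)) % 8 = 1 % 8 by norm_num)).trans (pow_one f))
    have hstt : s * t * s⁻¹ = f ^ c * t := by rw [← hc, mul_assoc _ t t, ht2, mul_one]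
    have hc2 : (6 * c) % 8 = 0 := hfi.1 (show f ^ (6 * c) = f ^ 0 by
      rw [pow_zero]
      calc f ^ (6 * c) = f ^ c * (f ^ (5 * c) * t) * t := by
            rw [show f ^ c * (f ^ (5 * c) * t) * t = f ^ c * f ^ (5 * c) * (t * t) by group, ht2, mul_one,
              ← pow_add]
            exact hfi.2 (by omega)
        _ = f ^ c * t * (f ^ c * t) := by rw [← htfp]; group
        _ = 1 := by
          rw [← hstt, show s * t * s⁻¹ * (s * t * s⁻¹) = s * (t * t) * s⁻¹ by group, ht2]; group)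
    have hs2 : s * s = f ^ (4 * (a / 4 % 2)) := ha.trans (hfi.2 (by omega))
    rcases (show c % 8 = 0 ∨ c % 8 = 4 by omega) with hc0 | hc4
    · refine ⟨s, a / 4 % 2, Nat.mod_lt _ two_pos, hsP, hs, hs2, ?_⟩
      rw [← mul_inv_eq_iff_eq_mul, hstt, hfi.2 (hc0.trans (Nat.zero_mod 8).symm), pow_zero, one_mul]
    · refine ⟨s * f, a / 4 % 2, Nat.mod_lt _ two_pos, mul_mem hsP hfP, ?_, ?_, ?_⟩
      · rw [show s * f * f * (s * f)⁻¹ = s * f * s⁻¹ by group, hs]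
      · rw [show s * f * (s * f) = s * f * s⁻¹ * (s * s) * f by group, hs, hs2, ← pow_add, ← pow_succ]
        exact hfi.2 (by omega)
      · rw [← mul_inv_eq_iff_eq_mul]
        calc s * f * t * (s * f)⁻¹ = s * (f * (t * f ^ 7)) * s⁻¹ * ((f ^ 8)⁻¹) ^ 0 := by
              rw [show (s * f)⁻¹ = f ^ 7 * s⁻¹ by
                rw [mul_inv_rev, inv_eq_of_mul_eq_one_right (show f * f ^ 7 = 1 by rw [← pow_succ', hf8])]]
              group
          _ = s * f ^ 36 * s⁻¹ * (s * t * s⁻¹) := by rw [pow_zero, mul_one, htfp]; group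
          _ = t := by
            rw [hcj hs, hstt, ← mul_assoc, ← pow_add, hfi.2 (show (7 * 36 + c) % 8 = 0 % 8 by omega), pow_zero,
              one_mul]
  have hsfp := fun i : ℕ => hpush hsf i
  -- the normaliser
  set N := P ⊓ Subgroup.normalizer (Subgroup.zpowers f : Set G) with hN
  have hmemN : ∀ {w : G} {e : ℕ}, w ∈ P → w * f * w⁻¹ = f ^ e → w ∈ N := by
    intro w e hw h
    refine Subgroup.mem_inf.2 ⟨hw, ?_⟩
    have hmap : (Subgroup.zpowers f).map (MulAut.conj w).toMonoidHom ≤ Subgroup.zpowers f := by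
      rw [MonoidHom.map_zpowers, Subgroup.zpowers_le]
      show w * f * w⁻¹ ∈ _
      rw [h]; exact Subgroup.npow_mem_zpowers f e
    have heq := Subgroup.eq_of_le_of_card_ge hmap
      (by rw [Subgroup.card_map_of_injective (MulEquiv.injective _)])
    refine Subgroup.mem_normalizer_iff.2 fun y => ⟨fun hy => hmap ⟨y, hy, rfl⟩, fun hy => ?_⟩
    obtain ⟨z, hz, e'⟩ := heq.ge hy
    exact (mul_left_cancel (mul_right_cancel e') : z = y) ▸ hz
  have hNform : ∀ w ∈ N, ∃ i p q : ℕ, p < 2 ∧ q < 2 ∧ w = f ^ i * t ^ p * s ^ q := by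
    intro w hw
    obtain ⟨hwP, hwn⟩ := Subgroup.mem_inf.1 hw
    obtain ⟨j, hj⟩ := Submonoid.mem_powers_iff _ f |>.1 ((isOfFinOrder_of_finite f).mem_powers_iff_mem_zpowers.2
      ((Subgroup.mem_normalizer_iff.1 hwn f).1 (Subgroup.mem_zpowers f)))
    have hj2 := hodd' hj.symm
    have hpick : ∃ p q e : ℕ, p < 2 ∧ q < 2 ∧ e % 8 = j % 8 ∧ t ^ p * s ^ q ∈ P ∧
        t ^ p * s ^ q * f * (t ^ p * s ^ q)⁻¹ = f ^ e := by
      have h35 : t * s * f * (t * s)⁻¹ = f ^ (5 * 7) := by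
        rw [show t * s * f * (t * s)⁻¹ = t * (s * f * s⁻¹) * t⁻¹ by group, hsf, hcj htf]
      rcases (show j % 8 = 1 ∨ j % 8 = 3 ∨ j % 8 = 5 ∨ j % 8 = 7 by omega) with h | h | h | h
      · exact ⟨0, 0, 1, by omega, by omega, by omega, by simp, by simp⟩
      · exact ⟨1, 1, 35, by omega, by omega, by omega, by simpa using mul_mem htP hsP, by simpa using h35⟩
      · exact ⟨1, 0, 5, by omega, by omega, by omega, by simpa using htP, by simpa using htf⟩
      · exact ⟨0, 1, 7, by omega, by omega, by omega, by simpa using hsP, by simpa using hsf⟩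
    obtain ⟨p, q, e, hp, hq, he, hvP, hv⟩ := hpick
    set v := t ^ p * s ^ q
    obtain ⟨i, hi⟩ := hF (w := v⁻¹ * w) (mul_mem (inv_mem hvP) hwP) (by
      calc v⁻¹ * w * f * (v⁻¹ * w)⁻¹ = v⁻¹ * (w * f * w⁻¹) * v := by group
        _ = f := by rw [← hj, hfi.2 he.symm, ← hv]; group)
    refine ⟨e * i, p, q, hp, hq, ?_⟩
    calc w = v * (v⁻¹ * w) := by group
      _ = _ := by rw [hi, hpush hv, mul_assoc]
  have hconj3 : ∀ p q : ℕ, p < 2 → q < 2 → ∃ e, e % 8 = ([1, 7, 5, 3] : List ℕ).getD (2 * p + q) 0 ∧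
      ∀ i : ℕ, f ^ i * t ^ p * s ^ q * f = f ^ e * (f ^ i * t ^ p * s ^ q) := by
    intro p q hp hq
    refine ⟨5 ^ p * 7 ^ q, ?_, fun i => ?_⟩
    · interval_cases p <;> interval_cases q <;> rfl
    · interval_cases p <;> interval_cases q <;> simp only [pow_zero, pow_one, mul_one, one_mul]
      · rw [← pow_succ, ← pow_succ']
      · rw [mul_assoc, show s * f = f ^ 7 * s from mul_inv_eq_iff_eq_mul.1 hsf, ← mul_assoc, ← pow_add,
          ← mul_assoc, ← pow_add, add_comm]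
      · rw [mul_assoc, show t * f = f ^ 5 * t from mul_inv_eq_iff_eq_mul.1 htf, ← mul_assoc, ← pow_add,
          ← mul_assoc, ← pow_add, add_comm]
      · rw [mul_assoc, show s * f = f ^ 7 * s from mul_inv_eq_iff_eq_mul.1 hsf, ← mul_assoc,
          mul_assoc _ t, htfp 7, show f ^ i * (f ^ (5 * 7) * t) * s = f ^ i * f ^ (5 * 7) * t * s by group,
          ← pow_add, ← mul_assoc, ← mul_assoc, ← pow_add, add_comm]
  have huniq : ∀ {i i' p p' q q' : ℕ}, p < 2 → p' < 2 → q < 2 → q' < 2 →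
      f ^ i * t ^ p * s ^ q = f ^ i' * t ^ p' * s ^ q' → p = p' ∧ q = q' ∧ i % 8 = i' % 8 := by
    intro i i' p p' q q' hp hp' hq hq' h
    obtain ⟨e, he, hec⟩ := hconj3 p q hp hq
    obtain ⟨e', he', hec'⟩ := hconj3 p' q' hp' hq'
    have h' := hec i
    rw [h, hec' i', mul_left_inj, hfi] at h'
    have hpq : p = p' ∧ q = q' := by
      interval_cases p <;> interval_cases p' <;> interval_cases q <;> interval_cases q' <;>
        simp at he he' <;> omega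
    obtain ⟨rfl, rfl⟩ := hpq
    exact ⟨rfl, rfl, hfi.1 (mul_right_cancel (mul_right_cancel h))⟩
  have hNmem : ∀ i p q : ℕ, f ^ i * t ^ p * s ^ q ∈ N := fun i p q => by
    have hf' : f ∈ N := hmemN hfP (e := 1) (by group)
    exact mul_mem (mul_mem (pow_mem hf' _) (pow_mem (hmemN htP htf) _)) (pow_mem (hmemN hsP hsf) _)
  have hN32 : Nat.card N = 32 := by
    let F : Fin 8 × Fin 2 × Fin 2 → N := fun u => ⟨_, hNmem u.1 u.2.1 u.2.2⟩
    have hb : Function.Bijective F := by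
      refine ⟨fun u v h => ?_, fun ⟨w, hw⟩ => ?_⟩
      · obtain ⟨h1, h2, h3⟩ := huniq u.2.1.2 v.2.1.2 u.2.2.2 v.2.2.2 (congrArg Subtype.val h :)
        have := u.1.2; have := v.1.2
        exact Prod.ext (Fin.ext (by omega)) (Prod.ext (Fin.ext h1) (Fin.ext h2))
      · obtain ⟨i, p, q, hp, hq, rfl⟩ := hNform w hw
        exact ⟨(⟨i % 8, by omega⟩, ⟨p, hp⟩, ⟨q, hq⟩), Subtype.ext (by
          show f ^ (i % 8) * t ^ p * s ^ q = _
          rw [hfi.2 (Nat.mod_mod i 8)])⟩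
    rw [← Nat.card_eq_of_bijective F hb]
    simp
  set N' := N.subgroupOf P with hN'
  have hidx : N'.index = 2 := by
    have h := N'.card_mul_index
    rw [hN', Nat.card_congr (Subgroup.subgroupOfEquivOfLe (inf_le_left : N ≤ P)).toEquiv, hN32, hP] at h
    rw [hN']; omega
  haveI := Subgroup.normal_of_index_eq_two hidx
  have hnorm : ∀ {w y : G}, w ∈ P → y ∈ N → w * y * w⁻¹ ∈ N := fun {w y} hw hy =>
    Subgroup.mem_subgroupOf.1 (Subgroup.Normal.conj_mem inferInstance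
      (⟨y, (Subgroup.mem_inf.1 hy).1⟩ : P) (Subgroup.mem_subgroupOf.2 hy) ⟨w, hw⟩)
  obtain ⟨x₀, hx₀P, hx₀N⟩ := SetLike.exists_of_lt (lt_of_le_of_ne (inf_le_left : N ≤ P) fun h => by
    rw [hN, h, hP] at hN32; omega)
  -- an element moving `f` to `f * t`
  obtain ⟨x₁, hx₁P, hx₁N, hx₁f⟩ : ∃ x ∈ P, x ∉ N ∧ x * f * x⁻¹ = f * t := by
    obtain ⟨i, p, q, hp, hq, he⟩ := hNform _ (hnorm hx₀P (hmemN hfP (e := 1) (by group)))
    have h4 : ∀ j : ℕ, 4 ∣ j → (f ^ i * t ^ p * s ^ q) ^ 2 = f ^ j → False := by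
      intro j hj h
      have h' : f ^ 4 = f ^ 0 := by
        have h'' : (x₀ * f * x₀⁻¹) ^ 4 = 1 := by
          rw [he, show 4 = 2 * 2 from rfl, pow_mul, h, ← pow_mul, ← pow_zero f, hfi]; omega
        rw [conj_pow, conj_eq_one_iff] at h''
        rw [h'', pow_zero]
      rw [hfi] at h'
      omega
    have hq0 : q = 0 := by
      by_contra hq'
      obtain rfl : q = 1 := by omega
      refine h4 (i + 5 ^ p * (7 * i) + 4 * a) ?_ ?_
      · have h3 : ∀ b, 4 ∣ b → 4 ∣ b + 4 * a := fun b hb => dvd_add hb (dvd_mul_right _ _)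
        refine h3 _ ?_
        interval_cases p <;> omega
      interval_cases p
      · simp only [pow_zero, mul_one, pow_one, one_mul, pow_two]
        calc f ^ i * s * (f ^ i * s) = f ^ i * (s * f ^ i) * s := by group
          _ = f ^ i * f ^ (7 * i) * (s * s) := by rw [hsfp]; group
          _ = _ := by rw [hs2, ← pow_add, ← pow_add]
      · simp only [pow_one, pow_two]
        calc f ^ i * t * s * (f ^ i * t * s) = f ^ i * t * (s * f ^ i) * t * s := by group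
          _ = f ^ i * (t * f ^ (7 * i)) * (s * t) * s := by rw [hsfp]; group
          _ = f ^ i * f ^ (5 * (7 * i)) * (t * t) * (s * s) := by rw [htfp, hst]; group
          _ = _ := by rw [ht2, mul_one, hs2, ← pow_add, ← pow_add]
    subst hq0
    have hp1 : p = 1 := by
      by_contra hp'
      obtain rfl : p = 0 := by omega
      exact hx₀N (hmemN hx₀P (e := i) (by simpa using he))
    subst hp1
    rw [pow_one, pow_zero, mul_one] at he
    have hi2 : i % 2 = 1 := by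
      by_contra hi
      refine h4 (6 * i) (by omega) ?_
      rw [pow_two, pow_zero, mul_one, pow_one,
        show f ^ i * t * (f ^ i * t) = f ^ i * (t * f ^ i) * t by group, htfp,
        show f ^ i * (f ^ (5 * i) * t) * t = f ^ i * f ^ (5 * i) * (t * t) by group, ht2, mul_one, ← pow_add]
      exact hfi.2 (by omega)
    obtain ⟨w, e, hw, hwt, hwe, hwv⟩ : ∃ w : G, ∃ e : ℕ, w ∈ N ∧ w * t = t * w ∧ e * i % 8 = 1 ∧
        w * f * w⁻¹ = f ^ e := by
      rcases (show i % 8 = 1 ∨ i % 8 = 3 ∨ i % 8 = 5 ∨ i % 8 = 7 by omega) with h | h | h | h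
      · exact ⟨1, 1, one_mem _, by group, by omega, by group⟩
      · refine ⟨t * s, 35, mul_mem (hmemN htP htf) (hmemN hsP hsf), ?_, by omega, ?_⟩
        · rw [mul_assoc, hst]
        · rw [show t * s * f * (t * s)⁻¹ = t * (s * f * s⁻¹) * t⁻¹ by group, hsf, hcj htf]
      · exact ⟨t, 5, hmemN htP htf, rfl, by omega, htf⟩
      · exact ⟨s, 7, hmemN hsP hsf, hst, by omega, hsf⟩
    refine ⟨w * x₀, mul_mem (Subgroup.mem_inf.1 hw).1 hx₀P, fun h => hx₀N ?_, ?_⟩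
    · rwa [N.mul_mem_cancel_left hw] at h
    · rw [show w * x₀ * f * (w * x₀)⁻¹ = w * (x₀ * f * x₀⁻¹) * w⁻¹ by group, he,
        show w * (f ^ i * t) * w⁻¹ = w * f ^ i * w⁻¹ * (w * t * w⁻¹) by group, hcj hwv,
        hfi.2 (show e * i % 8 = 1 % 8 by omega), pow_one, mul_inv_eq_iff_eq_mul.2 hwt]
  have hft : ∀ i : ℕ, (f * t) ^ i = f ^ (3 * i + 6 * (i % 2)) * t ^ (i % 2) := by
    intro i
    have h2 : f * t * (f * t) = f ^ 6 := by
      rw [show f * t * (f * t) = f * (t * f ^ 1) * t by group, htfp,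
        show f * (f ^ (5 * 1) * t) * t = f * f ^ 5 * (t * t) by group, ht2, mul_one, ← pow_succ']
    rcases Nat.even_or_odd' i with ⟨l, rfl | rfl⟩
    · rw [pow_mul, pow_two, h2, ← pow_mul, show 2 * l % 2 = 0 by omega, pow_zero, mul_one, hfi]; omega
    · rw [pow_succ, pow_mul, pow_two, h2, ← pow_mul, show (2 * l + 1) % 2 = 1 by omega, pow_one, ← mul_assoc,
        ← pow_succ, hfi.2 (show (6 * l + 1) % 8 = (3 * (2 * l + 1) + 6 * 1) % 8 by omega)]
  have htF : ∀ i : ℕ, f ^ i ≠ t := fun i h => by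
    have h' : f ^ 5 = f ^ 1 := by rw [← htf, ← h]; group
    rw [hfi] at h'; omega
  have hx₁pow : ∀ i : ℕ, x₁ * f ^ i * x₁⁻¹ = f ^ (3 * i + 6 * (i % 2)) * t ^ (i % 2) := fun i => by
    rw [← conj_pow, hx₁f, hft]
  obtain ⟨x₂, hx₂P, hx₂f, hx₂t⟩ : ∃ x ∈ P, x * f * x⁻¹ = f * t ∧ x * t * x⁻¹ = t := by
    obtain ⟨i, p, q, hp, hq, he⟩ := hNform _ (hnorm hx₁P (hmemN htP htf))
    have hq0 : q = 0 := by
      by_contra hq'
      obtain rfl : q = 1 := by omega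
      have hc := congrArg (fun z => x₁ * z * x₁⁻¹) (htfp 2)
      simp only [show ∀ u v : G, x₁ * (u * v) * x₁⁻¹ = x₁ * u * x₁⁻¹ * (x₁ * v * x₁⁻¹) from fun u v => by group,
        he, hx₁pow, pow_zero, mul_one, Nat.reduceMul, Nat.reduceMod, Nat.reduceAdd] at hc
      interval_cases p
      · simp only [pow_zero, mul_one, pow_one] at hc
        rw [mul_assoc, hsfp, ← mul_assoc, ← mul_assoc, ← pow_add, ← pow_add, mul_left_inj, hfi] at hc
        omega
      · simp only [pow_one] at hc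
        rw [mul_assoc (f ^ i * t), hsfp, show f ^ i * t * (f ^ (7 * 6) * s) = f ^ i * (t * f ^ (7 * 6)) * s by group,
          htfp, ← mul_assoc, ← pow_add, ← mul_assoc (f ^ 30), ← mul_assoc (f ^ 30), ← pow_add, mul_left_inj,
          mul_left_inj, hfi] at hc
        omega
    subst hq0
    rw [pow_zero, mul_one] at he
    have hsq : f ^ i * t ^ p * (f ^ i * t ^ p) = 1 := by
      rw [← he, show x₁ * t * x₁⁻¹ * (x₁ * t * x₁⁻¹) = x₁ * (t * t) * x₁⁻¹ by group, ht2]; group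
    have hp1 : p = 1 := by
      by_contra hp'
      obtain rfl : p = 0 := by omega
      rw [pow_zero, mul_one, ← pow_add, ← pow_zero f, hfi] at hsq
      rw [pow_zero, mul_one] at he
      rcases (show i % 8 = 0 % 8 ∨ i % 8 = 4 % 8 by omega) with h | h
      · rw [hfi.2 h, pow_zero, conj_eq_one_iff] at he
        exact htF 0 (by rw [pow_zero, he])
      · refine htF 4 ?_
        have h' := hx₁pow 4
        simp only [Nat.reduceMul, Nat.reduceMod, Nat.reduceAdd, pow_zero, mul_one] at h'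
        rw [hfi.2 (show 12 % 8 = i % 8 by omega), ← he] at h'
        exact mul_left_cancel (mul_right_cancel h')
    subst hp1
    rw [pow_one] at he hsq
    rw [show f ^ i * t * (f ^ i * t) = f ^ i * (t * f ^ i) * t by group, htfp,
      show f ^ i * (f ^ (5 * i) * t) * t = f ^ i * f ^ (5 * i) * (t * t) by group, ht2, mul_one, ← pow_add,
      ← pow_zero f, hfi] at hsq
    rcases (show i % 8 = 0 % 8 ∨ i % 8 = 4 % 8 by omega) with h | h
    · exact ⟨x₁, hx₁P, hx₁f, by rw [he, hfi.2 h, pow_zero, one_mul]⟩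
    · refine ⟨x₁ * f, mul_mem hx₁P hfP, by rw [show x₁ * f * f * (x₁ * f)⁻¹ = x₁ * f * x₁⁻¹ by group, hx₁f], ?_⟩
      have hfT : f * t = f ^ 4 * (t * f ^ 1) := by
        rw [htfp, ← mul_assoc, ← pow_add, hfi.2 (show (4 + 5 * 1) % 8 = 1 % 8 by norm_num), pow_one]
      calc x₁ * f * t * (x₁ * f)⁻¹ = x₁ * (f * t) * f⁻¹ * x₁⁻¹ := by group
        _ = x₁ * f ^ 4 * x₁⁻¹ * (x₁ * t * x₁⁻¹) := by rw [hfT]; group
        _ = t := by
          rw [he, hx₁pow, ← mul_assoc, show (4 : ℕ) % 2 = 0 from rfl, pow_zero, mul_one, ← pow_add,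
            hfi.2 (show (3 * 4 + 6 * 0 + i) % 8 = 0 % 8 by omega), pow_zero, one_mul]
  have hxpow : ∀ i : ℕ, x₂ * f ^ i * x₂⁻¹ = f ^ (3 * i + 6 * (i % 2)) * t ^ (i % 2) := fun i => by
    rw [← conj_pow, hx₂f, hft]
  obtain ⟨m, hm, hxx⟩ : ∃ m < 2, x₂ * x₂ = f ^ (4 * m) := by
    obtain ⟨m, hm⟩ := hF (mul_mem hx₂P hx₂P) (by
      rw [show x₂ * x₂ * f * (x₂ * x₂)⁻¹ = x₂ * (x₂ * f * x₂⁻¹) * x₂⁻¹ by group, hx₂f,
        show x₂ * (f * t) * x₂⁻¹ = x₂ * f * x₂⁻¹ * (x₂ * t * x₂⁻¹) by group, hx₂f, hx₂t, mul_assoc, ht2,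
        mul_one])
    have h := hxpow m
    rw [show x₂ * f ^ m * x₂⁻¹ = f ^ m by rw [← hm]; group] at h
    rcases Nat.mod_two_eq_zero_or_one m with h2 | h2 <;> rw [h2] at h
    · rw [pow_zero, mul_one, hfi] at h
      exact ⟨m / 4 % 2, Nat.mod_lt _ two_pos, hm.trans (hfi.2 (by omega))⟩
    · rw [pow_one] at h
      refine absurd ?_ (htF (7 * (3 * m + 6) + m))
      rw [pow_add, h, show (6 : ℕ) * 1 = 6 from rfl, ← mul_assoc, ← pow_add,
        hfi.2 (show (7 * (3 * m + 6) + (3 * m + 6)) % 8 = 0 % 8 by omega), pow_zero, one_mul]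
  obtain ⟨i, p, q, hp, hq, he⟩ := hNform _ (hnorm hx₂P (hmemN hsP hsf))
  have hpq : i % 2 = 0 ∧ p = 1 ∧ q = 1 := by
    have hc1 : f ^ i * t ^ p * s ^ q * t = t * (f ^ i * t ^ p * s ^ q) := by
      calc f ^ i * t ^ p * s ^ q * t = x₂ * s * x₂⁻¹ * (x₂ * t * x₂⁻¹) := by rw [he, hx₂t]
        _ = x₂ * (s * t) * x₂⁻¹ := by group
        _ = x₂ * t * x₂⁻¹ * (x₂ * s * x₂⁻¹) := by rw [hst]; group
        _ = _ := by rw [he, hx₂t]
    have hi : i % 2 = 0 := by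
      rw [mul_assoc (f ^ i * t ^ p), ((show Commute s t from hst).pow_left q).eq, ← mul_assoc,
        mul_assoc (f ^ i) (t ^ p) t, ((Commute.refl t).pow_left p).eq] at hc1
      simp only [← mul_assoc] at hc1
      rw [htfp, mul_left_inj, mul_left_inj, mul_left_inj, hfi] at hc1
      omega
    obtain ⟨e, he', hec⟩ := hconj3 p q hp hq
    have hc2 : f ^ i * t ^ p * s ^ q * (f * t) = f ^ 3 * t * (f ^ i * t ^ p * s ^ q) := by
      have e7 := hxpow 7
      simp only [Nat.reduceMul, Nat.reduceMod, Nat.reduceAdd, pow_one] at e7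
      rw [hfi.2 (show 27 % 8 = 3 % 8 by norm_num)] at e7
      calc f ^ i * t ^ p * s ^ q * (f * t) = x₂ * s * x₂⁻¹ * (x₂ * f * x₂⁻¹) := by rw [he, hx₂f]
        _ = x₂ * (s * f ^ 1) * x₂⁻¹ := by group
        _ = x₂ * f ^ 7 * x₂⁻¹ * (x₂ * s * x₂⁻¹) := by rw [hsfp]; group
        _ = _ := by rw [he, e7]
    rw [← mul_assoc, hec, mul_assoc (f ^ e), hc1, ← mul_assoc, mul_left_inj, mul_left_inj, hfi] at hc2
    refine ⟨hi, ?_⟩
    interval_cases p <;> interval_cases q <;> simp at he' <;> omega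
  obtain ⟨hi, rfl, rfl⟩ := hpq
  rw [pow_one, pow_one] at he
  obtain ⟨x, k, hk, hxP, hxN, hxf, hxt, hx2, hxs⟩ : ∃ x : G, ∃ k : ℕ, (k = 0 ∨ k = 2) ∧ x ∈ P ∧ x ∉ N ∧
      x * f * x⁻¹ = f * t ∧ x * t * x⁻¹ = t ∧ x * x = f ^ (4 * m) ∧ x * s * x⁻¹ = s * f ^ k * t := by
    have hn : ∀ y : G, y * f * y⁻¹ = f * t → y ∉ N := fun y hy hyN => by
      obtain ⟨j, hj⟩ := Submonoid.mem_powers_iff _ f |>.1 ((isOfFinOrder_of_finite f).mem_powers_iff_mem_zpowers.2
        ((Subgroup.mem_normalizer_iff.1 (Subgroup.mem_inf.1 hyN).2 f).1 (Subgroup.mem_zpowers f)))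
      rw [hy] at hj
      exact htF (7 + j) (by rw [pow_add, hj, ← mul_assoc, ← pow_succ, hf8, one_mul])
    have hform : ∀ {y : G} {j k : ℕ}, y * s * y⁻¹ = f ^ j * t * s → j % 8 = 7 * k % 8 →
        y * s * y⁻¹ = s * f ^ k * t := by
      intro y j k h hjk
      rw [h, hsfp, mul_assoc (f ^ (7 * k)), hst, hfi.2 hjk, mul_assoc]
    rcases (show i % 8 = 0 ∨ i % 8 = 6 ∨ i % 8 = 4 ∨ i % 8 = 2 by omega) with h | h | h | h
    · exact ⟨x₂, 0, .inl rfl, hx₂P, hn _ hx₂f, hx₂f, hx₂t, hxx, hform he (by omega)⟩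
    · exact ⟨x₂, 2, .inr rfl, hx₂P, hn _ hx₂f, hx₂f, hx₂t, hxx, hform he (by omega)⟩
    all_goals
      have hy1 : x₂ * f ^ 2 * f * (x₂ * f ^ 2)⁻¹ = f * t := by
        rw [show x₂ * f ^ 2 * f * (x₂ * f ^ 2)⁻¹ = x₂ * f * x₂⁻¹ by group, hx₂f]
      have hy2 : x₂ * f ^ 2 * t * (x₂ * f ^ 2)⁻¹ = t := by
        have h2t : f ^ 2 * t = t * f ^ 2 := by rw [htfp, hfi.2 (show 5 * 2 % 8 = 2 % 8 by norm_num)]
        calc x₂ * f ^ 2 * t * (x₂ * f ^ 2)⁻¹ = x₂ * (f ^ 2 * t) * (f ^ 2)⁻¹ * x₂⁻¹ := by group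
          _ = t := by rw [h2t, show x₂ * (t * f ^ 2) * (f ^ 2)⁻¹ * x₂⁻¹ = x₂ * t * x₂⁻¹ by group, hx₂t]
      have hy3 : x₂ * f ^ 2 * (x₂ * f ^ 2) = f ^ (4 * m) := by
        rw [show x₂ * f ^ 2 * (x₂ * f ^ 2) = x₂ * f ^ 2 * x₂⁻¹ * (x₂ * x₂) * f ^ 2 by group, hxpow, hxx,
          show (2 : ℕ) % 2 = 0 from rfl, pow_zero, mul_one, ← pow_add, ← pow_add]
        exact hfi.2 (by omega)
      have hy4 : x₂ * f ^ 2 * s * (x₂ * f ^ 2)⁻¹ = f ^ (12 + i) * t * s := by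
        have h2s : f ^ 2 * s = f ^ 4 * (s * f ^ 2) := by
          rw [hsfp, ← mul_assoc, ← pow_add, hfi.2 (show (4 + 7 * 2) % 8 = 2 % 8 by norm_num)]
        calc x₂ * f ^ 2 * s * (x₂ * f ^ 2)⁻¹ = x₂ * (f ^ 2 * s) * (f ^ 2)⁻¹ * x₂⁻¹ := by group
          _ = x₂ * f ^ 4 * x₂⁻¹ * (x₂ * s * x₂⁻¹) := by rw [h2s]; group
          _ = _ := by
            rw [he, hxpow, show (4 : ℕ) % 2 = 0 from rfl, pow_zero, mul_one, ← mul_assoc, ← mul_assoc, ← pow_add]
    · exact ⟨x₂ * f ^ 2, 0, .inl rfl, mul_mem hx₂P (pow_mem hfP 2), hn _ hy1, hy1, hy2, hy3,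
        hform hy4 (by omega)⟩
    · exact ⟨x₂ * f ^ 2, 2, .inr rfl, mul_mem hx₂P (pow_mem hfP 2), hn _ hy1, hy1, hy2, hy3,
        hform hy4 (by omega)⟩
  have R : PRel a m k f t s x := ⟨hf8, ht2, mul_inv_eq_iff_eq_mul.1 htf, hs2, hst, mul_inv_eq_iff_eq_mul.1 hsf,
    hx2, mul_inv_eq_iff_eq_mul.1 hxt, mul_inv_eq_iff_eq_mul.1 hxf, mul_inv_eq_iff_eq_mul.1 hxs, hk⟩
  refine ⟨a, ha, m, hm, k, hk, pVal f t s x, ?_⟩
  have hsurj : ∀ y ∈ P, ∃ n < 64, pVal f t s x n = y := by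
    intro y hy
    have key : ∀ w ∈ N, ∀ r < 2, ∃ n < 64, pVal f t s x n = w * x ^ r := by
      intro w hw r hr
      obtain ⟨i, p, q, hp, hq, rfl⟩ := hNform w hw
      exact ⟨pMk i p q r, by unfold pMk; omega, R.val_mk i p q r hq hr⟩
    by_cases hyN : y ∈ N
    · simpa using key y hyN 0 two_pos
    · have hyx : y * x⁻¹ ∈ N := by
        have := ((Subgroup.mul_mem_iff_of_index_two hidx (a := ⟨y, hy⟩) (b := ⟨x⁻¹, inv_mem hxP⟩)).2
          (by simp [hN', Subgroup.mem_subgroupOf, hyN, hxN]))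
        exact Subgroup.mem_subgroupOf.1 this
      simpa using key _ hyx 1 one_lt_two
  have hmem : ∀ n, pVal f t s x n ∈ P := fun n =>
    mul_mem (mul_mem (mul_mem (pow_mem hfP _) (pow_mem htP _)) (pow_mem hsP _)) (pow_mem hxP _)
  refine ⟨fun n _ => hmem n, hsurj, fun i hi j hj h => ?_, R.val_mul, R.val_zero⟩
  let F : Fin 64 → P := fun n => ⟨_, hmem n⟩
  haveI := Fintype.ofFinite P
  have hb : Function.Bijective F := by
    refine (Fintype.bijective_iff_surjective_and_card F).2 ⟨fun ⟨y, hy⟩ => ?_, ?_⟩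
    · obtain ⟨n, hn, e⟩ := hsurj y hy
      exact ⟨⟨n, hn⟩, Subtype.ext e⟩
    · rw [Fintype.card_fin, ← Nat.card_eq_fintype_card, hP]
  exact congrArg Fin.val (hb.1 (a₁ := ⟨i, hi⟩) (a₂ := ⟨j, hj⟩) (Subtype.ext h))

end CfsgLib.M12Syl
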