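import Mathlib

/-!
Tables for groups of order 64 with an element of order 8 fused to all its odd powers.
-/

set_option autoImplicit false
set_option linter.style.haveILetI false
set_option linter.unusedSectionVars false

namespace CfsgLib.M12Syl

/-- the index of a word -/
def pMk (i p q r : ℕ) : ℕ := i % 8 + 8 * (p % 2) + 16 * q + 32 * r

def pI (n : ℕ) : ℕ := n % 8
def pP (n : ℕ) : ℕ := n / 8 % 2
def pQ (n : ℕ) : ℕ := n / 16 % 2
def pR (n : ℕ) : ℕ := n / 32 % 2

/-- left multiplication by the four generators -/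
def lF (n : ℕ) : ℕ := pMk (pI n + 1) (pP n) (pQ n) (pR n)
def lT (n : ℕ) : ℕ := pMk (5 * pI n) (pP n + 1) (pQ n) (pR n)
def lS (a n : ℕ) : ℕ := pMk (7 * pI n + 4 * a * pQ n) (pP n) (1 - pQ n) (pR n)
def lX (m k n : ℕ) : ℕ :=
  pMk (3 * pI n + 6 * (pI n % 2) + (8 - k) * pQ n + 4 * m * pR n) (pP n + pI n % 2 + pQ n) (pQ n) (1 - pR n)

/-- the multiplication -/
def mP (a m k i j : ℕ) : ℕ :=
  lF^[pI i] (lT^[pP i] ((lS a)^[pQ i] ((lX m k)^[pR i] j)))

/-- the defining relations -/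
structure PRel {G : Type*} [Group G] (a m k : ℕ) (f t s x : G) : Prop where
  f8 : f ^ 8 = 1
  t2 : t * t = 1
  tf : t * f = f ^ 5 * t
  s2 : s * s = f ^ (4 * a)
  st : s * t = t * s
  sf : s * f = f ^ 7 * s
  x2 : x * x = f ^ (4 * m)
  xt : x * t = t * x
  xf : x * f = f * t * x
  xs : x * s = s * f ^ k * t * x
  klt : k = 0 ∨ k = 2

/-- the element of an index -/
def pVal {G : Type*} [Group G] (f t s x : G) (n : ℕ) : G := f ^ pI n * t ^ pP n * s ^ pQ n * x ^ pR n

theorem pParts (i p q r : ℕ) (hq : q < 2) (hr : r < 2) :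
    pI (pMk i p q r) = i % 8 ∧ pP (pMk i p q r) = p % 2 ∧ pQ (pMk i p q r) = q ∧ pR (pMk i p q r) = r := by
  unfold pI pP pQ pR pMk
  omega

theorem pBounds (n : ℕ) : pI n < 8 ∧ pP n < 2 ∧ pQ n < 2 ∧ pR n < 2 := by
  unfold pI pP pQ pR
  omega

theorem pMk_lt (i p q r : ℕ) (hq : q < 2) (hr : r < 2) : pMk i p q r < 64 := by
  unfold pMk
  omega

theorem mP_lt (a m k i j : ℕ) (hj : j < 64) : mP a m k i j < 64 := by
  have hit : ∀ {g : ℕ → ℕ}, (∀ n, g n < 64) → ∀ e n, n < 64 → g^[e] n < 64 := fun {g} hg e n hn => by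
    rcases e with _ | e
    · exact hn
    · rw [Function.iterate_succ_apply']; exact hg _
  have b := fun n => pBounds n
  exact hit (fun n => pMk_lt _ _ _ _ (b n).2.2.1 (b n).2.2.2) _ _
    (hit (fun n => pMk_lt _ _ _ _ (b n).2.2.1 (b n).2.2.2) _ _
      (hit (fun n => pMk_lt _ _ _ _ (by omega) (b n).2.2.2) _ _
        (hit (fun n => pMk_lt _ _ _ _ (b n).2.2.1 (by omega)) _ _ hj)))

namespace PRel

variable {G : Type*} [Group G] {a m k : ℕ} {f t s x : G} (R : PRel a m k f t s x)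
include R

theorem fpow {i j : ℕ} (h : i % 8 = j % 8) : f ^ i = f ^ j := by
  rw [← Nat.div_add_mod i 8, ← Nat.div_add_mod j 8, pow_add, pow_add, pow_mul, pow_mul, R.f8, one_pow,
    one_pow, one_mul, one_mul, h]

theorem tpow {i j : ℕ} (h : i % 2 = j % 2) : t ^ i = t ^ j := by
  rw [← Nat.div_add_mod i 2, ← Nat.div_add_mod j 2, pow_add, pow_add, pow_mul, pow_mul, pow_two, R.t2,
    one_pow, one_pow, one_mul, one_mul, h]

theorem val_mk (i p q r : ℕ) (hq : q < 2) (hr : r < 2) :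
    pVal f t s x (pMk i p q r) = f ^ i * t ^ p * s ^ q * x ^ r := by
  obtain ⟨h1, h2, h3, h4⟩ := pParts i p q r hq hr
  rw [pVal, h1, h2, h3, h4, R.fpow (Nat.mod_mod i 8), R.tpow (Nat.mod_mod p 2)]

theorem t_fpow (i : ℕ) : t * f ^ i = f ^ (5 * i) * t := by
  rw [pow_mul]; exact (show SemiconjBy t f (f ^ 5) from R.tf).pow_right i

theorem s_fpow (i : ℕ) : s * f ^ i = f ^ (7 * i) * s := by
  rw [pow_mul]; exact (show SemiconjBy s f (f ^ 7) from R.sf).pow_right i

theorem s_tpow (p : ℕ) : s * t ^ p = t ^ p * s := (show Commute s t from R.st).pow_right p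

theorem x_tpow (p : ℕ) : x * t ^ p = t ^ p * x := (show Commute x t from R.xt).pow_right p

theorem ft_pow (i : ℕ) : (f * t) ^ i = f ^ (3 * i + 6 * (i % 2)) * t ^ (i % 2) := by
  have h2 : f * t * (f * t) = f ^ 6 := by
    rw [show f * t * (f * t) = f * (t * f) * t by group, R.tf,
      show f * (f ^ 5 * t) * t = f * f ^ 5 * (t * t) by group, R.t2, mul_one, ← pow_succ']
  rcases Nat.even_or_odd' i with ⟨l, rfl | rfl⟩
  · rw [pow_mul, pow_two, h2, ← pow_mul, show 2 * l % 2 = 0 by omega, pow_zero, mul_one]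
    exact R.fpow (by omega)
  · rw [pow_succ, pow_mul, pow_two, h2, ← pow_mul, show (2 * l + 1) % 2 = 1 by omega, pow_one, ← mul_assoc,
      ← pow_succ]
    exact congrArg (· * t) (R.fpow (by omega))

theorem x_fpow (i : ℕ) : x * f ^ i = f ^ (3 * i + 6 * (i % 2)) * t ^ (i % 2) * x := by
  rw [← R.ft_pow]
  exact (show SemiconjBy x f (f * t) from R.xf).pow_right i

theorem val_lF (n : ℕ) : pVal f t s x (lF n) = f * pVal f t s x n := by
  obtain ⟨-, -, hq, hr⟩ := pBounds n
  rw [lF, R.val_mk _ _ _ _ hq hr, pVal, pow_succ', mul_assoc, mul_assoc, mul_assoc, mul_assoc, mul_assoc]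

theorem val_lT (n : ℕ) : pVal f t s x (lT n) = t * pVal f t s x n := by
  obtain ⟨-, -, hq, hr⟩ := pBounds n
  rw [lT, R.val_mk _ _ _ _ hq hr, pVal, pow_succ',
    show t * (f ^ pI n * t ^ pP n * s ^ pQ n * x ^ pR n) = t * f ^ pI n * t ^ pP n * s ^ pQ n * x ^ pR n by group,
    R.t_fpow, mul_assoc _ t (t ^ pP n)]

theorem val_lS (n : ℕ) : pVal f t s x (lS a n) = s * pVal f t s x n := by
  obtain ⟨-, -, hq, hr⟩ := pBounds n
  rw [lS, R.val_mk _ _ _ _ (by omega) hr, pVal]
  calc _ = f ^ (7 * pI n) * t ^ pP n * (s * s ^ pQ n) * x ^ pR n := by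
        have h4 : t ^ pP n * f ^ (4 * a) = f ^ (4 * a) * t ^ pP n := by
          have hc : Commute t (f ^ (4 * a)) := by
            show t * f ^ (4 * a) = _
            rw [R.t_fpow, R.fpow (show 5 * (4 * a) % 8 = 4 * a % 8 by omega)]
          exact (hc.pow_left _).eq
        rcases (show pQ n = 0 ∨ pQ n = 1 by omega) with e | e <;> rw [e]
        · simp
        · simp only [Nat.sub_self, pow_zero, mul_one, pow_one, R.s2, pow_add]
          rw [mul_assoc (f ^ (7 * pI n)) _ (f ^ (4 * a)), h4, ← mul_assoc]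
    _ = _ := by
      rw [← mul_assoc (s : G), ← mul_assoc (s : G), ← mul_assoc (s : G), R.s_fpow, mul_assoc _ s (t ^ pP n),
        R.s_tpow]
      group

theorem val_lX (n : ℕ) : pVal f t s x (lX m k n) = x * pVal f t s x n := by
  obtain ⟨-, -, hq, hr⟩ := pBounds n
  rw [lX, R.val_mk _ _ _ _ hq (by omega), pVal]
  have hk : ∀ p : ℕ, t ^ p * f ^ (8 - k) = f ^ (8 - k) * t ^ p := fun p => by
    have hc : Commute t (f ^ (8 - k)) := by
      show t * f ^ (8 - k) = _
      rw [R.t_fpow, R.fpow (show 5 * (8 - k) % 8 = (8 - k) % 8 by rcases R.klt with rfl | rfl <;> rfl)]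
    exact (hc.pow_left _).eq
  have hs : x * s = f ^ (8 - k) * t * s * x := by
    rw [R.xs, R.s_fpow, mul_assoc (f ^ (7 * k)) s t, R.st,
      R.fpow (show 7 * k % 8 = (8 - k) % 8 by rcases R.klt with rfl | rfl <;> rfl), ← mul_assoc]
  have hm : ∀ z : G, (z = f ∨ z = t ∨ z = s) → Commute z (f ^ (4 * m)) := by
    rintro z (rfl | rfl | rfl)
    · exact (Commute.refl z).pow_right _
    · show z * f ^ (4 * m) = _
      rw [R.t_fpow, R.fpow (show 5 * (4 * m) % 8 = 4 * m % 8 by omega)]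
    · show z * f ^ (4 * m) = _
      rw [R.s_fpow, R.fpow (show 7 * (4 * m) % 8 = 4 * m % 8 by omega)]
  set i := pI n
  set p := pP n
  have key : x * (f ^ i * t ^ p * s ^ pQ n) =
      f ^ (3 * i + 6 * (i % 2) + (8 - k) * pQ n) * t ^ (p + i % 2 + pQ n) * s ^ pQ n * x := by
    calc x * (f ^ i * t ^ p * s ^ pQ n) = x * f ^ i * t ^ p * s ^ pQ n := by group
      _ = f ^ (3 * i + 6 * (i % 2)) * t ^ (i % 2) * (x * t ^ p) * s ^ pQ n := by rw [R.x_fpow]; group
      _ = f ^ (3 * i + 6 * (i % 2)) * t ^ (p + i % 2) * (x * s ^ pQ n) := by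
        rw [R.x_tpow, show p + i % 2 = i % 2 + p by omega, pow_add]; group
      _ = _ := by
        rcases (show pQ n = 0 ∨ pQ n = 1 by omega) with e | e <;> rw [e]
        · simp [mul_assoc]
        · rw [mul_one, pow_one, hs, pow_add f _ (8 - k), pow_succ t (p + i % 2),
            show f ^ (3 * i + 6 * (i % 2)) * t ^ (p + i % 2) * (f ^ (8 - k) * t * s * x) =
              f ^ (3 * i + 6 * (i % 2)) * (t ^ (p + i % 2) * f ^ (8 - k)) * (t * s * x) by group, hk]
          simp only [mul_assoc]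
  rw [← mul_assoc x, key, mul_assoc _ x (x ^ pR n)]
  rcases (show pR n = 0 ∨ pR n = 1 by omega) with e' | e' <;> rw [e']
  · simp
  · simp only [Nat.sub_self, pow_zero, mul_one, pow_one, R.x2, pow_add]
    set j := 3 * i + 6 * (i % 2) + (8 - k) * pQ n
    set e := p + i % 2 + pQ n
    have h1 : Commute (t ^ e * s ^ pQ n) (f ^ (4 * m)) :=
      ((hm t (by simp)).pow_left e).mul_left ((hm s (by simp)).pow_left _)
    simp only [← pow_add]
    rw [pow_add f j, mul_assoc (f ^ j) (f ^ (4 * m)), mul_assoc (f ^ j) _ (s ^ pQ n),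
      mul_assoc (f ^ (4 * m)) _ (s ^ pQ n), ← h1.eq]
    simp only [j, e]
    group

theorem val_iter {g : ℕ → ℕ} {c : G} (h : ∀ n, pVal f t s x (g n) = c * pVal f t s x n) :
    ∀ e n, pVal f t s x (g^[e] n) = c ^ e * pVal f t s x n
  | 0, n => by simp
  | e + 1, n => by
    rw [Function.iterate_succ_apply', h, val_iter h e n, pow_succ', mul_assoc]

theorem val_mul (i j : ℕ) : pVal f t s x (mP a m k i j) = pVal f t s x i * pVal f t s x j := by
  rw [mP, R.val_iter R.val_lF, R.val_iter R.val_lT, R.val_iter R.val_lS, R.val_iter R.val_lX]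
  simp only [pVal, mul_assoc]

theorem val_zero : pVal f t s x 0 = 1 := by simp [pVal, pI, pP, pQ, pR]

end PRel

end CfsgLib.M12Syl
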