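import Cfsg.Agent.Lib.M12Syl.CoreTrivial

/-!
The centraliser of the central involution is that of M12.
-/

set_option autoImplicit false
set_option linter.style.haveILetI false
set_option linter.unusedSectionVars false
set_option maxHeartbeats 1000000

namespace CfsgLib.M12Syl

open CfsgLib.M12Recog

/-- the index of a triple -/
noncomputable def ixT (p : ℕ × ℕ × ℕ) : ℕ := mH (mH p.1 (sPow p.2.1)) (pw mH 5 p.2.2)

/-- all triples -/
def tripL : List (ℕ × ℕ × ℕ) := qSub.flatMap fun q => [0, 1, 2].flatMap fun e => [(q, e, 0), (q, e, 1)]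

/-- the triple of an index -/
noncomputable def facT (i : ℕ) : ℕ × ℕ × ℕ := (tripL.find? fun p => Nat.beq (ixT p) i).getD (0, 0, 0)

/-- conjugation by the power of `5` -/
noncomputable def c5I (f i : ℕ) : ℕ := if f = 0 then i else conjI 5 i

/-- the exponent changed by conjugation -/
def eTw (f e : ℕ) : ℕ := if f = 0 then e else 2 * e

/-- multiplication of triples -/
noncomputable def mulT (a b : ℕ × ℕ × ℕ) : ℕ × ℕ × ℕ :=
  (mH a.1 (conjI (sPow a.2.1) (c5I a.2.2 b.1)), (a.2.1 + eTw a.2.2 b.2.1) % 3, (a.2.2 + b.2.2) % 2)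

theorem trip_ok : ((List.range 192).all fun i => tripL.contains (facT i) && (ixT (facT i) == i) &&
      genH.all fun g => mulT (facT i) (facT g) == facT (mH i g)) = true ∧
    (tripL.all fun p => Nat.blt (ixT p) 192 && (facT (ixT p) == p)) = true ∧
    (qSub.all fun q => facT q == (q, 0, 0)) = true ∧
    (qSub.all fun i => qSub.contains (conjI sIdx i) && qSub.contains (conjI 5 i) &&
      (conjI sIdx (conjI sIdx (conjI sIdx i)) == i) &&
      (conjI 5 (conjI sIdx (conjI 5 i)) == conjI sIdx (conjI sIdx i))) = true ∧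
    (conjI sIdx 3 != 3) = true ∧
    (qSub.all fun q => q == 0 || q == 128 || qSub.any fun i => mH q i != mH i q) = true := by
  decide +kernel

namespace PHyp

variable {G : Type*} [Group G] {φ : ℕ → G} {S : Subgroup G} (K : PHyp φ S)
include K

theorem act_pow {g : G} (ha : K.ActS g) {i : ℕ} (hi : i ∈ qSub) {e : ℕ} (he : e < 3) :
    φ (conjI (sPow e) i) = g ^ e * φ i * (g ^ e)⁻¹ := by
  obtain ⟨-, -, -, h, -⟩ := trip_ok
  simp only [List.all_eq_true, Bool.and_eq_true, List.contains_iff_mem, beq_iff_eq] at h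
  obtain ⟨-, -, -, -, hpow⟩ := sTab
  rcases e with _ | _ | _ | e
  · rw [(hpow i hi).2.2.1]; simp
  · rw [← (hpow i hi).2.1, pow_one]; exact ha i hi
  · rw [← (hpow i hi).2.2.2, ha _ (h i hi).1.1.1, ha i hi, pow_two]; group
  · omega

/-- elements acting trivially -/
theorem triv_mem [Finite G] [IsSimpleGroup G] (hS : SylIn ⊤ S) (F : Fus φ) {L : Subgroup G}
    (hL : K.IsL L) {b : G} (hb : b ∈ L) (hfix : ∀ i ∈ qSub, b * φ i * b⁻¹ = φ i) :
    b = 1 ∨ b = φ 128 := by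
  obtain ⟨hok, hqs, -, h128⟩ := qSub_mem
  obtain ⟨o, ho, w, hw, rfl⟩ := (K.cent_fac hS F).triv hL b hb (fun y hy => by
      obtain ⟨i, hi, rfl⟩ := (K.mem_sub hok).1 hy
      rw [hfix i hi]; exact hy) fun i hi => .inl (hfix i hi)
  rw [K.theta_bot hS F, Subgroup.mem_bot] at ho
  subst ho
  obtain ⟨q, hq, rfl⟩ := (K.mem_sub hok).1 hw
  rw [one_mul]
  obtain ⟨-, -, -, -, -, h⟩ := trip_ok
  simp only [List.all_eq_true, Bool.or_eq_true, beq_iff_eq, List.any_eq_true, bne_iff_ne] at h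
  rcases h q hq with (e | e) | ⟨i, hi, e⟩
  · exact .inl (by rw [e, K.one])
  · exact .inr (by rw [e])
  · refine absurd ((K.comm_iff (hqs q hq) (hqs i hi)).1 ?_) e
    have := hfix i hi
    rw [one_mul, mul_inv_eq_iff_eq_mul] at this
    exact this

theorem exists_gen [Finite G] [IsSimpleGroup G] (hS : SylIn ⊤ S) (F : Fus φ) {L : Subgroup G}
    (hL : K.IsL L) : ∃ g ∈ L, (∀ y ∈ K.sub qSub, g * y * g⁻¹ ∈ K.sub qSub) ∧ K.ActS g ∧ g ^ 3 = 1 ∧
      φ 5 * g = g * g * φ 5 := by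
  obtain ⟨hok, hqs, -, h128⟩ := qSub_mem
  obtain ⟨g₀, hg₀, hg₀Q, ha₀⟩ := K.exists_actS hS F hL
  obtain ⟨-, -, -, h4, -, -⟩ := trip_ok
  simp only [List.all_eq_true, Bool.and_eq_true, List.contains_iff_mem, beq_iff_eq] at h4
  have h3fix : ∀ {g : G}, K.ActS g → ∀ i ∈ qSub, g ^ 3 * φ i * (g ^ 3)⁻¹ = φ i := by
    intro g ha i hi
    have h1 := (h4 i hi).1.1.1
    have h2 := (h4 _ h1).1.1.1
    calc g ^ 3 * φ i * (g ^ 3)⁻¹ = g * (g * (g * φ i * g⁻¹) * g⁻¹) * g⁻¹ := by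
          rw [show g ^ 3 = g * g * g by rw [pow_succ, pow_two]]; group
      _ = φ i := by rw [← ha i hi, ← ha _ h1, ← ha _ h2, (h4 i hi).1.2]
  have ht : φ 128 * φ 128 = 1 := mul_self_of K.t_order
  have hc : ∀ {z : G}, z = 1 ∨ z = φ 128 → z ^ 2 = 1 := by
    rintro z (rfl | rfl) <;> simp [pow_two, ht]
  have hz := K.triv_mem hS F hL (pow_mem hg₀ 3) (h3fix ha₀)
  set g := g₀ * g₀ ^ 3 with hg
  have hga : K.ActS g := fun i hi => by
    rw [hg, show g₀ * g₀ ^ 3 * φ i * (g₀ * g₀ ^ 3)⁻¹ = g₀ * (g₀ ^ 3 * φ i * (g₀ ^ 3)⁻¹) * g₀⁻¹ by group,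
      h3fix ha₀ i hi]
    exact ha₀ i hi
  have hgQ : ∀ y ∈ K.sub qSub, g * y * g⁻¹ ∈ K.sub qSub := fun y hy => by
    obtain ⟨i, hi, rfl⟩ := (K.mem_sub hok).1 hy
    rw [← hga i hi]
    exact (K.mem_sub hok).2 ⟨_, (h4 i hi).1.1.1, rfl⟩
  have hgL : g ∈ L := mul_mem hg₀ (pow_mem hg₀ 3)
  have hg3 : g ^ 3 = 1 := by
    calc g ^ 3 = (g₀ ^ 3) ^ 2 * (g₀ ^ 3) ^ 2 := by
          rw [hg, ← pow_succ', ← pow_mul, ← pow_mul, ← pow_add]
      _ = 1 := by rw [hc hz, one_mul]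
  refine ⟨g, hgL, hgQ, hga, hg3, ?_⟩
  have h5s := heads_ok 5 (by simp)
  have h55 : φ 5 * φ 5 = 1 := by
    rw [← K.mul 5 h5s 5 h5s, sylH_sq_ok 5 (by simp), K.one]
  have h5i : (φ 5)⁻¹ = φ 5 := inv_eq_of_mul_eq_one_right h55
  have h5c : φ 5 ∈ K.cT := K.mem_cT.2 (K.t_central (K.mem 5 h5s))
  set c := φ 5 * g * (φ 5)⁻¹ with hcd
  have hcL : c ∈ L := hL.conj _ h5c g hgL
  have hfix : ∀ i ∈ qSub, (g * g)⁻¹ * c * φ i * ((g * g)⁻¹ * c)⁻¹ = φ i := by
    intro i hi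
    obtain ⟨⟨⟨h1, h2⟩, -⟩, h5⟩ := h4 i hi
    have hs2 := (h4 _ h2).1.1.1
    have e1 : c * φ i * c⁻¹ = φ (conjI 5 (conjI sIdx (conjI 5 i))) := by
      rw [K.conjI_eq (hqs _ hs2) h5s, hga _ h2, K.conjI_eq (hqs i hi) h5s, hcd]
      conv_lhs => rw [h5i]
      conv_rhs => rw [h5i]
      simp only [mul_inv_rev, h5i]
      group
    rw [show (g * g)⁻¹ * c * φ i * ((g * g)⁻¹ * c)⁻¹ = (g * g)⁻¹ * (c * φ i * c⁻¹) * (g * g) by rw [mul_inv_rev ((g * g)⁻¹), inv_inv]; group,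
      e1, h5, hga _ h1, hga i hi]
    group
  have hb := K.triv_mem hS F hL (mul_mem (inv_mem (mul_mem hgL hgL)) hcL) hfix
  have hb1 : (g * g)⁻¹ * c = 1 := by
    rcases hb with h | h
    · exact h
    exfalso
    have hcc : c = g * g * φ 128 := by rw [← h]; group
    have hgt : Commute (g * g) (φ 128) := K.mem_cT.1 (hL.le (mul_mem hgL hgL))
    have : c ^ 3 = 1 := by rw [hcd, conj_pow, hg3, mul_one, mul_inv_cancel]
    rw [hcc, hgt.mul_pow, show (g * g) ^ 3 = 1 by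
      rw [(Commute.refl g).mul_pow, hg3, one_mul], one_mul, pow_succ, pow_two, ht, one_mul] at this
    exact absurd ((K.eq_one_iff z_central.1).1 this) (by norm_num)
  rw [inv_mul_eq_one, hcd, eq_mul_inv_iff_mul_eq] at hb1
  exact hb1.symm

/-- the table of the centraliser -/
theorem exists_rep192 [Finite G] [IsSimpleGroup G] (hS : SylIn ⊤ S) (F : Fus φ) :
    ∃ ψ : ℕ → G, Rep 192 mH K.cT ψ ∧ ψ iC = φ 128 := by
  obtain ⟨hok, hqs, -, h128⟩ := qSub_mem
  obtain ⟨L, hL⟩ := K.exists_L hS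
  obtain ⟨g, hg, hgQ, ha, hg3, hg5⟩ := K.exists_gen hS F hL
  obtain ⟨t1, t2, t3, h4, h3ne, -⟩ := trip_ok
  simp only [List.all_eq_true, List.mem_range, Bool.and_eq_true, List.contains_iff_mem, beq_iff_eq] at t1
  simp only [List.all_eq_true, Bool.and_eq_true, Nat.blt_eq, beq_iff_eq] at t2
  simp only [List.all_eq_true, beq_iff_eq] at t3
  simp only [List.all_eq_true, Bool.and_eq_true, List.contains_iff_mem, beq_iff_eq] at h4
  have h5s := heads_ok 5 (by simp)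
  have h55 : φ 5 * φ 5 = 1 := by
    rw [← K.mul 5 h5s 5 h5s, sylH_sq_ok 5 (by simp), K.one]
  have h5i : (φ 5)⁻¹ = φ 5 := inv_eq_of_mul_eq_one_right h55
  have h5c : φ 5 ∈ K.cT := K.mem_cT.2 (K.t_central (K.mem 5 h5s))
  have htrip : ∀ {q e f : ℕ}, (q, e, f) ∈ tripL ↔ q ∈ qSub ∧ e < 3 ∧ f < 2 := by
    intro q e f
    simp only [tripL, List.mem_flatMap, List.mem_cons, List.not_mem_nil, or_false, Prod.mk.injEq]
    constructor
    · rintro ⟨q', hq', e', he', ⟨rfl, rfl, rfl⟩ | ⟨rfl, rfl, rfl⟩⟩ <;>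
        exact ⟨hq', by omega, by omega⟩
    · rintro ⟨hq, he, hf⟩
      refine ⟨q, hq, e, by omega, ?_⟩
      rcases f with _ | _ | f
      exacts [.inl ⟨rfl, rfl, rfl⟩, .inr ⟨rfl, rfl, rfl⟩, by omega]
  set val : ℕ × ℕ × ℕ → G := fun p => φ p.1 * g ^ p.2.1 * φ 5 ^ p.2.2 with hval
  have hmulT : ∀ a ∈ tripL, ∀ b ∈ tripL, val (mulT a b) = val a * val b := by
    rintro ⟨q, e, f⟩ hab ⟨q', e', f'⟩ hbb
    obtain ⟨hq, he, hf⟩ := htrip.1 hab
    obtain ⟨hq', he', hf'⟩ := htrip.1 hbb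
    have hc5 : c5I f q' ∈ qSub ∧ φ (c5I f q') = φ 5 ^ f * φ q' * (φ 5 ^ f)⁻¹ := by
      rcases f with _ | _ | f
      · exact ⟨hq', by simp [c5I]⟩
      · exact ⟨(h4 q' hq').1.1.2, by simpa [c5I] using K.conjI_eq (hqs q' hq') h5s⟩
      · omega
    have hmem : conjI (sPow e) (c5I f q') ∈ qSub := by
      have h' : ([0, 1, 2].all fun e => qSub.all fun i => qSub.contains (conjI (sPow e) i)) = true := by
        decide +kernel
      simp only [List.all_eq_true, List.contains_iff_mem] at h'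
      exact h' e (by simp; omega) _ hc5.1
    have hge : φ 5 ^ f * g ^ e' = g ^ eTw f e' * φ 5 ^ f := by
      rcases f with _ | _ | f
      · simp [eTw]
      · rw [show eTw 1 e' = 2 * e' from rfl, pow_one, pow_mul, pow_two]
        exact (show SemiconjBy (φ 5) g (g * g) from hg5).pow_right e'
      · omega
    have hmod : ∀ n : ℕ, g ^ (n % 3) = g ^ n := fun n => by
      conv_rhs => rw [← Nat.div_add_mod n 3, pow_add, pow_mul, hg3, one_pow, one_mul]
    have hmod2 : ∀ n : ℕ, φ 5 ^ (n % 2) = φ 5 ^ n := fun n => by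
      conv_rhs => rw [← Nat.div_add_mod n 2, pow_add, pow_mul, pow_two, h55, one_pow, one_mul]
    show φ (mH q (conjI (sPow e) (c5I f q'))) * g ^ ((e + eTw f e') % 3) * φ 5 ^ ((f + f') % 2) = _
    rw [K.mul q (hqs q hq) _ (hqs _ hmem), K.act_pow ha hc5.1 he, hc5.2, hmod, hmod2, pow_add, pow_add,
      hval]
    calc φ q * (g ^ e * (φ 5 ^ f * φ q' * (φ 5 ^ f)⁻¹) * (g ^ e)⁻¹) * (g ^ e * g ^ eTw f e') *
          (φ 5 ^ f * φ 5 ^ f')
        = φ q * g ^ e * φ 5 ^ f * φ q' * ((φ 5 ^ f)⁻¹ * (g ^ eTw f e' * φ 5 ^ f)) * φ 5 ^ f' := by group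
      _ = _ := by rw [← hge]; group
  set ψ : ℕ → G := fun i => val (facT i) with hψ
  have h0 : ψ 0 = 1 := by
    rw [hψ]
    show val (facT 0) = 1
    rw [t3 0 (mem_dec (by decide +kernel))]
    simp [hval, K.one]
  have hmul : ∀ i < 192, ∀ j < 192, ψ (mH i j) = ψ i * ψ j :=
    tabH.map_mul h0 fun i hi j hj => by
      show val (facT (mH i j)) = _
      rw [← (t1 i hi).2 j hj]
      exact hmulT _ (t1 i hi).1.1 _ (t1 j (tabH.gen_lt j hj)).1.1
  have hLS := hL.sylIn K hS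
  have hmem : ∀ i < 192, ψ i ∈ K.cT := fun i hi => by
    obtain ⟨hq, he, hf⟩ := htrip.1 (show ((facT i).1, (facT i).2.1, (facT i).2.2) ∈ tripL from (t1 i hi).1.1)
    exact mul_mem (mul_mem (K.mem_cT.2 (K.t_central (K.mem _ (hqs _ hq)))) (pow_mem (hL.le hg) _))
      (pow_mem h5c _)
  have hker : ∀ i < 192, ψ i = 1 → i = 0 := by
    intro i hi h
    obtain ⟨hq, he, hf⟩ := htrip.1 (show ((facT i).1, (facT i).2.1, (facT i).2.2) ∈ tripL from (t1 i hi).1.1)
    rw [← (t1 i hi).1.2]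
    change φ (facT i).1 * g ^ (facT i).2.1 * φ 5 ^ (facT i).2.2 = 1 at h
    generalize hp : facT i = p at hq he hf h
    obtain ⟨q, e, f⟩ := p
    dsimp only at hq he hf h
    have hqQ : φ q ∈ K.sub qSub := (K.mem_sub hok).2 ⟨q, hq, rfl⟩
    have hf0 : f = 0 := by
      by_contra hf'
      obtain rfl : f = 1 := by omega
      rw [pow_one] at h
      have h5L : φ 5 ∈ L := by
        rw [eq_inv_of_mul_eq_one_right h]
        exact inv_mem (mul_mem (hLS.le hqQ) (pow_mem hg e))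
      obtain ⟨j, hj, ej⟩ := (K.mem_sub hok).1 ((hL.inter _ (K.mem 5 h5s)).1 h5L)
      exact five_notin (K.inj j (hqs j hj) 5 h5s ej ▸ hj)
    subst hf0
    rw [pow_zero, mul_one] at h
    have hq1 : φ q = 1 := by
      obtain ⟨n, hn⟩ := hS.two ⟨φ q, K.mem q (hqs q hq)⟩
      have hn' : φ q ^ 2 ^ n = 1 := congrArg Subtype.val hn
      have h3 : φ q ^ 3 = 1 := by
        rw [eq_inv_of_mul_eq_one_left h, inv_pow, ← pow_mul, mul_comm, pow_mul, hg3, one_pow, inv_one]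
      exact orderOf_eq_one_iff.1 (Nat.eq_one_of_dvd_coprimes
        ((by norm_num : Nat.Coprime 2 3).pow_left n)
        (orderOf_dvd_of_pow_eq_one hn') (orderOf_dvd_of_pow_eq_one h3))
    rw [hq1, one_mul] at h
    have hq0 : q = 0 := (K.eq_one_iff (hqs q hq)).1 hq1
    have hg1 : g ≠ 1 := fun e1 => by
      have h3q : (3 : ℕ) ∈ qSub := mem_dec (by decide +kernel)
      have := ha 3 h3q
      rw [e1, one_mul, inv_one, mul_one] at this
      exact (bne_iff_ne.1 h3ne) (K.inj _ (hqs _ (h4 3 h3q).1.1.1) 3 (hqs 3 h3q) this)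
    have he0 : e = 0 := by
      rcases e with _ | _ | _ | e
      · rfl
      · exact absurd (by rwa [pow_one] at h) hg1
      · refine absurd ?_ hg1
        calc g = g ^ 3 * (g ^ 2)⁻¹ := by group
          _ = 1 := by rw [hg3, h]; group
      · omega
    subst hq0 he0
    exact (t3 0 (mem_dec (by decide +kernel))) ▸ (t1 0 (by norm_num)).1.2
  refine ⟨ψ, ⟨by norm_num, tabH.lt, hmem, fun x hx => ?_, fun i hi j hj h => ?_, hmul, h0⟩, ?_⟩
  · obtain ⟨o, ho, q, hq, e, he, h | h⟩ := K.cT_factor hS F hL hg hgQ ha hx <;>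
      rw [K.theta_bot hS F, Subgroup.mem_bot] at ho <;> subst ho
    · refine ⟨ixT (q, e, 0), (t2 _ (htrip.2 ⟨hq, he, by norm_num⟩)).1, ?_⟩
      show val (facT _) = x
      rw [(t2 _ (htrip.2 ⟨hq, he, by norm_num⟩)).2, h]
      simp [hval]
    · refine ⟨ixT (q, e, 1), (t2 _ (htrip.2 ⟨hq, he, by norm_num⟩)).1, ?_⟩
      show val (facT _) = x
      rw [(t2 _ (htrip.2 ⟨hq, he, by norm_num⟩)).2, h]
      simp [hval]
  · obtain ⟨h1, h2, h3⟩ := invH_spec hi
    have e : mH (invH.getD i 0) j = 0 := hker _ (tabH.lt _ h1 j hj) (by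
      rw [hmul _ h1 j hj, ← h, ← hmul _ h1 i hi, h3, h0])
    have := tabH.assoc hi h1 hj
    rw [e, h2, tabH.one_right i hi, tabH.one_left j hj] at this
    exact this
  · show val (facT iC) = φ 128
    rw [t3 iC (mem_dec (by decide +kernel))]
    simp only [hval, iC, pow_zero, mul_one]

end PHyp

end CfsgLib.M12Syl
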