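import Cfsg.Agent.Lib.M12Syl.XIndex
import Cfsg.Agent.Lib.M12Syl.KleinSmall

/-!
The part centralised by an involution of the second class in the subgroup generated by the cores.
-/

set_option autoImplicit false
set_option linter.style.haveILetI false
set_option linter.unusedSectionVars false
set_option maxHeartbeats 2000000

namespace CfsgLib.M12Syl

open CfsgLib.M12Recog

theorem pow_odd_two {G : Type*} [Group G] {x : G} (hx : x * x = 1) {n : ℕ} (hn : Odd n) : x ^ n = x := by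
  obtain ⟨k, rfl⟩ := hn
  rw [pow_succ, pow_mul, pow_two, hx, one_pow, one_mul]

namespace PHyp

variable {G : Type*} [Group G] {φ : ℕ → G} {S : Subgroup G} (K : PHyp φ S)
include K

theorem x_cent_core [Finite G] (hS : SylIn ⊤ S) (F : Fus φ) {U : Subgroup G} (D : K.MData U) {i : ℕ}
    (hiX : i ∈ xList)
    (hR : SylIn (Subgroup.centralizer ({φ i} : Set G)) (K.centS i)) :
    U ⊓ Subgroup.centralizer ({φ i} : Set G) = Cfsg.centralizerPPrimeCore 2 (φ i) := by
  classical
  haveI := Fact.mk Nat.prime_two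
  obtain ⟨his, hi2, hi0, j, u, hok⟩ := xList_spec i hiX
  have X := xFacts_of hok
  set M := Subgroup.normalizer (U : Set G) with hM
  set s := φ i with hs
  set C := Subgroup.centralizer ({s} : Set G) with hC
  set θ := Cfsg.centralizerPPrimeCore 2 s with hθ
  have hs2 : orderOf s = 2 := K.orderOf_two his hi2 hi0
  have hss : s * s = 1 := by rw [← pow_two, ← hs2, pow_orderOf_eq_one]
  have hθodd : (Nat.card θ).Coprime 2 := Signalizer.coprime_centralizerPPrimeCore s
  have hθC : θ ≤ C := Subgroup.map_subtype_le _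
  have hθo : ∀ x ∈ θ, ¬ 2 ∣ orderOf x := fun x hx =>
    (Nat.prime_two.coprime_iff_not_dvd).1 (Transfer.coprime_orderOf_of_mem hθodd hx).symm
  have hSM : S ≤ M := (D.sylIn K hS).le
  have hsM : s ∈ M := hSM (K.mem i his)
  have hqs : ∀ x ∈ qiL i j, x ∈ sylH := fun x hx => (mem_centL.1 (X.qel x hx).1).1
  have hv1s : ∀ x ∈ v1L j, x ∈ sylH := by
    have h := X.v1ok
    simp only [lOK, Bool.and_eq_true, List.all_eq_true, List.contains_iff_mem] at h
    exact fun x hx => (h.2 x hx).1.1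
  have hv1T : ∀ x ∈ v1L j, x ≠ 0 → IsConj (φ 128) (φ x) := fun x hx h0 =>
    K.v1_T F hx (X.v1 x hx).1 h0
  -- the core lies in `U`
  have hθU : θ ≤ U := by
    set V := K.sub (v1L j) with hV
    have hVel : ∀ a ∈ V, ∃ x ∈ v1L j, φ x = a := fun a ha => (K.mem_sub X.v1ok).1 ha
    have hVsq : ∀ a ∈ V, a * a = 1 := fun a ha => by
      obtain ⟨x, hx, rfl⟩ := hVel a ha
      rw [← K.mul x (hv1s x hx) x (hv1s x hx), (wSub_facts.2.2.2.2.1 x (X.v1 x hx).1).1, K.one]
    haveI : IsMulCommutative V := ⟨⟨fun a b => Subtype.ext (by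
      obtain ⟨x, hx, ex⟩ := hVel a a.2
      obtain ⟨y, hy, ey⟩ := hVel b b.2
      show (a : G) * b = b * a
      rw [← ex, ← ey]
      exact (K.comm_iff (hv1s x hx) (hv1s y hy)).2
        ((wSub_facts.2.2.2.2.1 x (X.v1 x hx).1).2 y (X.v1 y hy).1))⟩⟩
    have hVc : Nat.card V = 4 := by rw [hV, K.card_sub X.v1ok X.v1nd]; rfl
    have hVC : V ≤ C := fun a ha => by
      obtain ⟨x, hx, rfl⟩ := hVel a ha
      exact Subgroup.mem_centralizer_singleton_iff.2 ((K.comm_iff (hv1s x hx) his).2 (X.v1 x hx).2)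
    refine Coprime.le_of_centralizer_le (A := V) (Coprime.not_isCyclic_of_exponent
      (fun a ha => by rw [pow_two]; exact hVsq a ha) two_pos (by omega))
      (hVC.trans (Signalizer.centralizerPPrimeCore_normalized s)) ?_ fun g hg hg1 => ?_
    · rw [hVc]; exact (hθodd.symm.pow_left 2)
    · obtain ⟨x, hx, rfl⟩ := hVel g hg
      have hx0 : x ≠ 0 := fun e => hg1 (by rw [e, K.one])
      exact (K.balance hS F ((K.comm_iff his (hv1s x hx)).2 (X.v1 x hx).2.symm) hss (hv1T x hx hx0)).trans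
        (D.cent (hSM (K.mem x (hv1s x hx))) (hv1T x hx hx0)).1
  refine le_antisymm ?_ (le_inf hθU hθC)
  by_cases hCM : C ≤ M
  · refine Signalizer.le_centralizerPPrimeCore inf_le_right
      (Signalizer.le_normalizer_of_forall fun c hc y hy => Subgroup.mem_inf.2
        ⟨conj_of_mem_normalizer (hCM hc) (Subgroup.mem_inf.1 hy).1,
          mul_mem (mul_mem hc (Subgroup.mem_inf.1 hy).2) (inv_mem hc)⟩) ?_
    exact (((Nat.prime_two.coprime_iff_not_dvd).2 D.odd).symm).coprime_dvd_left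
      (Subgroup.card_dvd_of_le inf_le_left)
  -- the subgroup of index two
  obtain ⟨K1, hK⟩ := K.exists_K1 F hiX X hR
  have hKS := hK.sylIn K X his hR
  have hiQ : i ∈ qiL i j := by simp [qiL]
  have hsQ : s ∈ K.sub (qiL i j) := (K.mem_sub X.qok).2 ⟨i, hiQ, rfl⟩
  have hQM : K.sub (qiL i j) ≤ M := (K.sub_le X.qok).trans hSM
  have hθK : θ ≤ K1 := fun x hx => hK.odd_mem K X his (hθC hx) (hθo x hx)
  have hUK : U ⊓ C ≤ K1 := fun x hx => hK.odd_mem K X his (Subgroup.mem_inf.1 hx).2 fun hd =>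
    D.odd (hd.trans (by
      rw [← Subgroup.orderOf_mk x (Subgroup.mem_inf.1 hx).1]; exact orderOf_dvd_natCard _))
  have hcs : ∀ {x : G}, x ∈ C → x * s = s * x := fun hx => Subgroup.mem_centralizer_singleton_iff.1 hx
  set N₀ : Subgroup G := θ ⊔ Subgroup.zpowers s with hN₀
  have hzn : Subgroup.zpowers s ≤ Subgroup.normalizer (θ : Set G) := Subgroup.zpowers_le.2
    (Signalizer.centralizerPPrimeCore_normalized s (Subgroup.mem_centralizer_singleton_iff.2 rfl))
  have hN₀el : ∀ {x : G}, x ∈ N₀ → ∃ o ∈ θ, x = o ∨ x = o * s := by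
    intro x hx
    have hx' : x ∈ ((θ ⊔ Subgroup.zpowers s : Subgroup G) : Set G) := hx
    rw [Subgroup.coe_mul_of_right_le_normalizer_left _ _ hzn] at hx'
    obtain ⟨o, ho, z, hz, rfl⟩ := hx'
    obtain ⟨k, rfl⟩ := Subgroup.mem_zpowers_iff.1 hz
    refine ⟨o, ho, ?_⟩
    rcases Int.even_or_odd k with ⟨r, rfl⟩ | ⟨r, rfl⟩
    · exact .inl (show o * s ^ (r + r) = o by rw [← two_mul, zpow_mul, zpow_two, hss, one_zpow, mul_one])
    · exact .inr (show o * s ^ (2 * r + 1) = o * s by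
        rw [zpow_add, zpow_mul, zpow_two, hss, one_zpow, one_mul, zpow_one])
  have hN₀K : N₀ ≤ K1 := sup_le hθK (Subgroup.zpowers_le.2 (hKS.le hsQ))
  have hN₀M : N₀ ≤ M := sup_le (hθU.trans Subgroup.le_normalizer) (Subgroup.zpowers_le.2 hsM)
  set N : Subgroup K1 := N₀.subgroupOf K1 with hN
  haveI hNn : N.Normal := ⟨fun x hx k => by
    rw [hN, Subgroup.mem_subgroupOf] at hx ⊢
    obtain ⟨o, ho, e⟩ := hN₀el hx
    have hkC : (k : G) ∈ C := hK.le k.2
    have hko : (k : G) * o * (k : G)⁻¹ ∈ N₀ := Subgroup.mem_sup_left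
      (conj_of_mem_normalizer (Signalizer.centralizerPPrimeCore_normalized s hkC) ho)
    rcases e with e | e <;> simp only [Subgroup.coe_mul, InvMemClass.coe_inv, e]
    · exact hko
    · rw [show (k : G) * (o * s) * (k : G)⁻¹ = (k : G) * o * (k : G)⁻¹ * ((k : G) * s * (k : G)⁻¹) by group,
        hcs hkC, mul_inv_cancel_right]
      exact mul_mem hko (Subgroup.mem_sup_right (Subgroup.mem_zpowers s))⟩
  set π : K1 →* K1 ⧸ N := QuotientGroup.mk' N with hπ
  have hπs : Function.Surjective π := QuotientGroup.mk'_surjective _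
  have hπ1 : ∀ k : K1, π k = 1 ↔ (k : G) ∈ N₀ := fun k => by
    rw [hπ, QuotientGroup.mk'_apply, QuotientGroup.eq_one_iff, hN, Subgroup.mem_subgroupOf]
  have hπeq : ∀ a b : K1, π a = π b ↔ (a : G)⁻¹ * b ∈ N₀ := fun a b => by
    rw [hπ, QuotientGroup.mk'_apply, QuotientGroup.mk'_apply, QuotientGroup.eq, hN,
      Subgroup.mem_subgroupOf]
    rfl
  have hNc : Nat.card N = 2 * Nat.card θ := by
    rw [hN, Nat.card_congr (Subgroup.subgroupOfEquivOfLe hN₀K).toEquiv, hN₀]
    have h1 := Subgroup.card_dvd_of_le (le_sup_left : θ ≤ θ ⊔ Subgroup.zpowers s)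
    have h2 := Subgroup.card_dvd_of_le (le_sup_right : Subgroup.zpowers s ≤ θ ⊔ Subgroup.zpowers s)
    rw [Nat.card_zpowers, hs2] at h2
    have h3 := Nat.le_of_dvd Nat.card_pos (hθodd.symm.mul_dvd_of_dvd_of_dvd h2 h1)
    refine le_antisymm ?_ h3
    let g : ↥(θ ⊔ Subgroup.zpowers s) → Bool × θ := fun x =>
      if h : (x : G) ∈ θ then (false, ⟨x, h⟩) else
        (true, ⟨(x : G) * s, by
          obtain ⟨o, ho, e | e⟩ := hN₀el x.2
          · exact absurd (e ▸ ho) h
          · rw [e, mul_assoc, hss, mul_one]; exact ho⟩)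
    have hg : Function.Injective g := by
      intro x y e
      simp only [g] at e
      split_ifs at e with hx hy hy
      · exact Subtype.ext (congrArg (fun p : Bool × θ => (p.2 : G)) e :)
      · exact absurd (congrArg Prod.fst e) (by simp)
      · exact absurd (congrArg Prod.fst e) (by simp)
      · exact Subtype.ext (mul_right_cancel (congrArg (fun p : Bool × θ => (p.2 : G)) e :))
    refine (Nat.card_le_card_of_injective g hg).trans (le_of_eq ?_)
    rw [Nat.card_prod, Nat.card_eq_fintype_card, Fintype.card_bool]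
  -- no odd normal subgroup
  have hcore : ∀ Y : Subgroup (K1 ⧸ N), Y.Normal → ¬ 2 ∣ Nat.card Y → Y = ⊥ := by
    intro Y hY hY2
    set P1 : Subgroup K1 := Y.comap π with hP1
    haveI : P1.Normal := hY.comap π
    set sK : K1 := ⟨s, hKS.le hsQ⟩
    have hsP : sK ∈ P1 := by
      show π sK ∈ Y
      rw [(hπ1 sK).2 (Subgroup.mem_sup_right (Subgroup.mem_zpowers s))]
      exact one_mem Y
    have hNP : N ≤ P1 := fun x hx => by
      show π x ∈ Y
      rw [(hπ1 x).2 (Subgroup.mem_subgroupOf.1 hx)]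
      exact one_mem Y
    have hcard : Nat.card P1 = Nat.card N * Nat.card Y := by
      have h := Subgroup.index_comap_of_surjective Y hπs
      have h1 := P1.card_mul_index
      have h2 := Y.card_mul_index
      have h3 := N.card_mul_index
      have h4 : N.index = Nat.card (K1 ⧸ N) := Subgroup.index_eq_card N
      rw [← hP1] at h
      rw [h] at h1
      rw [h4, ← h2] at h3
      have h5 : Nat.card P1 * Y.index = Nat.card N * Nat.card Y * Y.index := by rw [mul_assoc, h3, h1]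
      exact Nat.eq_of_mul_eq_mul_right (Nat.pos_of_ne_zero Subgroup.index_ne_zero_of_finite) h5
    set sP : P1 := ⟨sK, hsP⟩
    have hTp : IsPGroup 2 (Subgroup.zpowers sP) := IsPGroup.of_card (n := 1) (by
      rw [Nat.card_zpowers, ← Subgroup.orderOf_coe, ← Subgroup.orderOf_coe]; exact hs2)
    obtain ⟨T, hT⟩ := hTp.exists_le_sylow
    have hTeq : (T : Subgroup P1) = Subgroup.zpowers sP := by
      refine (Subgroup.eq_of_le_of_card_ge hT ?_).symm
      rw [T.card_eq_multiplicity, hcard, hNc, mul_assoc, Nat.factorization_mul (by norm_num)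
        (Nat.mul_pos Nat.card_pos Nat.card_pos).ne', Finsupp.add_apply, Nat.prime_two.factorization_self,
        Nat.factorization_eq_zero_of_not_dvd (fun h => (Nat.prime_two.dvd_mul.1 h).elim
          ((Nat.prime_two.coprime_iff_not_dvd).1 hθodd.symm) hY2),
        Nat.card_zpowers, ← Subgroup.orderOf_coe, ← Subgroup.orderOf_coe]
      exact le_of_eq hs2.symm
    have hcomm : ∀ x : K1, x * sK = sK * x := fun x => Subtype.ext (hcs (hK.le x.2))
    have hnpc : Cfsg.HasNormalPComplement 2 P1 := by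
      refine Transfer.hasNormalPComplement_of_normalizer_le_centralizer T fun x _ =>
        Subgroup.mem_centralizer_iff.2 fun p hp => ?_
      have hp' : p ∈ Subgroup.zpowers sP := by rw [← hTeq]; exact hp
      obtain ⟨k, rfl⟩ := Subgroup.mem_zpowers_iff.1 hp'
      exact ((show Commute sP x from Subtype.ext (hcomm x).symm).zpow_left k).eq
    set O : Subgroup K1 := (Cfsg.pPrimeCore 2 P1).map P1.subtype with hO
    have hOodd : (Nat.card O).Coprime 2 := by
      rw [hO, Subgroup.card_map_of_injective P1.subtype_injective]; exact Transfer.pPrimeCore_coprime 2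
    haveI hOn : O.Normal := ⟨fun o ho x => by
      have hmem : x * o * x⁻¹ ∈ P1 := Subgroup.Normal.conj_mem inferInstance o (Subgroup.map_subtype_le _ ho) x
      refine ⟨⟨_, hmem⟩, ?_, rfl⟩
      show _ ∈ Cfsg.pPrimeCore 2 _
      rw [Transfer.pPrimeCore_eq_pResidual hnpc]
      refine Transfer.mem_pResidual_of_coprime (Nat.Coprime.symm ?_).symm
      rw [← Subgroup.orderOf_coe]
      show (orderOf (x * o * x⁻¹)).Coprime 2
      rw [← MulAut.conj_apply, MulEquiv.orderOf_eq]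
      exact Transfer.coprime_orderOf_of_mem hOodd ho⟩
    have hPK : (Cfsg.pPrimeCore 2 K1).map K1.subtype ≤ θ := by
      refine Signalizer.le_centralizerPPrimeCore ((Subgroup.map_subtype_le _).trans hK.le)
        (Signalizer.le_normalizer_of_forall fun g hg y hy => ?_) ?_
      · obtain ⟨z, hz, rfl⟩ := hy
        let e : K1 →* K1 :=
          { toFun := fun l => ⟨g * l * g⁻¹, hK.conj g hg l l.2⟩
            map_one' := Subtype.ext (by simp)
            map_mul' := fun a b => Subtype.ext (by simp [mul_assoc]) }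
        have he : Function.Surjective e := Finite.surjective_of_injective fun a b h => Subtype.ext
          (mul_left_cancel (mul_right_cancel (congrArg Subtype.val h)))
        haveI := Transfer.pPrimeCore_normal 2 K1
        refine ⟨e z, Transfer.le_pPrimeCore (Subgroup.Normal.map inferInstance e he) ?_ ⟨z, hz, rfl⟩, rfl⟩
        exact Nat.Coprime.coprime_dvd_left (Subgroup.card_map_dvd _ e) (Transfer.pPrimeCore_coprime 2)
      · rw [Subgroup.card_map_of_injective K1.subtype_injective]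
        exact Transfer.pPrimeCore_coprime 2
    rw [eq_bot_iff]
    intro y hy
    obtain ⟨k, rfl⟩ := hπs y
    rw [Subgroup.mem_bot, hπ1]
    obtain ⟨Q', A, hA, hc'⟩ := hnpc
    obtain ⟨⟨a, q⟩, e⟩ := hc'.2 ⟨k, hy⟩
    have haθ : ((((a : P1)) : K1) : G) ∈ θ := by
      refine hPK ⟨_, Transfer.le_pPrimeCore hOn hOodd ⟨a, Transfer.le_pPrimeCore hA ?_ a.2, rfl⟩, rfl⟩
      refine Nat.Coprime.symm ((Nat.prime_two.coprime_iff_not_dvd).mpr ?_)
      rw [← hc'.index_eq_card]
      exact Q'.not_dvd_index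
    obtain ⟨g, hg⟩ := MulAction.exists_smul_eq P1 Q' T
    have hq : g * (q : P1) * g⁻¹ ∈ (T : Subgroup P1) := by rw [← hg]; exact ⟨q, q.2, rfl⟩
    rw [hTeq] at hq
    obtain ⟨r, hr⟩ := Subgroup.mem_zpowers_iff.1 hq
    have hct : Commute g (sP ^ r) := (show Commute g sP from Subtype.ext (hcomm g)).zpow_right r
    have hqv : (q : P1) = sP ^ r := by
      calc (q : P1) = g⁻¹ * (g * (q : P1) * g⁻¹) * g := by group
        _ = sP ^ r := by rw [← hr, mul_assoc, ← hct.eq]; group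
    have e' : (k : G) = (((a : P1) : K1) : G) * s ^ r := by
      have := congrArg (fun z : P1 => ((z : K1) : G)) e
      simp only [Subgroup.coe_mul, hqv] at this
      rw [← this]; rfl
    rw [e']
    exact mul_mem (Subgroup.mem_sup_left haθ)
      (Subgroup.mem_sup_right (Subgroup.zpow_mem_zpowers s r))
  -- the four-group
  set c : ℕ → K1 := fun x => if hx : φ x ∈ K1 then ⟨φ x, hx⟩ else 1 with hc
  have hcval : ∀ x ∈ qiL i j, (c x : G) = φ x := fun x hx => by
    simp [hc, dif_pos (hKS.le ((K.mem_sub X.qok).2 ⟨x, hx, rfl⟩))]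
  have hv1Q : ∀ x ∈ v1L j, x ∈ qiL i j := by
    intro x hx
    simp only [v1L, qiL, List.mem_cons, List.not_mem_nil, or_false] at hx ⊢
    tauto
  set QK : Subgroup K1 := (K.sub (qiL i j)).subgroupOf K1 with hQK
  set A : Subgroup (K1 ⧸ N) := QK.map π with hA
  have hAel : ∀ a ∈ A, ∃ x ∈ v1L j, π (c x) = a := by
    rintro _ ⟨q, hq, rfl⟩
    obtain ⟨x, hx, ex⟩ := (K.mem_sub X.qok).1 (Subgroup.mem_subgroupOf.1 hq)
    have hone : ∀ {x : ℕ}, x ∈ qiL i j → φ x ∈ N₀ → (q : G) = φ x →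
        ∃ y ∈ v1L j, π (c y) = π q := fun {x} hx hxN hqx => by
      refine ⟨0, by simp [v1L], ?_⟩
      rw [(hπ1 _).2 (by rw [hcval 0 (hv1Q 0 (by simp [v1L])), K.one]; exact one_mem _),
        (hπ1 _).2 (by rw [hqx]; exact hxN)]
    rcases X.qcase x hx with e | e | ⟨h, -⟩ | ⟨h, -⟩
    · exact hone hx (by rw [e, K.one]; exact one_mem _) ex.symm
    · exact hone hx (by rw [e]; exact Subgroup.mem_sup_right (Subgroup.mem_zpowers s)) ex.symm
    · exact ⟨x, h, congrArg π (Subtype.ext (by rw [hcval x hx, ex]))⟩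
    · refine ⟨_, h, (hπeq _ _).2 ?_⟩
      rw [hcval _ (hv1Q _ h), K.mul x (hqs x hx) i his, mul_inv_rev, mul_assoc, ← ex, inv_mul_cancel,
        mul_one]
      exact inv_mem (Subgroup.mem_sup_right (Subgroup.mem_zpowers s))
  have hcA : ∀ x ∈ v1L j, π (c x) ∈ A := fun x hx => ⟨c x, Subgroup.mem_subgroupOf.2 (by
    rw [hcval x (hv1Q x hx)]; exact (K.mem_sub X.qok).2 ⟨x, hv1Q x hx, rfl⟩), rfl⟩
  have hAinj : ∀ x ∈ v1L j, ∀ y ∈ v1L j, π (c x) = π (c y) → x = y := by
    intro x hx y hy e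
    rw [hπeq, hcval x (hv1Q x hx), hcval y (hv1Q y hy), ← K.inv_eq (hv1s x hx),
      ← K.mul _ (invI_spec (hv1s x hx)).1 y (hv1s y hy)] at e
    set z := mH (invI x) y with hz
    have hzV : z ∈ v1L j := by
      have h := X.v1ok
      simp only [lOK, Bool.and_eq_true, List.all_eq_true, List.contains_iff_mem] at h
      exact (h.2 _ (h.2 x hx).1.2).2 y hy
    have hzS := hv1s z hzV
    have hz0 : z = 0 := by
      by_contra h0
      have hT := hv1T z hzV h0
      have hz2 : orderOf (φ z) = 2 := orderOf_of_isConj K.t_order hT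
      obtain ⟨o, ho, e' | e'⟩ := hN₀el e
      · exact hθo o ho (by rw [← e', hz2])
      · have hos : o * s = s * o := hcs (hθC ho)
        have h2 : φ z * φ z = o * o := by
          rw [e']; calc o * s * (o * s) = o * (s * o) * s := by group
            _ = o * (o * s) * s := by rw [← hos]
            _ = o * o * (s * s) := by group
            _ = o * o := by rw [hss, mul_one]
        rw [mul_self_of hz2] at h2
        have ho1 : o = 1 := by
          by_contra h1
          exact hθo o ho (by rw [Invol.orderOf_two_of_mul_self h2.symm h1])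
        rw [ho1, one_mul] at e'
        exact F.z (hT.trans (e' ▸ (K.not_T_of_xList F hiX).symm))
    obtain ⟨hxI, hx1, -⟩ := invI_spec (hv1s x hx)
    refine K.inj x (hv1s x hx) y (hv1s y hy) ?_
    have h := K.mul _ hxI y (hv1s y hy)
    rw [← hz, hz0, K.one, K.inv_eq (hv1s x hx), eq_comm, inv_mul_eq_one] at h
    exact h
  have hA4 : Nat.card A = 4 := by
    refine (Nat.card_eq_of_bijective
      (fun x : {x // x ∈ (v1L j).toFinset} => (⟨π (c x.1), hcA _ (List.mem_toFinset.1 x.2)⟩ : A))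
      ⟨fun x y e => Subtype.ext (hAinj _ (List.mem_toFinset.1 x.2) _ (List.mem_toFinset.1 y.2)
        (congrArg Subtype.val e :)), ?_⟩).symm.trans ?_
    · rintro ⟨a, ha⟩
      obtain ⟨x, hx, rfl⟩ := hAel a ha
      exact ⟨⟨x, List.mem_toFinset.2 hx⟩, rfl⟩
    · rw [Nat.card_eq_finsetCard, List.toFinset_card_of_nodup X.v1nd]; rfl
  have hAsq : ∀ a ∈ A, a * a = 1 := by
    intro a ha
    obtain ⟨x, hx, rfl⟩ := hAel a ha
    rw [← map_mul, hπ1, Subgroup.coe_mul, hcval x (hv1Q x hx), ← K.mul x (hv1s x hx) x (hv1s x hx),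
      (X.qel x (hv1Q x hx)).2, K.one]
    exact one_mem _
  have hAne : ∀ a ∈ A, a ≠ 1 → ∃ x ∈ v1L j, x ≠ 0 ∧ π (c x) = a := by
    intro a ha ha1
    obtain ⟨x, hx, rfl⟩ := hAel a ha
    refine ⟨x, hx, fun h => ha1 ?_, rfl⟩
    rw [hπ1, hcval x (hv1Q x hx), h, K.one]
    exact one_mem _
  have hA2 : IsPGroup 2 A := IsPGroup.of_card (n := 2) (by rw [hA4]; norm_num)
  obtain ⟨T, hTA⟩ : ∃ T : Sylow 2 (K1 ⧸ N), A = (T : Subgroup (K1 ⧸ N)) := by
    obtain ⟨T, hT⟩ := hA2.exists_le_sylow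
    obtain ⟨TK⟩ := (inferInstance : Nonempty (Sylow 2 K1))
    have h8 : Nat.card (TK : Subgroup K1) ≤ 8 := by
      have h := hKS.card_le (Y := (TK : Subgroup K1).map K1.subtype) (Subgroup.map_subtype_le _)
        (TK.isPGroup'.map _)
      rwa [Subgroup.card_map_of_injective K1.subtype_injective, K.card_sub X.qok X.qnd] at h
    have hK1 : Nat.card K1 = 2 * Nat.card θ * Nat.card (K1 ⧸ N) := by
      rw [← hNc, ← Subgroup.index_eq_card N, N.card_mul_index]
    refine ⟨T, ?_⟩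
    · refine Subgroup.eq_of_le_of_card_ge hT ?_
      rw [hA4, T.card_eq_multiplicity]
      rw [TK.card_eq_multiplicity, hK1, Nat.factorization_mul (Nat.mul_pos two_pos Nat.card_pos).ne'
        Nat.card_pos.ne', Nat.factorization_mul (by norm_num) Nat.card_pos.ne', Finsupp.add_apply,
        Finsupp.add_apply, Nat.prime_two.factorization_self, pow_add, pow_add, pow_one] at h8
      have h1 := Nat.one_le_two_pow (n := (Nat.card θ).factorization 2)
      nlinarith [h8, h1]
  have hAsyl : SylIn ⊤ A := hTA ▸ sylIn_top T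
  have hA4' : Nat.card (T : Subgroup (K1 ⧸ N)) = 4 := hTA ▸ hA4
  have hKlein : IsKleinFour (T : Subgroup (K1 ⧸ N)) := by
    refine ⟨hA4', ((Nat.dvd_prime Nat.prime_two).1 (Monoid.exponent_dvd_of_forall_pow_eq_one fun a =>
      Subtype.ext (?_ : (a : K1 ⧸ N) ^ 2 = 1))).resolve_left fun h => ?_⟩
    · rw [pow_two]; exact hAsq _ (by rw [hTA]; exact a.2)
    · haveI := Monoid.exp_eq_one_iff.1 h
      rw [Nat.card_of_subsingleton (1 : (T : Subgroup (K1 ⧸ N)))] at hA4'
      omega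
  set M0 : Subgroup (K1 ⧸ N) := (M.subgroupOf K1).map π with hM0
  have hmemM0 : ∀ k : K1, π k ∈ M0 ↔ (k : G) ∈ M := fun k => by
    refine ⟨?_, fun h => ⟨k, h, rfl⟩⟩
    rintro ⟨m, hm, e⟩
    have h := mul_mem (Subgroup.mem_subgroupOf.1 hm) (hN₀M ((hπeq m k).1 e))
    rwa [mul_inv_cancel_left] at h
  have hAM : A ≤ M0 := by
    rintro _ ⟨q, hq, rfl⟩
    exact (hmemM0 q).2 (hQM (Subgroup.mem_subgroupOf.1 hq))
  have hus := (mem_centL.1 X.u_mem).1
  have hKM : ¬ ∀ k : K1, (k : G) ∈ M := fun h => hCM fun x hx => by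
    rcases hK.cover x hx with h' | h'
    · exact h ⟨x, h'⟩
    · have := mul_mem (h ⟨_, h'⟩) (inv_mem (hSM (K.mem u hus)))
      rwa [mul_inv_cancel_right] at this
  have hM0A : SylIn M0 A := by
    obtain ⟨A', hA', hAA'⟩ := sylIn_exists M0 A hAM hA2
    exact hA'.card_eq_sylow hAA' (hAsyl.card_le le_top hA'.two)
  have hone : ∀ a b : K1 ⧸ N, orderOf a = 2 → orderOf b = 2 → IsConj a b := by
    refine (CfsgLib.Invol.klein_complement_or_one_class T hKlein).resolve_left ?_
    rintro ⟨N', hN', hcp⟩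
    have hN'1 : N' = ⊥ := hcore N' hN' (by rw [← hcp.index_eq_card]; exact T.not_dvd_index)
    have hTtop : (T : Subgroup (K1 ⧸ N)) = ⊤ := by
      refine Subgroup.eq_top_of_card_eq _ ?_
      rw [← hcp.card_mul_card, hN'1, Subgroup.card_bot, one_mul]
    exact hKM fun k => (hmemM0 k).1 (hAM (by rw [hTA, hTtop]; exact Subgroup.mem_top _))
  -- involutions of `M0` lift to the first class
  have hlift : ∀ a ∈ M0, orderOf a = 2 → ∃ x ∈ v1L j, x ≠ 0 ∧ ∃ m : K1, (m : G) ∈ M ∧
      π (m * c x * m⁻¹) = a := by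
    intro a ha ha2
    obtain ⟨d, hd, hdA⟩ := hM0A.absorb (Subgroup.zpowers a) (Subgroup.zpowers_le.2 ha)
      (IsPGroup.of_card (n := 1) (by rw [Nat.card_zpowers, ha2]; rfl))
    obtain ⟨x, hx, hx0, ex⟩ := hAne _ (hdA a (Subgroup.mem_zpowers a)) fun h => by
      rw [conj_eq_one_iff] at h; rw [h, orderOf_one] at ha2; omega
    obtain ⟨m, hm, rfl⟩ := hd
    exact ⟨x, hx, hx0, m⁻¹, inv_mem hm, by rw [map_mul, map_mul, ex, inv_inv, map_inv]; group⟩
  have hM0se : Cfsg.IsStronglyEmbedded M0 := by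
    refine ⟨fun h => hKM fun k => (hmemM0 k).1 (h ▸ Subgroup.mem_top _),
      even_iff_two_dvd.2 ((show 2 ∣ Nat.card A by rw [hA4]; norm_num).trans (Subgroup.card_dvd_of_le hAM)),
      fun g hg => ?_⟩
    by_contra h2
    obtain ⟨a, ha⟩ := exists_prime_orderOf_dvd_card' (G := ↥(M0 ⊓ M0.map (MulAut.conj g).toMonoidHom)) 2
      (even_iff_two_dvd.1 (Nat.not_odd_iff_even.1 h2))
    rw [← Subgroup.orderOf_coe] at ha
    obtain ⟨haM, b, hb, hba⟩ := Subgroup.mem_inf.1 a.2
    have hb2 : orderOf b = 2 := by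
      rw [← ha, ← hba]; exact (MulEquiv.orderOf_eq _ _).symm
    obtain ⟨y, hy, hy0, m, hm, em⟩ := hlift b hb hb2
    obtain ⟨k, rfl⟩ := hπs g
    refine hg ((hmemM0 k).2 (D.tmove (v := (m : G) * φ y * (m : G)⁻¹)
      (mul_mem (mul_mem hm (hSM (K.mem y (hv1s y hy)))) (inv_mem hm))
      ((hv1T y hy hy0).trans (isConj_iff.2 ⟨(m : G), rfl⟩)) ?_))
    have : π (k * (m * c y * m⁻¹) * k⁻¹) ∈ M0 := by
      rw [map_mul, map_mul, em, map_inv]
      exact (show π k * b * (π k)⁻¹ = (a : K1 ⧸ N) from hba) ▸ haM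
    rw [hmemM0, Subgroup.coe_mul, Subgroup.coe_mul, Subgroup.coe_mul, Subgroup.coe_mul,
      InvMemClass.coe_inv, InvMemClass.coe_inv, hcval y (hv1Q y hy)] at this
    exact this
  -- lifts of odd order
  have hoddlift : ∀ k : K1, ¬ 2 ∣ orderOf (π k) →
      ∃ r : ℕ, π (k ^ r) = π k ∧ ¬ 2 ∣ orderOf ((k : G) ^ r) := by
    intro k hk
    obtain ⟨e, m, hm, hkm⟩ := Nat.exists_eq_two_pow_mul_odd (orderOf_pos k).ne'
    have hco : (2 ^ e).Coprime m := (Nat.coprime_two_left.2 hm).pow_left e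
    obtain ⟨r, hr0, hr1⟩ := Nat.chineseRemainder hco 0 1
    have hπm : orderOf (π k) ∣ m := by
      refine (Nat.Coprime.dvd_of_dvd_mul_left ((Nat.Coprime.pow_left e ((Nat.prime_two.coprime_iff_not_dvd).2 hk)).symm) ?_)
      rw [← hkm]; exact orderOf_map_dvd π k
    refine ⟨r, ?_, ?_⟩
    · rw [map_pow]
      refine (pow_eq_pow_iff_modEq.2 (Nat.ModEq.of_dvd hπm hr1)).trans (pow_one _)
    · have hd : orderOf ((k : G) ^ r) ∣ m := orderOf_dvd_of_pow_eq_one (by
        rw [← pow_mul, ← orderOf_dvd_iff_pow_eq_one, Subgroup.orderOf_coe, hkm]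
        exact Nat.mul_dvd_mul_right (Nat.modEq_zero_iff_dvd.1 hr0) m)
      exact fun h => hm.not_two_dvd_nat (h.trans hd)
  set W : Subgroup (K1 ⧸ N) := ((U ⊓ C).subgroupOf K1).map π with hW
  have hWM : W ≤ M0 := by
    rintro _ ⟨x, hx, rfl⟩
    exact (hmemM0 x).2 (Subgroup.le_normalizer (Subgroup.mem_inf.1 (Subgroup.mem_subgroupOf.1 hx)).1)
  have hWn : M0 ≤ Subgroup.normalizer (W : Set (K1 ⧸ N)) := by
    rintro _ ⟨m, hm, rfl⟩
    refine mem_normalizer_of_forall fun z hz => ?_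
    obtain ⟨x, hx, rfl⟩ := hz
    obtain ⟨hxU, hxC⟩ := Subgroup.mem_inf.1 (Subgroup.mem_subgroupOf.1 hx)
    exact ⟨m * x * m⁻¹, Subgroup.mem_inf.2 ⟨conj_of_mem_normalizer (Subgroup.mem_subgroupOf.1 hm) hxU,
      mul_mem (mul_mem (hK.le m.2) hxC) (inv_mem (hK.le m.2))⟩, by simp⟩
  have hWodd : ¬ 2 ∣ Nat.card W := fun h => D.odd (h.trans ((Subgroup.card_map_dvd _ π).trans (by
    rw [Nat.card_congr (Subgroup.subgroupOfEquivOfLe hUK).toEquiv]
    exact Subgroup.card_dvd_of_le inf_le_left)))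
  have hcent : ∀ v ∈ M0, orderOf v = 2 → ∀ x ∈ M0, x * v = v * x → ¬ 2 ∣ orderOf x → x ∈ W := by
    intro v hv hv2 x hx hxv hxo
    obtain ⟨y, hy, hy0, m, hm, em⟩ := hlift v hv hv2
    set x' := π m⁻¹ * x * (π m⁻¹)⁻¹ with hx'
    suffices hx'W : x' ∈ W by
      have := conj_of_mem_normalizer (hWn ((hmemM0 m).2 hm)) hx'W
      rwa [hx', map_inv, show π m * ((π m)⁻¹ * x * (π m)⁻¹⁻¹) * (π m)⁻¹ = x by group] at this
    have hx'o : ¬ 2 ∣ orderOf x' := by rwa [hx', ← MulAut.conj_apply, MulEquiv.orderOf_eq]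
    obtain ⟨k, hk⟩ := hπs x'
    rw [← hk] at hx'o
    obtain ⟨r, hr, hro⟩ := hoddlift k hx'o
    set xh : G := (k : G) ^ r with hxh
    have hxhK : xh ∈ K1 := pow_mem k.2 r
    have hxhM : xh ∈ M := by
      have : π (k ^ r) ∈ M0 := by
        rw [hr, hk, hx', map_inv]
        exact mul_mem (mul_mem (inv_mem ((hmemM0 m).2 hm)) hx) (inv_mem (inv_mem ((hmemM0 m).2 hm)))
      simpa using (hmemM0 _).1 this
    have hxhC : xh ∈ C := hK.le hxhK
    have hyC : φ y ∈ C := hK.le (hKS.le ((K.mem_sub X.qok).2 ⟨y, hv1Q y hy, rfl⟩))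
    have hy2 : φ y * φ y = 1 := by
      rw [← K.mul y (hv1s y hy) y (hv1s y hy), (X.qel y (hv1Q y hy)).2, K.one]
    have hyθ : φ y ∈ Subgroup.normalizer (θ : Set G) := Signalizer.centralizerPPrimeCore_normalized s hyC
    have hcom : π (c y) * π k = π k * π (c y) := by
      have h1 : x' * π (c y) = π (c y) * x' := by
        rw [hx', show π (c y) = π m⁻¹ * v * (π m⁻¹)⁻¹ by rw [← em, map_mul, map_mul, map_inv]; group]
        exact conj_comm hxv
      rw [hk]; exact h1.symm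
    -- the conjugate differs by an element of the core
    have hstep : ∀ o ∈ θ, xh⁻¹ * (φ y * (xh * o) * (φ y)⁻¹) ∈ θ := by
      intro o ho
      have h1 : xh⁻¹ * (φ y * xh * (φ y)⁻¹) ∈ N₀ := by
        have e : π (k ^ r) = π (c y * k ^ r * (c y)⁻¹) := by
          rw [map_mul, map_mul, hr, hcom, map_inv, mul_inv_cancel_right]
        have := (hπeq _ _).1 e
        simpa [hcval y (hv1Q y hy)] using this
      have h2 : φ y * o * (φ y)⁻¹ ∈ θ := conj_of_mem_normalizer hyθ ho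
      rw [show xh⁻¹ * (φ y * (xh * o) * (φ y)⁻¹) =
        xh⁻¹ * (φ y * xh * (φ y)⁻¹) * (φ y * o * (φ y)⁻¹) by group]
      refine mul_mem ?_ h2
      obtain ⟨o', ho', e | e⟩ := hN₀el h1
      · rwa [e]
      exfalso
      have hyo : orderOf (φ y * xh * (φ y)⁻¹) = orderOf xh := by
        rw [← MulAut.conj_apply, MulEquiv.orderOf_eq]
      have hso : s * (xh * o') = xh * o' * s := (hcs (mul_mem hxhC (hθC ho'))).symm
      have ey : φ y * xh * (φ y)⁻¹ = xh * o' * s := by
        rw [mul_assoc xh o' s, ← e, mul_inv_cancel_left]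
      set n := orderOf xh
      have hn : Odd n := Nat.odd_iff.2 (Nat.two_dvd_ne_zero.1 hro)
      have h3 : (xh * o') ^ n * s = 1 := by
        rw [← pow_odd_two hss hn, ← (show Commute (xh * o') s from hso.symm).mul_pow, ← ey, ← hyo,
          pow_orderOf_eq_one]
      haveI hθn : (θ.subgroupOf C).Normal := ⟨fun a ha g => Subgroup.mem_subgroupOf.2
        (conj_of_mem_normalizer (Signalizer.centralizerPPrimeCore_normalized s g.2)
          (Subgroup.mem_subgroupOf.1 ha))⟩
      have h4 : (xh * o') ^ n ∈ θ := by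
        set q := QuotientGroup.mk' (θ.subgroupOf C)
        have hz : q ((⟨xh, hxhC⟩ * ⟨o', hθC ho'⟩) ^ n) = 1 := by
          rw [map_pow, map_mul, show q ⟨o', hθC ho'⟩ = 1 from (QuotientGroup.eq_one_iff _).2 ho', mul_one,
            ← map_pow, show (⟨xh, hxhC⟩ : C) ^ n = 1 from Subtype.ext (pow_orderOf_eq_one xh), map_one]
        have := Subgroup.mem_subgroupOf.1 ((QuotientGroup.eq_one_iff _).1 hz)
        simpa using this
      exact hθo s (by rw [← inv_eq_of_mul_eq_one_right h3]; exact inv_mem h4) (by rw [hs2])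
    let σ : Equiv.Perm θ := Function.Involutive.toPerm
      (fun o => (⟨xh⁻¹ * (φ y * (xh * o) * (φ y)⁻¹), hstep o o.2⟩ : θ)) (fun o => Subtype.ext (by
        show xh⁻¹ * (φ y * (xh * (xh⁻¹ * (φ y * (xh * (o : G)) * (φ y)⁻¹))) * (φ y)⁻¹) = o
        rw [mul_inv_cancel_left, show φ y * (φ y * (xh * (o : G)) * (φ y)⁻¹) * (φ y)⁻¹ =
          φ y * φ y * (xh * (o : G)) * (φ y * φ y)⁻¹ by group, hy2]
        group))
    haveI := Fintype.ofFinite θ
    obtain ⟨o, ho⟩ := Equiv.Perm.exists_fixed_point_of_prime (p := 2) (n := 1)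
      (by rw [← Nat.card_eq_fintype_card]; exact (Nat.prime_two.coprime_iff_not_dvd).1 hθodd.symm)
      (σ := σ) (by
        ext1 o
        rw [pow_one, pow_two, Equiv.Perm.mul_apply, Equiv.Perm.one_apply]
        exact Function.Involutive.toPerm_involutive _ o)
    have hfix : φ y * (xh * o) * (φ y)⁻¹ = xh * o := by
      have h : xh⁻¹ * (φ y * (xh * (o : G)) * (φ y)⁻¹) = (o : G) := congrArg Subtype.val ho
      rwa [inv_mul_eq_iff_eq_mul] at h
    have hoK : xh * (o : G) ∈ K1 := mul_mem hxhK (hθK o.2)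
    have hπo : π ⟨xh * o, hoK⟩ = x' := by
      rw [← hk, ← hr, eq_comm, hπeq]
      show ((k : G) ^ r)⁻¹ * (xh * o) ∈ N₀
      rw [hxh, inv_mul_cancel_left]
      exact Subgroup.mem_sup_left o.2
    obtain ⟨r', hr', hro'⟩ := hoddlift ⟨_, hoK⟩ (by rw [hπo, ← hk]; exact hx'o)
    set a' : G := (xh * o) ^ r' with ha'
    have haC : a' ∈ C := hK.le (pow_mem hoK r')
    have hay : Commute a' (φ y) :=
      (show Commute (φ y) (xh * o) from mul_inv_eq_iff_eq_mul.1 hfix).symm.pow_left r'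
    have hyM : φ y ∈ M := hSM (K.mem y (hv1s y hy))
    obtain ⟨g, hg⟩ := isConj_iff.1 (hv1T y hy hy0)
    have hgy : g⁻¹ * φ y * g⁻¹⁻¹ = φ 128 := by rw [← hg]; group
    have hconj : ∀ {z : G}, z * φ y = φ y * z → g⁻¹ * z * g⁻¹⁻¹ ∈ K.cT := fun hz => K.mem_cT.2 (by
      rw [← hgy]; exact conj_comm hz)
    have hb := K.cent_odd hS F (x := g⁻¹ * a' * g⁻¹⁻¹) (s := g⁻¹ * s * g⁻¹⁻¹) (hconj hay.eq)
      (by rwa [← MulAut.conj_apply, MulEquiv.orderOf_eq])
      (by rw [← MulAut.conj_apply, MulEquiv.orderOf_eq, hs2]) (hconj (hcs hyC).symm)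
      (fun e => F.z ((hv1T y hy hy0).trans (by
        rw [← hgy] at e
        rw [← mul_left_cancel (mul_right_cancel e)]
        exact (K.not_T_of_xList F hiX).symm)))
      (conj_comm (hcs haC))
    have haθ : a' ∈ Cfsg.centralizerPPrimeCore 2 (φ y) := by
      rw [show φ y = g * φ 128 * g⁻¹ from hg.symm, Signalizer.centralizerPPrimeCore_conj]
      exact ⟨_, hb, by show g * (g⁻¹ * a' * g⁻¹⁻¹) * g⁻¹ = a'; group⟩
    refine ⟨⟨_, pow_mem hoK r'⟩, Subgroup.mem_subgroupOf.2
      (Subgroup.mem_inf.2 ⟨(D.cent hyM (hv1T y hy hy0)).1 haθ, haC⟩), ?_⟩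
    rw [← hπo, ← hr']
    rfl
  have hWbot := klein_small T hKlein hone hM0se (hTA ▸ hAM) hWM hWn hWodd hcent hcore
  intro z hz
  have hzN : z ∈ N₀ := by
    refine (hπ1 ⟨z, hUK hz⟩).1 ?_
    rw [← Subgroup.mem_bot, ← hWbot]
    exact ⟨_, Subgroup.mem_subgroupOf.2 hz, rfl⟩
  obtain ⟨o, ho, e | e⟩ := hN₀el hzN
  · rwa [e]
  · exfalso
    have : s ∈ U := by
      have h := mul_mem (inv_mem (hθU ho)) (Subgroup.mem_inf.1 hz).1
      rwa [e, inv_mul_cancel_left] at h
    exact D.odd (hs2 ▸ Subgroup.orderOf_coe (⟨s, this⟩ : U) ▸ orderOf_dvd_natCard _)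

end PHyp

end CfsgLib.M12Syl
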