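import Cfsg.Agent.Lib.M12Syl.XReduce

/-!
A subgroup of index two in the centraliser of an involution of the second class.
-/

set_option autoImplicit false
set_option linter.style.haveILetI false
set_option linter.unusedSectionVars false
set_option maxHeartbeats 1000000

namespace CfsgLib.M12Syl

open CfsgLib.M12Recog

/-- the facts recorded by `xOK` -/
structure XFacts (i j u : ℕ) : Prop where
  v1 : ∀ x ∈ v1L j, x ∈ wSub ∧ mH x i = mH i x
  v1ok : lOK (v1L j) = true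
  v1nd : (v1L j).Nodup
  qok : lOK (qiL i j) = true
  qnd : (qiL i j).Nodup
  len : (centL i).length = 16
  qel : ∀ x ∈ qiL i j, x ∈ centL i ∧ mH x x = 0
  qcase : ∀ x ∈ qiL i j, x = 0 ∨ x = i ∨ (x ∈ v1L j ∧ x ≠ 0) ∨ (mH x i ∈ v1L j ∧ mH x i ≠ 0)
  invol : ∀ x ∈ centL i, mH x x = 0 → x ≠ 0 → x ∈ v1L j ∨ x ∈ xList
  u_mem : u ∈ centL i
  u_sq : mH u u = 0
  u_ne : u ≠ 0 ∧ u ≠ i ∧ u ∉ qiL i j
  u_x : u ∈ xList ∧ mH u i ∈ xList
  u_cover : ∀ x ∈ centL i, x ∈ qiL i j ∨ mH x u ∈ qiL i j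

theorem xFacts_of {i j u : ℕ} (h : xOK i j u = true) : XFacts i j u := by
  simp only [xOK, Bool.and_eq_true, Bool.or_eq_true, List.all_eq_true, List.contains_iff_mem,
    beq_iff_eq, bne_iff_ne, decide_eq_true_eq, Bool.not_eq_true', ← Bool.not_eq_true] at h
  obtain ⟨⟨⟨⟨⟨⟨⟨⟨⟨⟨⟨⟨⟨⟨⟨⟨h1, h2⟩, h3⟩, h4⟩, h5⟩, h6⟩, h7⟩, h8⟩, h9⟩, h10⟩, h11⟩, h12⟩, h13⟩, h14⟩, h15⟩, h16⟩, h17⟩ := h
  refine ⟨h1, h2, h3, h4, h5, Nat.eq_of_beq_eq_true h6, h7, fun x hx => ?_, fun x hx h2' h0 => ?_, h10,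
    h11, ⟨h12, h13, h14⟩, ⟨h15, h16⟩, h17⟩
  · rcases h8 x hx with ((e | e) | e) | e
    exacts [.inl e, .inr (.inl e), .inr (.inr (.inl e)), .inr (.inr (.inr e))]
  · rcases h9 x hx with ((e | e) | e) | e
    exacts [absurd h2' e, absurd e h0, .inl e, .inr e]

namespace PHyp

variable {G : Type*} [Group G] {φ : ℕ → G} {S : Subgroup G} (K : PHyp φ S)
include K

theorem v1_T (F : Fus φ) {j x : ℕ} (hx : x ∈ v1L j) (hw : x ∈ wSub) (h0 : x ≠ 0) :
    IsConj (φ 128) (φ x) := by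
  rcases wSub_facts.2.2.1 x hw with rfl | rfl | h | h
  · exact absurd rfl h0
  · exact IsConj.refl _
  · exact F.nine.trans (K.isConj_class (c := (9, [9, 121])) (by simp [classesL]) h)
  · exact F.three.trans (K.isConj_class (c := (3, c3)) (by simp [classesL]) h)

/-- the properties of the subgroup of index two in the centraliser of `φ i` -/
structure IsK (i j u : ℕ) (K1 : Subgroup G) : Prop where
  le : K1 ≤ Subgroup.centralizer ({φ i} : Set G)
  conj : ∀ x ∈ Subgroup.centralizer ({φ i} : Set G), ∀ y ∈ K1, x * y * x⁻¹ ∈ K1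
  inter : ∀ x ∈ K.centS i, x ∈ K1 ↔ x ∈ K.sub (qiL i j)
  cover : ∀ x ∈ Subgroup.centralizer ({φ i} : Set G), x ∈ K1 ∨ x * φ u ∈ K1

theorem exists_K1 [Finite G] (F : Fus φ) {i j u : ℕ} (hiX : i ∈ xList) (X : XFacts i j u)
    (hR : SylIn (Subgroup.centralizer ({φ i} : Set G)) (K.centS i)) :
    ∃ K1 : Subgroup G, K.IsK i j u K1 := by
  classical
  haveI := Fact.mk Nat.prime_two
  obtain ⟨his, hi2, hi0, -⟩ := xList_spec i hiX
  set C := Subgroup.centralizer ({φ i} : Set G) with hC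
  set R := K.centS i with hRd
  have hqs : ∀ x ∈ qiL i j, x ∈ sylH := fun x hx => (mem_centL.1 (X.qel x hx).1).1
  have hus := (mem_centL.1 X.u_mem).1
  have hp : IsPGroup 2 (R.subgroupOf C) := IsPGroup.of_injective hR.two
    (Subgroup.subgroupOfEquivOfLe hR.le).toMonoidHom (Subgroup.subgroupOfEquivOfLe hR.le).injective
  obtain ⟨P, hP⟩ := hp.exists_le_sylow
  have hPS : (P : Subgroup C) = R.subgroupOf C := by
    refine (Subgroup.eq_of_le_of_card_ge hP ?_).symm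
    rw [Nat.card_congr (Subgroup.subgroupOfEquivOfLe hR.le).toEquiv,
      ← Subgroup.card_map_of_injective C.subtype_injective]
    exact hR.card_le (Subgroup.map_subtype_le _) (P.isPGroup'.map _)
  have hmemP : ∀ y : C, y ∈ (P : Subgroup C) ↔ (y : G) ∈ R := fun y => by rw [hPS]; rfl
  have hQR : K.sub (qiL i j) ≤ R := fun x hx => by
    obtain ⟨k, hk, rfl⟩ := (K.mem_sub X.qok).1 hx
    exact (K.mem_centS his).2 ⟨k, (X.qel k hk).1, rfl⟩
  set Q' : Subgroup C := (K.sub (qiL i j)).subgroupOf C with hQ'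
  have hQP : Q' ≤ (P : Subgroup C) := fun y hy => (hmemP y).2 (hQR hy)
  have hRcard : Nat.card R = 16 := by
    have hnd : (centL i).Nodup := (show sylH.Nodup by decide +kernel).filter _
    rw [← X.len, ← List.toFinset_card_of_nodup hnd, ← Nat.card_eq_finsetCard]
    refine (Nat.card_eq_of_bijective
      (fun k => ⟨φ k.1, (K.mem_centS his).2 ⟨k.1, List.mem_toFinset.1 k.2, rfl⟩⟩) ⟨?_, ?_⟩).symm
    · intro a b h
      exact Subtype.ext (K.inj _ (mem_centL.1 (List.mem_toFinset.1 a.2)).1 _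
        (mem_centL.1 (List.mem_toFinset.1 b.2)).1 (Subtype.ext_iff.1 h))
    · rintro ⟨x, hx⟩
      obtain ⟨k, hk, rfl⟩ := (K.mem_centS his).1 hx
      exact ⟨⟨k, List.mem_toFinset.2 hk⟩, rfl⟩
  have hrel : Q'.relIndex (P : Subgroup C) = 2 := by
    have h := Subgroup.card_mul_index (Q'.subgroupOf (P : Subgroup C))
    rw [Nat.card_congr (Subgroup.subgroupOfEquivOfLe hQP).toEquiv, hPS,
      Nat.card_congr (Subgroup.subgroupOfEquivOfLe (hQR.trans hR.le)).toEquiv,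
      Nat.card_congr (Subgroup.subgroupOfEquivOfLe hR.le).toEquiv,
      K.card_sub X.qok X.qnd, hRcard, show (qiL i j).length = 8 from rfl] at h
    rw [Subgroup.relIndex, hPS]
    omega
  set ψ := Transfer.sgnHom (Q'.subgroupOf (P : Subgroup C)) hrel with hψ
  set f := MonoidHom.transfer ψ with hf
  set c : ℕ → C := fun k => if hk : φ k ∈ C then ⟨φ k, hk⟩ else 1 with hc
  have hcval : ∀ k ∈ centL i, (c k : G) = φ k := fun k hk => by
    simp [hc, dif_pos (hR.le ((K.mem_centS his).2 ⟨k, hk, rfl⟩))]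
  haveI := Fintype.ofFinite (C ⧸ (P : Subgroup C))
  have hv1T : ∀ x ∈ v1L j, x ≠ 0 → IsConj (φ 128) (φ x) := fun x hx h0 =>
    K.v1_T F hx (X.v1 x hx).1 h0
  have hXT : ∀ {x : ℕ}, x ∈ xList → ¬ IsConj (φ 128) (φ x) := fun hx h =>
    F.z (h.trans (K.not_T_of_xList F hx).symm)
  have hv1Q : ∀ x ∈ v1L j, x ∈ qiL i j := by
    intro x hx
    simp only [v1L, qiL, List.mem_cons, List.not_mem_nil, or_false] at hx ⊢
    tauto
  have hmem : ∀ k ∈ centL i, ∀ a : C, a⁻¹ * c k * a ∈ (P : Subgroup C) → mH k k = 0 → k ≠ 0 →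
      ∃ l ∈ centL i, φ l = (a : G)⁻¹ * φ k * (a : G) ∧ mH l l = 0 ∧ l ≠ 0 := by
    intro k hk a ha h2 h0
    have hks := (mem_centL.1 hk).1
    have hm := (hmemP _).1 ha
    rw [Subgroup.coe_mul, Subgroup.coe_mul, hcval k hk, InvMemClass.coe_inv] at hm
    obtain ⟨l, hl, el, hl2, hl0⟩ := K.idx_conj_invol hks h2 h0
      (show (a : G)⁻¹ * φ k * (a : G)⁻¹⁻¹ ∈ S by rw [inv_inv]; exact (Subgroup.mem_inf.1 hm).1)
    rw [inv_inv] at el
    refine ⟨l, mem_centL.2 ⟨hl, (K.comm_iff hl his).1 ?_⟩, el, hl2, hl0⟩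
    rw [el]
    exact Subgroup.mem_centralizer_singleton_iff.1 (Subgroup.mem_inf.1 hm).2
  have hQiff : ∀ (a : C) (k l : ℕ), k ∈ centL i → l ∈ centL i → φ l = (a : G)⁻¹ * φ k * (a : G) →
      ∀ h : a⁻¹ * c k * a ∈ (P : Subgroup C),
      ((⟨_, h⟩ : (P : Subgroup C)) ∈ Q'.subgroupOf (P : Subgroup C) ↔ l ∈ qiL i j) := by
    intro a k l hk hl el h
    rw [Subgroup.mem_subgroupOf, hQ', Subgroup.mem_subgroupOf]
    show ((a⁻¹ * c k * a : C) : G) ∈ K.sub (qiL i j) ↔ _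
    rw [Subgroup.coe_mul, Subgroup.coe_mul, hcval k hk, InvMemClass.coe_inv, ← el, K.mem_sub X.qok]
    exact ⟨fun ⟨m, hm, e⟩ => K.inj m (hqs m hm) l (mem_centL.1 hl).1 e ▸ hm, fun h => ⟨l, h, rfl⟩⟩
  have hsq : ∀ k ∈ centL i, mH k k = 0 → c k * c k = 1 := fun k hk h2 => Subtype.ext (by
    rw [Subgroup.coe_mul, hcval k hk, ← K.mul k (mem_centL.1 hk).1 k (mem_centL.1 hk).1, h2, K.one,
      OneMemClass.coe_one])
  have hfQ : ∀ k ∈ centL i, mH k k = 0 → k ≠ 0 →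
      (∀ (a : C) (l : ℕ), l ∈ centL i → φ l = (a : G)⁻¹ * φ k * (a : G) → mH l l = 0 → l ≠ 0 → l ∈ qiL i j) →
      f (c k) = 1 := by
    intro k hk h2 h0 hl
    rw [hf, Transfer.transfer_of_sq_eq_one ψ (hsq k hk h2)]
    refine Finset.prod_eq_one fun q hq => ?_
    rw [dif_pos (Transfer.mem_of_smul_eq (Finset.mem_filter.1 hq).2)]
    obtain ⟨l, hlc, el, hl2, hl0⟩ := hmem k hk q.out (Transfer.mem_of_smul_eq (Finset.mem_filter.1 hq).2) h2 h0
    exact Transfer.sgnHom_eq_one_iff.2 ((hQiff _ k l hk hlc el _).2 (hl _ l hlc el hl2 hl0))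
  have hiC : i ∈ centL i := mem_centL.2 ⟨his, rfl⟩
  have hci : ∀ a : C, (a : G)⁻¹ * φ i * (a : G) = φ i := fun a => by
    rw [mul_assoc, ← Subgroup.mem_centralizer_singleton_iff.1 a.2]; group
  have hfi : f (c i) = 1 := hfQ i hiC hi2 hi0 fun a l hl el _ _ => by
    rw [hci a] at el
    rw [K.inj l (mem_centL.1 hl).1 i his el]
    simp [qiL]
  have hfv : ∀ x ∈ v1L j, x ≠ 0 → f (c x) = 1 := fun x hx h0 => by
    refine hfQ x (X.qel x (hv1Q x hx)).1 (X.qel x (hv1Q x hx)).2 h0 fun a l hl el hl2 hl0 => ?_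
    have hT : IsConj (φ 128) (φ l) := (hv1T x hx h0).trans (isConj_iff.2 ⟨(a : G)⁻¹, by rw [el]; group⟩)
    exact hv1Q l ((X.invol l hl hl2 hl0).resolve_right fun h => hXT h hT)
  have hfu : f (c u) = -1 := by
    rw [hf, Transfer.transfer_of_sq_eq_one ψ (hsq u X.u_mem X.u_sq),
      Finset.prod_congr rfl (g := fun _ => (-1 : ℤˣ)) fun q hq => by
        rw [dif_pos (Transfer.mem_of_smul_eq (Finset.mem_filter.1 hq).2)]
        refine (Int.units_eq_one_or _).resolve_left fun e => ?_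
        obtain ⟨l, hlc, el, hl2, hl0⟩ := hmem u X.u_mem q.out
          (Transfer.mem_of_smul_eq (Finset.mem_filter.1 hq).2) X.u_sq X.u_ne.1
        have hlQ := (hQiff _ u l X.u_mem hlc el _).1 (Transfer.sgnHom_eq_one_iff.1 e)
        rcases X.qcase l hlQ with e' | e' | ⟨h1, h2⟩ | ⟨h1, h2⟩
        · exact hl0 e'
        · refine X.u_ne.2.1 (K.inj u hus i his ?_)
          rw [e'] at el
          calc φ u = (q.out : G) * ((q.out : G)⁻¹ * φ u * (q.out : G)) * (q.out : G)⁻¹ := by group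
            _ = (q.out : G) * ((q.out : G)⁻¹ * φ i * (q.out : G)) * (q.out : G)⁻¹ := by rw [← el, hci]
            _ = φ i := by group
        · exact hXT X.u_x.1 ((hv1T l h1 h2).trans (isConj_iff.2 ⟨(q.out : G), by rw [el]; group⟩))
        · refine hXT X.u_x.2 ((hv1T _ h1 h2).trans (isConj_iff.2 ⟨(q.out : G), ?_⟩))
          rw [K.mul l (mem_centL.1 hlc).1 i his, K.mul u hus i his, el]
          conv_lhs => arg 1; arg 2; arg 2; rw [← hci q.out]
          group,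
      Finset.prod_const]
    exact (Transfer.odd_card_fixed (hsq u X.u_mem X.u_sq)
      (Nat.not_even_iff_odd.1 fun e => P.not_dvd_index (even_iff_two_dvd.1 e))).neg_one_pow
  clear_value f
  have hker : ∀ x ∈ qiL i j, f (c x) = 1 := by
    intro x hx
    have hxs := hqs x hx
    rcases X.qcase x hx with rfl | rfl | ⟨h, h0⟩ | ⟨h, h0⟩
    · have : c 0 = 1 := Subtype.ext (by rw [hcval 0 (X.qel 0 hx).1, K.one, OneMemClass.coe_one])
      rw [this, map_one]
    · exact hfi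
    · exact hfv x h h0
    · have e : c x = c (mH x i) * c i := Subtype.ext (by
        rw [Subgroup.coe_mul, hcval x (X.qel x hx).1, hcval _ (X.qel _ (hv1Q _ h)).1, hcval i hiC,
          K.mul x hxs i his, mul_assoc, ← K.mul i his i his, hi2, K.one, mul_one])
      rw [e, map_mul, hfv _ h h0, hfi, one_mul]
  have hQker : K.sub (qiL i j) ≤ f.ker.map C.subtype := by
    intro x hx
    obtain ⟨k, hk, rfl⟩ := (K.mem_sub X.qok).1 hx
    exact ⟨c k, hker k hk, hcval k (X.qel k hk).1⟩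
  refine ⟨f.ker.map C.subtype, Subgroup.map_subtype_le _, ?_, fun x hx => ⟨?_, fun h => hQker h⟩, ?_⟩
  · rintro x hx _ ⟨y, hy, rfl⟩
    refine ⟨⟨x, hx⟩ * y * ⟨x, hx⟩⁻¹, ?_, rfl⟩
    show f (_ * _ * _) = 1
    rw [map_mul, map_mul, map_inv, MonoidHom.mem_ker.1 hy, mul_one, mul_inv_cancel]
  · rintro ⟨y, hy, rfl⟩
    obtain ⟨k, hk, ek⟩ := (K.mem_centS his).1 hx
    refine (K.mem_sub X.qok).2 ⟨k, (X.u_cover k hk).resolve_right fun h => ?_, ek⟩
    obtain ⟨z, hz, ez⟩ := hQker ((K.mem_sub X.qok).2 ⟨_, h, rfl⟩)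
    have e : y * c u = z := Subtype.ext (by
      rw [Subgroup.coe_mul, hcval u X.u_mem]
      show C.subtype y * φ u = C.subtype z
      rw [← ek, ez, K.mul k (mem_centL.1 hk).1 u hus])
    have h' := congrArg f e
    rw [map_mul, hfu, MonoidHom.mem_ker.1 hy, MonoidHom.mem_ker.1 hz, one_mul] at h'
    exact absurd h' (by decide)
  · intro x hx
    by_cases h : f ⟨x, hx⟩ = 1
    · exact .inl ⟨⟨x, hx⟩, h, rfl⟩
    · refine .inr ⟨⟨x, hx⟩ * c u, ?_, by simp [hcval u X.u_mem]⟩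
      show f _ = 1
      rw [map_mul, hfu, (Int.units_eq_one_or _).resolve_left h]; rfl

theorem IsK.odd_mem {i j u : ℕ} {K1 : Subgroup G} (h : K.IsK i j u K1) (X : XFacts i j u)
    (his : i ∈ sylH) {x : G} (hx : x ∈ Subgroup.centralizer ({φ i} : Set G)) (ho : ¬ 2 ∣ orderOf x) :
    x ∈ K1 := by
  obtain ⟨hus, hui⟩ := mem_centL.1 X.u_mem
  have huC : φ u ∈ Subgroup.centralizer ({φ i} : Set G) :=
    Subgroup.mem_centralizer_singleton_iff.2 ((K.comm_iff hus his).2 hui)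
  have huu : φ u * φ u = 1 := by rw [← K.mul u hus u hus, X.u_sq, K.one]
  have hsq : x * x ∈ K1 := by
    rcases h.cover x hx with h' | h'
    · exact mul_mem h' h'
    · have h'' := mul_mem h' (h.conj _ huC _ h')
      rwa [show x * φ u * (φ u * (x * φ u) * (φ u)⁻¹) = x * (φ u * φ u) * x by group, huu, mul_one] at h''
  obtain ⟨k, hk⟩ : ∃ k, orderOf x = 2 * k + 1 := ⟨orderOf x / 2, by omega⟩
  have e : x = (x * x) ^ (k + 1) := by
    rw [← pow_two, ← pow_mul, show 2 * (k + 1) = orderOf x + 1 by omega, pow_succ, pow_orderOf_eq_one,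
      one_mul]
  rw [e]
  exact pow_mem hsq _

theorem IsK.sylIn [Finite G] {i j u : ℕ} {K1 : Subgroup G} (h : K.IsK i j u K1) (X : XFacts i j u)
    (his : i ∈ sylH) (hR : SylIn (Subgroup.centralizer ({φ i} : Set G)) (K.centS i)) :
    SylIn K1 (K.sub (qiL i j)) := by
  obtain ⟨hus, hui⟩ := mem_centL.1 X.u_mem
  have huC : φ u ∈ Subgroup.centralizer ({φ i} : Set G) :=
    Subgroup.mem_centralizer_singleton_iff.2 ((K.comm_iff hus his).2 hui)
  have huR : φ u ∈ K.centS i := (K.mem_centS his).2 ⟨u, X.u_mem, rfl⟩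
  have hQR : ∀ x ∈ K.sub (qiL i j), x ∈ K.centS i := fun x hx => by
    obtain ⟨k, hk, rfl⟩ := (K.mem_sub X.qok).1 hx
    exact (K.mem_centS his).2 ⟨k, (X.qel k hk).1, rfl⟩
  refine ⟨fun x hx => (h.inter x (hQR x hx)).2 hx, hR.two.to_le hQR, fun Y hY hY2 => ?_⟩
  obtain ⟨d, hd, hdY⟩ := hR.absorb Y (hY.trans h.le) hY2
  rcases h.cover d hd with h' | h'
  · exact ⟨d, h', fun y hy => (h.inter _ (hdY y hy)).1 (h.conj d hd y (hY hy))⟩
  · have hdu : φ u * d ∈ K1 := by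
      have := h.conj (φ u) huC _ h'
      rwa [show φ u * (d * φ u) * (φ u)⁻¹ = φ u * d by group] at this
    refine ⟨φ u * d, hdu, fun y hy => (h.inter _ ?_).1 (h.conj _ (mul_mem huC hd) y (hY hy))⟩
    rw [show φ u * d * y * (φ u * d)⁻¹ = φ u * (d * y * d⁻¹) * (φ u)⁻¹ by group]
    exact mul_mem (mul_mem huR (hdY y hy)) (inv_mem huR)

end PHyp

end CfsgLib.M12Syl
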