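import Cfsg.Agent.Lib.M12Syl.Cores

/-!
The involutions of the second class in the normaliser of the subgroup generated by the cores.
-/

set_option autoImplicit false
set_option linter.style.haveILetI false
set_option linter.unusedSectionVars false
set_option maxHeartbeats 1000000

namespace CfsgLib.M12Syl

open CfsgLib.M12Recog

/-- the involutions of the second class with large centralisers -/
def xList : List ℕ := c25 ++ c26 ++ c107

/-- the four-group in the first class centralising an index of `xList` -/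
noncomputable def v1L (j : ℕ) : List ℕ := [0, 128, j, mH j 128]

/-- the elementary abelian group generated by this and the index -/
noncomputable def qiL (i j : ℕ) : List ℕ :=
  [0, 128, j, mH j 128, i, mH i 128, mH i j, mH (mH i j) 128]

/-- the checks on the centraliser of an index -/
noncomputable def xOK (i j u : ℕ) : Bool :=
  (v1L j).all (fun x => wSub.contains x && mH x i == mH i x) && lOK (v1L j) && decide (v1L j).Nodup &&
    lOK (qiL i j) && decide (qiL i j).Nodup && Nat.beq (centL i).length 16 &&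
    (qiL i j).all (fun x => (centL i).contains x && mH x x == 0) &&
    ((qiL i j).all fun x => x == 0 || x == i || ((v1L j).contains x && x != 0) ||
      ((v1L j).contains (mH x i) && mH x i != 0)) &&
    ((centL i).all fun x => mH x x != 0 || x == 0 || (v1L j).contains x || xList.contains x) &&
    (centL i).contains u && mH u u == 0 && u != 0 && u != i && !(qiL i j).contains u &&
    xList.contains u && xList.contains (mH u i) &&
    ((centL i).all fun x => (qiL i j).contains x || (qiL i j).contains (mH x u))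

theorem xList_spec : ∀ i ∈ xList, i ∈ sylH ∧ mH i i = 0 ∧ i ≠ 0 ∧
    ∃ j u, xOK i j u = true := by
  have h : (xList.all fun i => sylH.contains i && mH i i == 0 && i != 0 &&
      wSub.any fun j => (centL i).any fun u => xOK i j u) = true := by decide +kernel
  simp only [List.all_eq_true, Bool.and_eq_true, List.any_eq_true, List.contains_iff_mem, beq_iff_eq,
    bne_iff_ne] at h
  intro i hi
  obtain ⟨⟨⟨a, b⟩, c⟩, j, -, u, -, e⟩ := h i hi
  exact ⟨a, b, c, j, u, e⟩

namespace PHyp

variable {G : Type*} [Group G] {φ : ℕ → G} {S : Subgroup G} (K : PHyp φ S)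
include K

theorem not_T_of_xList (F : Fus φ) {i : ℕ} (hi : i ∈ xList) : IsConj (φ 25) (φ i) := by
  rcases List.mem_append.1 hi with h | h
  · rcases List.mem_append.1 h with h | h
    · exact K.isConj_class (c := (25, c25)) (by simp [classesL]) h
    · exact F.z26.trans (K.isConj_class (c := (26, c26)) (by simp [classesL]) h)
  · exact F.z107.trans (K.isConj_class (c := (107, c107)) (by simp [classesL]) h)

theorem MData.sylIn [Finite G] {U : Subgroup G} (D : K.MData U) (hS : SylIn ⊤ S) :
    SylIn (Subgroup.normalizer (U : Set G)) S := by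
  have hle : S ≤ Subgroup.normalizer (U : Set G) := fun x hx => D.cT_le (K.mem_cT.2 (K.t_central hx))
  obtain ⟨S', hS', hSS'⟩ := sylIn_exists _ S hle hS.two
  exact hS'.card_eq_sylow hSS' (hS.card_le le_top hS'.two)

/-- An involution of the second class in `M` is conjugate in `M` to one with a large centraliser in `S`,
whose centraliser there is a Sylow 2-subgroup of the whole centraliser. -/
theorem x_reduce [Finite G] (hS : SylIn ⊤ S) (F : Fus φ) {U : Subgroup G} (D : K.MData U) {s : G}
    (hs : s ∈ Subgroup.normalizer (U : Set G)) (hc : IsConj (φ 25) s) :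
    ∃ m ∈ Subgroup.normalizer (U : Set G), ∃ i ∈ xList, m * s * m⁻¹ = φ i ∧
      SylIn (Subgroup.centralizer ({φ i} : Set G)) (K.centS i) := by
  classical
  set M := Subgroup.normalizer (U : Set G) with hM
  have hMS := D.sylIn K hS
  have h25 : orderOf (φ 25) = 2 :=
    K.orderOf_two (heads_ok 25 (by simp)) (sylH_sq_ok 25 (by simp)) (by norm_num)
  have hs2 : orderOf s = 2 := orderOf_of_isConj h25 hc
  set C := Subgroup.centralizer ({s} : Set G) with hC
  obtain ⟨R, hR, hsR⟩ := sylIn_exists (M ⊓ C) (Subgroup.zpowers s)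
    (Subgroup.zpowers_le.2 (Subgroup.mem_inf.2 ⟨hs, Subgroup.mem_centralizer_singleton_iff.2 rfl⟩))
    (IsPGroup.of_card (n := 1) (by rw [Nat.card_zpowers, hs2]; rfl))
  obtain ⟨d, hd, hdR⟩ := hMS.absorb R (hR.le.trans inf_le_left) hR.two
  obtain ⟨i, hi, ei, hi2, hi0⟩ := K.idx_invol (orderOf_of_isConj hs2 (isConj_iff.2 ⟨d, rfl⟩))
    (hdR s (hsR (Subgroup.mem_zpowers s)))
  set z := d⁻¹ * φ 128 * d with hz
  have hzM : z ∈ M := mul_mem (mul_mem (inv_mem hd) (D.cT_le (K.mem_cT.2 rfl))) hd
  have hzT : IsConj (φ 128) z := isConj_iff.2 ⟨d⁻¹, by rw [hz, inv_inv]⟩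
  have hzc : ∀ r ∈ R, r * z = z * r := by
    intro r hr
    have h := conj_comm (g := d⁻¹) (K.t_central (hdR r hr))
    rw [show d⁻¹ * (d * r * d⁻¹) * d⁻¹⁻¹ = r by group, inv_inv, ← hz] at h
    exact h
  have hzR : z ∈ R := by
    set Y := (K.centS i).map (MulAut.conj d⁻¹).toMonoidHom with hY
    have hYle : Y ≤ M ⊓ C := by
      rintro _ ⟨y, hy, rfl⟩
      refine Subgroup.mem_inf.2 ⟨mul_mem (mul_mem (inv_mem hd) (hMS.le (Subgroup.mem_inf.1 hy).1))
        (inv_mem (inv_mem hd)), Subgroup.mem_centralizer_singleton_iff.2 ?_⟩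
      have h := conj_comm (g := d⁻¹) (Subgroup.mem_centralizer_singleton_iff.1 (Subgroup.mem_inf.1 hy).2)
      rwa [ei, show d⁻¹ * (d * s * d⁻¹) * d⁻¹⁻¹ = s by group] at h
    have hRY : R ≤ Y := by
      intro r hr
      refine ⟨d * r * d⁻¹, Subgroup.mem_inf.2 ⟨hdR r hr, Subgroup.mem_centralizer_singleton_iff.2 ?_⟩, ?_⟩
      · rw [ei]
        exact conj_comm (Subgroup.mem_centralizer_singleton_iff.1 (Subgroup.mem_inf.1 (hR.le hr)).2)
      · show d⁻¹ * (d * r * d⁻¹) * d⁻¹⁻¹ = r
        group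
    have hY2 : IsPGroup 2 Y := (hS.two.to_le inf_le_left).map _
    rw [Subgroup.eq_of_le_of_card_ge hRY (hR.card_le hYle hY2)]
    exact ⟨φ 128, Subgroup.mem_inf.2 ⟨K.mem _ z_central.1, Subgroup.mem_centralizer_singleton_iff.2
      (K.t_central (K.mem i hi)).symm⟩, by show d⁻¹ * φ 128 * d⁻¹⁻¹ = z; rw [hz, inv_inv]⟩
  obtain ⟨R1, hR1, hRR1⟩ := sylIn_exists C R (hR.le.trans inf_le_right) hR.two
  have hR1M : R1 ≤ M := by
    by_contra hne
    set R' := R.subgroupOf R1 with hR'
    haveI := Fact.mk Nat.prime_two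
    haveI : Group.IsNilpotent R1 := hR1.two.isNilpotent
    have hlt : R' < ⊤ := lt_top_iff_ne_top.2 fun h => hne ((Subgroup.subgroupOf_eq_top.1 h).trans
      (hR.le.trans inf_le_left))
    obtain ⟨g, hg, hgR⟩ := SetLike.exists_of_lt (Group.normalizerCondition_of_isNilpotent R' hlt)
    have hgz : (g : G) * z * (g : G)⁻¹ ∈ R :=
      ((Subgroup.mem_normalizer_iff.1 hg) ⟨z, hRR1 hzR⟩).1 hzR
    have hgM : (g : G) ∈ M := D.tmove hzM hzT (hR.le hgz).1
    refine hgR ?_
    have hsup : (Subgroup.normalizer (R' : Set R1) ⊓ M.subgroupOf R1).map R1.subtype ≤ M ⊓ C := by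
      rintro _ ⟨x, hx, rfl⟩
      exact Subgroup.mem_inf.2 ⟨(Subgroup.mem_inf.1 hx).2, hR1.le x.2⟩
    have hle : R ≤ (Subgroup.normalizer (R' : Set R1) ⊓ M.subgroupOf R1).map R1.subtype := fun r hr =>
      ⟨⟨r, hRR1 hr⟩, Subgroup.mem_inf.2 ⟨Subgroup.le_normalizer hr, (hR.le hr).1⟩, rfl⟩
    have heq := Subgroup.eq_of_le_of_card_ge hle (hR.card_le hsup (hR1.two.to_le (Subgroup.map_subtype_le _)))
    show (g : G) ∈ R
    rw [heq]
    exact ⟨g, Subgroup.mem_inf.2 ⟨hg, hgM⟩, rfl⟩
  have hRC : R = R1 := Subgroup.eq_of_le_of_card_ge hRR1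
    (hR.card_le (le_inf hR1M hR1.le) hR1.two)
  subst hRC
  have hmapR : R.map (MulAut.conj d).toMonoidHom ≤ K.centS i := by
    rintro _ ⟨r, hr, rfl⟩
    refine Subgroup.mem_inf.2 ⟨hdR r hr, Subgroup.mem_centralizer_singleton_iff.2 ?_⟩
    rw [ei]
    exact conj_comm (Subgroup.mem_centralizer_singleton_iff.1 (hR1.le hr))
  have hSyl : SylIn (Subgroup.centralizer ({φ i} : Set G)) (K.centS i) := by
    refine ⟨inf_le_right, hS.two.to_le inf_le_left, fun Y hY hY2 => ?_⟩
    obtain ⟨c, hc', hcY⟩ := hR1.absorb (Y.map (MulAut.conj d⁻¹).toMonoidHom) (by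
      rintro _ ⟨y, hy, rfl⟩
      refine Subgroup.mem_centralizer_singleton_iff.2 ?_
      have h := conj_comm (g := d⁻¹) (Subgroup.mem_centralizer_singleton_iff.1 (hY hy))
      rwa [ei, show d⁻¹ * (d * s * d⁻¹) * d⁻¹⁻¹ = s by group] at h) (hY2.map _)
    refine ⟨d * c * d⁻¹, Subgroup.mem_centralizer_singleton_iff.2 ?_, fun y hy => ?_⟩
    · rw [ei]; exact conj_comm (Subgroup.mem_centralizer_singleton_iff.1 hc')
    · refine hmapR ⟨_, hcY _ ⟨y, hy, rfl⟩, ?_⟩
      show d * (c * (d⁻¹ * y * d⁻¹⁻¹) * c⁻¹) * d⁻¹ = d * c * d⁻¹ * y * (d * c * d⁻¹)⁻¹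
      group
  refine ⟨d, hd, i, ?_, ei.symm, hSyl⟩
  -- the centraliser is large
  obtain ⟨c, hc'⟩ := isConj_iff.1 (hc.trans (isConj_iff.2 ⟨d, ei.symm⟩))
  have h16 : 16 ≤ (centL i).length := by
    have hcard : ∀ u ∈ sylH, Nat.card (K.centS u) = (centL u).length := by
      intro u hu
      have hnd : (centL u).Nodup := (show sylH.Nodup by decide +kernel).filter _
      rw [← List.toFinset_card_of_nodup hnd, ← Nat.card_eq_finsetCard]
      refine (Nat.card_eq_of_bijective
        (fun j => ⟨φ j.1, (K.mem_centS hu).2 ⟨j.1, List.mem_toFinset.1 j.2, rfl⟩⟩) ⟨?_, ?_⟩).symm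
      · intro a b h
        exact Subtype.ext (K.inj _ (mem_centL.1 (List.mem_toFinset.1 a.2)).1 _
          (mem_centL.1 (List.mem_toFinset.1 b.2)).1 (Subtype.ext_iff.1 h))
      · rintro ⟨x, hx⟩
        obtain ⟨j, hj, rfl⟩ := (K.mem_centS hu).1 hx
        exact ⟨⟨j, List.mem_toFinset.2 hj⟩, rfl⟩
    have h := hSyl.card_le (Y := (K.centS 25).map (MulAut.conj c).toMonoidHom) (by
      rintro _ ⟨y, hy, rfl⟩
      refine Subgroup.mem_centralizer_singleton_iff.2 ?_
      rw [← hc']
      exact conj_comm (Subgroup.mem_centralizer_singleton_iff.1 (Subgroup.mem_inf.1 hy).2))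
      ((hS.two.to_le inf_le_left).map _)
    rw [Subgroup.card_map_of_injective (MulEquiv.injective _), hcard i hi, hcard 25 (heads_ok 25 (by simp)),
      show (centL 25).length = 16 by decide +kernel] at h
    exact h
  have hbig : ∀ k ∈ sylH, mH k k = 0 → k ≠ 0 → 16 ≤ (centL k).length →
      k ∈ xList ∨ k ∈ [9, 121, 128] ∨ k ∈ c3 := by
    have h : (sylH.all fun k => mH k k != 0 || k == 0 || !Nat.ble 16 (centL k).length ||
        xList.contains k || [9, 121, 128].contains k || c3.contains k) = true := by decide +kernel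
    simp only [List.all_eq_true, Bool.or_eq_true, bne_iff_ne, beq_iff_eq, List.contains_iff_mem,
      Bool.not_eq_true', ← Bool.not_eq_true, Nat.ble_eq] at h
    intro k hk h2 h0 h16
    rcases h k hk with ((((e | e) | e) | e) | e) | e
    exacts [absurd h2 e, absurd e h0, absurd h16 e, .inl e, .inr (.inl e), .inr (.inr e)]
  rcases hbig i hi hi2 hi0 h16 with h | h | h
  · exact h
  · refine (F.z (IsConj.trans ?_ (hc.trans (isConj_iff.2 ⟨d, ei.symm⟩)).symm)).elim
    simp only [List.mem_cons, List.not_mem_nil, or_false] at h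
    rcases h with rfl | rfl | rfl
    · exact F.nine
    · exact F.nine.trans (K.isConj_class (c := (9, [9, 121])) (by simp [classesL]) (by simp))
    · exact IsConj.refl _
  · exact (F.z (IsConj.trans (F.three.trans (K.isConj_class (c := (3, c3)) (by simp [classesL]) h))
      (hc.trans (isConj_iff.2 ⟨d, ei.symm⟩)).symm)).elim

end PHyp

end CfsgLib.M12Syl
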